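import Groth.Agent.CubicPts.FivePoints

/-! T-points in the tangent plane at a point which is not a T-point. -/

set_option autoImplicit false

open MvPolynomial

set_option maxHeartbeats 1000000

namespace Groth.Agent.CubicPts

variable {K : Type*} [Field K] [CharZero K] {F : MvPolynomial (Fin 4) K}

/-- along a family passing through a non-T-point, only finitely many members are T-points -/
theorem finite_bad (hF : F.IsHomogeneous 3) (fr : Frame F) (b : Fin 4 → Polynomial K) (hb : aeval b F = 0)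
    {t0 δ : K} (hδ : δ ≠ 0) (ht0 : ∀ j, (b j).eval t0 = δ * fr.a j) :
    {t : K | TP F (fun j => (b j).eval t)}.Finite := by
  obtain ⟨a, e, hFa, g0, g1, g2, hbasis, hnd⟩ := fr
  obtain ⟨i, hi⟩ := NDiv_iff_mnr.1 hnd
  have hi' : ndv F a (e 1) (e 2) i ≠ 0 := hi
  let R := Polynomial K
  let ι : (Fin 4 → K) → (Fin 4 → R) := fun x j => algebraMap K R (x j)
  set γ := Dv F b (ι (e 0))
  let v : Fin 2 → (Fin 4 → R) := fun j => γ • ι (e j.succ) + (-Dv F b (ι (e j.succ))) • ι (e 0)
  set m : R := γ * ndv F b (v 0) (v 1) i with hm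
  have hφb : ∀ t, (fun j => Polynomial.aeval t (b j)) = fun j => (b j).eval t := fun t =>
    funext fun j => Polynomial.coe_aeval_eq_eval t ▸ rfl
  have hbv : ∀ j : Fin 2, Dv F b (v j) = 0 := fun j => by simp only [v, Dv_comb, γ]; ring
  have hφι : ∀ (t : K) x, (fun j => Polynomial.aeval t (ι x j)) = x := fun t x =>
    funext fun j => (Polynomial.aeval t).commutes (x j)
  have hm0 : m ≠ 0 := by
    intro h
    have := congrArg (Polynomial.aeval t0) h
    have hb0 : (fun j => Polynomial.aeval t0 (b j)) = δ • a := by rw [hφb]; exact funext fun j => ht0 j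
    have hD : ∀ x, Polynomial.aeval t0 (Dv F b (ι x)) = δ ^ 2 * Dv F a x := fun x => by
      rw [map_Dv, hb0, hφι, Dv_smul hF]
    have hv : ∀ j : Fin 2, (fun l => Polynomial.aeval t0 (v j l)) = δ ^ 2 • e j.succ := fun j => funext fun l => by
      have hg : Dv F a (e j.succ) = 0 := by fin_cases j <;> assumption
      simp only [v, γ, Pi.add_apply, Pi.smul_apply, smul_eq_mul, map_add, map_mul, map_neg, hD, g0, hg, mul_zero, neg_zero,
        zero_mul, add_zero, mul_one, congrFun (hφι t0 _) l]
    rw [hm, map_mul, map_ndv, hb0, hv, hv, ndv_smul F hF, hD, g0, map_zero, mul_one] at this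
    simp only [Fin.succ_zero_eq_one, Fin.succ_one_eq_two] at this
    exact mul_ne_zero (pow_ne_zero _ hδ) (mul_ne_zero (mul_ne_zero (pow_ne_zero _ hδ) (pow_ne_zero _ (pow_ne_zero _ hδ))) hi') this
  refine (Polynomial.finite_setOfPred_isRoot hm0).subset fun t ht => ?_
  by_contra hroot
  have hmt : Polynomial.aeval t m ≠ 0 := by rw [Polynomial.coe_aeval_eq_eval]; exact hroot
  rw [hm, map_mul, map_ndv] at hmt
  refine not_TP_of_ndv hF ?_ ?_ ?_ (right_ne_zero_of_mul hmt) (by rwa [hφb])
  · rw [hφb, ← aeval_eq_eval, ← hφb, ← map_ev, hb, map_zero]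
  · rw [← map_Dv, hbv, map_zero]
  · rw [← map_Dv, hbv, map_zero]

variable [IsAlgClosed K]

/-- T-points on the tangent plane at a non-T-point -/
theorem finite_TP_tangent (hF : F.IsHomogeneous 3) (fr : Frame F) :
    {U : Submodule K (Fin 4 → K) | ∃ p, p ≠ 0 ∧ U = Submodule.span K {p} ∧ eval p F = 0 ∧
      Dv F fr.a p = 0 ∧ p ∉ Submodule.span K {fr.a} ∧ TP F p ∧ ∀ c : K, c ≠ 0 → TP F (c • p)}.Finite := by
  classical
  obtain ⟨n, d, w0, hnd, hn0, hwn, hwd⟩ := exists_param fr.ndiv K
  set a := fr.a with ha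
  set e1 := fr.e 1 with he1
  set e2 := fr.e 2 with he2
  set A := Dv F e1 a
  set B := Dv F (e1 + e2) a - Dv F e1 a - Dv F e2 a
  set C' := Dv F e2 a
  set c0 := aeval e1 F
  set c1 := Dv F e1 e2
  set c2 := Dv F e2 e1
  set c3 := aeval e2 F
  let Qv : K → K → K := fun y z => A * y ^ 2 + B * y * z + C' * z ^ 2
  let cv : K → K → K := fun y z => c0 * y ^ 3 + c1 * y ^ 2 * z + c2 * y * z ^ 2 + c3 * z ^ 3
  have hid : ∀ y z : K, eval ![y, z] n * cv y z = eval ![y, z] d * Qv y z := fun y z => by
    have := congrArg (eval ![y, z]) hnd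
    simpa [Qv, cv] using this
  have hab : ∀ {R : Type _} [CommRing R] [Algebra K R] (x y z : R),
      aeval (x • (fun j => algebraMap K R (a j)) + (1 : R) • (y • (fun j => algebraMap K R (e1 j)) + z • fun j => algebraMap K R (e2 j))) F =
        x * (algebraMap K R A * y ^ 2 + algebraMap K R B * y * z + algebraMap K R C' * z ^ 2) +
        (algebraMap K R c0 * y ^ 3 + algebraMap K R c1 * y ^ 2 * z + algebraMap K R c2 * y * z ^ 2 + algebraMap K R c3 * z ^ 3) := by
    intro R _ _ x y z
    have e12 : (fun j => algebraMap K R (e1 j)) + (fun j => algebraMap K R (e2 j)) = fun j => algebraMap K R ((e1 + e2) j) :=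
      funext fun j => (map_add _ _ _).symm
    have hv : Dv F a e1 = 0 := fr.g1
    have hw : Dv F a e2 = 0 := fr.g2
    rw [aeval_plane hF (by rw [algebraMap_ev, ha, fr.Fa, map_zero]) (by rw [algebraMap_Dv, hv, map_zero])
      (by rw [algebraMap_Dv, hw, map_zero]), e12]
    simp only [algebraMap_Dv, algebraMap_ev, A, B, C', c0, c1, c2, c3, map_sub]
  -- decomposition of points of the tangent plane
  have hdec : ∀ p, Dv F a p = 0 → eval p F = 0 → ∃ x y z : K, p = x • a + (y • e1 + z • e2) ∧ x * Qv y z + cv y z = 0 := by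
    intro p hp hpF
    have hspan : p ∈ Submodule.span K (Set.range ![a, fr.e 0, e1, e2]) := by
      by_contra hnot
      obtain ⟨L, hL, hle⟩ := Submodule.exists_le_ker_of_lt_top (Submodule.span K (Set.range ![a, fr.e 0, e1, e2]))
        (lt_top_iff_ne_top.2 fun h => hnot (h ▸ Submodule.mem_top))
      exact hL (fr.basis L (hle (Submodule.subset_span ⟨0, rfl⟩)) (hle (Submodule.subset_span ⟨1, rfl⟩))
        (hle (Submodule.subset_span ⟨2, rfl⟩)) (hle (Submodule.subset_span ⟨3, rfl⟩)))
    obtain ⟨c, hc⟩ := (Submodule.mem_span_range_iff_exists_fun K).1 hspan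
    simp [Fin.sum_univ_four] at hc
    have h1 : c 1 = 0 := by
      have hlin : Dv F a p = c 0 * Dv F a a + c 1 * Dv F a (fr.e 0) + c 2 * Dv F a e1 + c 3 * Dv F a e2 := by
        simp only [Dv, ← hc, Pi.add_apply, Pi.smul_apply, smul_eq_mul, add_mul, mul_assoc, Finset.sum_add_distrib, ← Finset.mul_sum]
      rw [hp, Dv_self hF, ha, fr.Fa, fr.g0, he1, he2, fr.g1, fr.g2] at hlin
      linear_combination -hlin
    rw [h1, zero_smul, add_zero] at hc
    refine ⟨c 0, c 2, c 3, by rw [← hc]; abel, ?_⟩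
    have := hab (R := K) (c 0) (c 2) (c 3)
    simp only [Algebra.algebraMap_self, RingHom.id_apply, one_smul] at this
    rw [← this, show (c 0 • fun j => a j) + (c 2 • (fun j => e1 j) + c 3 • fun j => e2 j) = p by rw [← hc]; simp only [add_assoc]]
    rw [aeval_eq_eval]; exact hpF
  -- the root is not zero
  have hw0 : w0 ≠ 0 := by
    intro h
    subst h
    have key : ∀ y z : K, aeval (0 : Fin 2 → K) d * Qv y z = 0 := by
      intro y z
      let P : (Fin 2 → Polynomial K) := ![Polynomial.C y * Polynomial.X, Polynomial.C z * Polynomial.X]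
      have := congrArg (aeval P) hnd
      simp [P] at this
      have h2 : (Polynomial.X : Polynomial K) ^ 2 * (aeval P n * (Polynomial.X * Polynomial.C (cv y z))) =
          Polynomial.X ^ 2 * (aeval P d * Polynomial.C (Qv y z)) := by
        simp only [Qv, cv, map_add, map_mul, map_pow, P]
        linear_combination this
      have h3 := congrArg (Polynomial.eval 0) (mul_left_cancel₀ (pow_ne_zero _ Polynomial.X_ne_zero) h2)
      simp only [Polynomial.eval_mul, Polynomial.eval_X, zero_mul, mul_zero, Polynomial.eval_C] at h3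
      rw [h3, ← Polynomial.coe_aeval_eq_eval, map_ev ((Polynomial.aeval (0 : K)))]
      congr 3
      funext i; fin_cases i <;> simp [P]
    have q0 := (mul_eq_zero.1 (key 1 0)).resolve_left hwd
    have q1 := (mul_eq_zero.1 (key 0 1)).resolve_left hwd
    have q2 := (mul_eq_zero.1 (key 1 1)).resolve_left hwd
    simp [Qv] at q0 q1 q2
    exact ne_zero_of_NDiv fr.ndiv ⟨q0, by linear_combination q2 - q0 - q1, q1⟩
  obtain ⟨s, hsn, hsd⟩ : ∃ s : Fin 2 → K, eval s n ≠ 0 ∧ w0 0 * s 1 - w0 1 * s 0 ≠ 0 := by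
    have hl : (MvPolynomial.C (w0 0) * X 1 - MvPolynomial.C (w0 1) * X 0 : MvPolynomial (Fin 2) K) ≠ 0 := by
      intro h
      apply hw0
      have q0 := congrArg (eval ![1, 0]) h
      have q1 := congrArg (eval ![0, 1]) h
      simp at q0 q1
      funext i; fin_cases i <;> assumption
    obtain ⟨s, hs⟩ := exists_eval_ne_zero (mul_ne_zero hn0 hl)
    simp only [map_mul, map_sub, eval_C, eval_X, mul_ne_zero_iff] at hs
    exact ⟨s, hs.1, hs.2⟩
  set σ : Fin 2 → K := s - w0 with hσ
  have hind : w0 0 * σ 1 - w0 1 * σ 0 ≠ 0 := by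
    intro h; apply hsd; simp [hσ] at h; linear_combination h
  let T : Fin 2 → Polynomial K := fun i => Polynomial.C (w0 i) + Polynomial.C (σ i) * Polynomial.X
  let ι : (Fin 4 → K) → (Fin 4 → Polynomial K) := fun x j => algebraMap K (Polynomial K) (x j)
  let U : Fin 4 → Polynomial K := T 0 • ι e1 + T 1 • ι e2
  let b : Fin 4 → Polynomial K := (-aeval T d) • ι a + (1 : Polynomial K) • ((aeval T n * T 0) • ι e1 + (aeval T n * T 1) • ι e2)
  have hFb : aeval b F = 0 := by
    have h := congrArg (aeval T) hnd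
    simp only [map_mul, map_add, map_pow, aeval_C, aeval_X] at h
    simp only [b, ι]
    rw [hab]
    linear_combination (aeval T n) ^ 2 * h
  have hTt : ∀ (t : K) (q : MvPolynomial (Fin 2) K), (aeval T q).eval t = eval (fun i => w0 i + σ i * t) q := fun t q => by
    rw [← Polynomial.coe_aeval_eq_eval, map_ev, ← aeval_eq_eval]
    congr 2; funext i; simp [T]
  have hbt : ∀ t : K, (fun j => (b j).eval t) = (-eval (fun i => w0 i + σ i * t) d) • a +
      eval (fun i => w0 i + σ i * t) n • ((w0 0 + σ 0 * t) • e1 + (w0 1 + σ 1 * t) • e2) := fun t => funext fun j => by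
    simp [b, ι, T, hTt]; ring
  have hbad := finite_bad hF fr b hFb (t0 := 0) (δ := -aeval w0 d) (neg_ne_zero.2 hwd) (fun j => by
    have := congrFun (hbt 0) j
    simp only [mul_zero, add_zero] at this
    rw [this, aeval_eq_eval]
    rw [aeval_eq_eval] at hwn
    simp [show eval (fun i => w0 i) n = 0 from hwn, show (fun i => w0 i) = w0 from rfl]
    exact Or.inl rfl)
  -- finitely many exceptional directions
  have hpn : aeval T n ≠ 0 := fun h => hsn (by
    have := hTt 1 n
    rw [h, Polynomial.eval_zero] at this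
    rw [this]; congr 2; funext i; simp [hσ])
  let qp : Polynomial K := Polynomial.C A * T 0 ^ 2 + Polynomial.C B * T 0 * T 1 + Polynomial.C C' * T 1 ^ 2
  have hqe : ∀ t, qp.eval t = Qv (w0 0 + σ 0 * t) (w0 1 + σ 1 * t) := fun t => by simp [qp, T, Qv]
  have hqp : qp ≠ 0 := by
    intro h
    have hz : ∀ t, Qv (w0 0 + σ 0 * t) (w0 1 + σ 1 * t) = 0 := fun t => by rw [← hqe, h, Polynomial.eval_zero]
    have z0 := hz 0; have z1 := hz 1; have z2 := hz (-1)
    simp [Qv] at z0 z1 z2
    have det := hind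
    have eA : A * (w0 0 * σ 1 - w0 1 * σ 0) ^ 2 = 0 := by
      linear_combination σ 1 ^ 2 * z0 - σ 1 * w0 1 * (1 / 2) * (z1 - z2) + w0 1 ^ 2 * ((1 / 2) * (z1 + z2) - z0)
    have eC : C' * (w0 0 * σ 1 - w0 1 * σ 0) ^ 2 = 0 := by
      linear_combination σ 0 ^ 2 * z0 - σ 0 * w0 0 * (1 / 2) * (z1 - z2) + w0 0 ^ 2 * ((1 / 2) * (z1 + z2) - z0)
    have hA : A = 0 := (mul_eq_zero.1 eA).resolve_right (pow_ne_zero _ det)
    have hC : C' = 0 := (mul_eq_zero.1 eC).resolve_right (pow_ne_zero _ det)
    refine ne_zero_of_NDiv fr.ndiv ⟨hA, ?_, hC⟩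
    have eB : B * (w0 0 * σ 1 - w0 1 * σ 0) ^ 2 = 0 := by
      linear_combination -2 * σ 0 * σ 1 * z0 + (w0 0 * σ 1 + w0 1 * σ 0) * (1 / 2) * (z1 - z2) - 2 * w0 0 * w0 1 * ((1 / 2) * (z1 + z2) - z0)
    exact (mul_eq_zero.1 eB).resolve_right (pow_ne_zero _ det)
  let ts : Finset K := (aeval T n).roots.toFinset ∪ qp.roots.toFinset
  let us : Set (K × K) := ((fun t => (w0 0 + σ 0 * t, w0 1 + σ 1 * t)) '' (ts : Set K)) ∪ {(σ 0, σ 1)}
  have husf : us.Finite := (ts.finite_toSet.image _).union (Set.finite_singleton _)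
  -- special points and lines over exceptional directions
  let line : K × K → Set (Submodule K (Fin 4 → K)) := fun u =>
    {W | ∃ x : K, W = Submodule.span K {x • a + (u.1 • e1 + u.2 • e2)} ∧ x * Qv u.1 u.2 + cv u.1 u.2 = 0 ∧
      (∀ c : K, c ≠ 0 → TP F (c • (x • a + (u.1 • e1 + u.2 • e2))))}
  have hline : ∀ u : K × K, (line u).Finite := by
    intro u
    by_cases hQ : Qv u.1 u.2 = 0
    · by_cases hc : cv u.1 u.2 = 0
      · let l : Fin 4 → Polynomial K := (1 : Polynomial K) • ι a + (1 : Polynomial K) •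
          ((Polynomial.X * Polynomial.C u.1) • ι e1 + (Polynomial.X * Polynomial.C u.2) • ι e2)
        have hFl : aeval l F = 0 := by
          simp only [l, ι]
          rw [hab]
          have q := congrArg Polynomial.C hQ
          have c := congrArg Polynomial.C hc
          simp [Qv, cv] at q c
          simp only [Polynomial.algebraMap_eq]
          linear_combination Polynomial.X ^ 2 * q + Polynomial.X ^ 3 * c
        have hlt : ∀ t : K, (fun j => (l j).eval t) = a + t • (u.1 • e1 + u.2 • e2) := fun t => funext fun j => by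
          simp [l, ι]; ring
        have hf := finite_bad hF fr l hFl (t0 := 0) (δ := 1) one_ne_zero (fun j => by
          rw [congrFun (hlt 0) j]; simp [ha])
        refine ((hf.image fun t => Submodule.span K {(fun j => (l j).eval t)}).insert
          (Submodule.span K {u.1 • e1 + u.2 • e2})).subset ?_
        rintro W ⟨x, rfl, -, hT⟩
        rcases eq_or_ne x 0 with rfl | hx
        · left; simp
        · right
          refine ⟨x⁻¹, ?_, ?_⟩
          · show TP F _
            rw [hlt]
            convert hT x⁻¹ (inv_ne_zero hx) using 2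
            rw [smul_add x⁻¹ (x • a), smul_smul x⁻¹ x, inv_mul_cancel₀ hx, one_smul]
          · simp only
            rw [hlt, ← Submodule.span_singleton_smul_eq (inv_ne_zero hx).isUnit (x • a + (u.1 • e1 + u.2 • e2)),
              smul_add x⁻¹ (x • a), smul_smul x⁻¹ x, inv_mul_cancel₀ hx, one_smul]
      · convert Set.finite_empty
        refine Set.eq_empty_of_forall_notMem ?_
        rintro W ⟨x, -, h, -⟩
        rw [hQ, mul_zero, zero_add] at h; exact hc h
    · refine (Set.finite_singleton (Submodule.span K {(-cv u.1 u.2 / Qv u.1 u.2) • a + (u.1 • e1 + u.2 • e2)})).subset ?_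
      rintro W ⟨x, rfl, h, -⟩
      have : x = -cv u.1 u.2 / Qv u.1 u.2 := by rw [eq_div_iff hQ]; linear_combination h
      rw [this]; exact Set.mem_singleton _
  refine ((hbad.image fun t => Submodule.span K {(fun j => (b j).eval t)}).union (husf.biUnion fun u _ => hline u)).subset ?_
  rintro W ⟨p, -, rfl, hpF, hpD, hpa, -, hTP⟩
  obtain ⟨x, y, z, rfl, heq⟩ := hdec p hpD hpF
  have hyz : ¬ (y = 0 ∧ z = 0) := by
    rintro ⟨rfl, rfl⟩
    exact hpa (Submodule.mem_span_singleton.2 ⟨x, by simp⟩)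
  have scale : ∀ (u : K × K) (c : K), c ≠ 0 → y = c * u.1 → z = c * u.2 → u ∈ us →
      Submodule.span K {x • a + (y • e1 + z • e2)} ∈ ⋃ u ∈ us, line u := by
    intro u c hc h1 h2 hu
    simp only [Set.mem_iUnion]
    have e : x • a + (y • e1 + z • e2) = c • ((x / c) • a + (u.1 • e1 + u.2 • e2)) := by
      rw [h1, h2, smul_add, smul_smul, mul_div_cancel₀ _ hc, smul_add, smul_smul, smul_smul]
    refine ⟨u, hu, x / c, ?_, ?_, fun c' hc' => ?_⟩
    · rw [e, Submodule.span_singleton_smul_eq hc.isUnit]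
    · have : c ^ 3 * (x / c * Qv u.1 u.2 + cv u.1 u.2) = x * Qv y z + cv y z := by
        simp only [Qv, cv, h1, h2]; field_simp
      rw [heq] at this
      exact (mul_eq_zero.1 this).resolve_left (pow_ne_zero _ hc)
    · have := hTP (c' / c) (div_ne_zero hc' hc)
      rwa [e, smul_smul, div_mul_cancel₀ _ hc] at this
  -- coordinates of the direction along (w0, σ)
  set det := w0 0 * σ 1 - w0 1 * σ 0 with hdet
  set p' := (y * σ 1 - z * σ 0) / det with hp'
  set q' := (w0 0 * z - w0 1 * y) / det with hq'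
  have hy : y = p' * w0 0 + q' * σ 0 := by rw [hp', hq']; field_simp; rw [hdet]; ring
  have hz : z = p' * w0 1 + q' * σ 1 := by rw [hp', hq']; field_simp; rw [hdet]; ring
  rcases eq_or_ne p' 0 with hp0 | hp0
  · rw [hp0, zero_mul, zero_add] at hy hz
    exact Or.inr (scale (σ 0, σ 1) q' (fun h => hyz ⟨by rw [hy, h, zero_mul], by rw [hz, h, zero_mul]⟩) hy hz (Or.inr rfl))
  set t := q' / p' with ht
  have hy' : y = p' * (w0 0 + σ 0 * t) := by rw [hy, ht]; field_simp
  have hz' : z = p' * (w0 1 + σ 1 * t) := by rw [hz, ht]; field_simp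
  by_cases hts : t ∈ ts
  · exact Or.inr (scale _ p' hp0 hy' hz' (Or.inl ⟨t, hts, rfl⟩))
  left
  simp only [ts, Finset.mem_union, Multiset.mem_toFinset, Polynomial.mem_roots hpn, Polynomial.mem_roots hqp,
    Polynomial.IsRoot, not_or, hTt, hqe] at hts
  obtain ⟨hn', hQ'⟩ := hts
  have hu := hid (w0 0 + σ 0 * t) (w0 1 + σ 1 * t)
  have hv : (![w0 0 + σ 0 * t, w0 1 + σ 1 * t] : Fin 2 → K) = fun i => w0 i + σ i * t := by
    funext i; fin_cases i <;> rfl
  rw [hv] at hu
  have hx : x * eval (fun i => w0 i + σ i * t) n = p' * -eval (fun i => w0 i + σ i * t) d := by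
    refine mul_right_cancel₀ (mul_ne_zero (pow_ne_zero 2 hp0) hQ') ?_
    have h' : x * (p' ^ 2 * Qv (w0 0 + σ 0 * t) (w0 1 + σ 1 * t)) + p' ^ 3 * cv (w0 0 + σ 0 * t) (w0 1 + σ 1 * t) = 0 := by
      rw [← heq, hy', hz']; simp only [Qv, cv]; ring
    linear_combination (eval (fun i => w0 i + σ i * t) n) * h' - p' ^ 3 * hu
  have e : x • a + (y • e1 + z • e2) = (p' / eval (fun i => w0 i + σ i * t) n) • fun j => (b j).eval t := by
    rw [hbt, smul_add, smul_smul, smul_smul, div_mul_cancel₀ _ hn', hy', hz']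
    rw [show x = p' / eval (fun i => w0 i + σ i * t) n * -eval (fun i => w0 i + σ i * t) d by
      rw [div_mul_eq_mul_div, eq_div_iff hn']; linear_combination hx]
    simp only [smul_add, smul_smul]
  have hk : p' / eval (fun i => w0 i + σ i * t) n ≠ 0 := div_ne_zero hp0 hn'
  refine ⟨t, ?_, ?_⟩
  · show TP F _
    have := hTP _ (inv_ne_zero hk)
    rwa [e, smul_smul, inv_mul_cancel₀ hk, one_smul] at this
  · simp only
    rw [e, Submodule.span_singleton_smul_eq hk.isUnit]

end Groth.Agent.CubicPts
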