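import Mathlib

/-! Linear Pfaffian representation of a cubic through five points in general position. -/

set_option autoImplicit false

open MvPolynomial

set_option maxHeartbeats 4000000
set_option maxRecDepth 8000

namespace Groth.Agent.CubicPts

variable {k : Type*} [Field k] {R : Type*} [CommRing R]

/-- quadrics through the coordinate points and the unit point -/
def q5 (x : Fin 4 → R) : Fin 5 → R :=
  ![x 2 * x 3 - x 0 * x 1, x 2 * x 3 - x 0 * x 2, x 2 * x 3 - x 0 * x 3, x 2 * x 3 - x 1 * x 2, x 2 * x 3 - x 1 * x 3]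

/-- alternating matrix whose principal sub-Pfaffians are the quadrics -/
def m6 (x : Fin 4 → R) (v : Fin 5 → R) : Matrix (Fin 6) (Fin 6) R :=
  !![0, x 3, -x 2, -x 3, x 2, v 0;
     -x 3, 0, x 1, x 3, 0, v 1;
     x 2, -x 1, 0, 0, -x 2, v 2;
     x 3, -x 3, 0, 0, -x 0, v 3;
     -x 2, 0, x 2, x 0, 0, v 4;
     -v 0, -v 1, -v 2, -v 3, -v 4, 0]

theorem det_m6 (x : Fin 4 → R) (v : Fin 5 → R) : (m6 x v).det = (∑ i, v i * q5 x i) ^ 2 := by
  simp [m6, q5, Matrix.det_succ_row_zero, Fin.sum_univ_succ, Fin.succAbove]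
  ring

end Groth.Agent.CubicPts
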