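import Groth.Agent.CubicPts.Polar
import Groth.Agent.CubicPts.PfaffDet

/-! Linear Pfaffian representation of a cubic through five points in general position. -/

set_option autoImplicit false

open MvPolynomial

set_option maxHeartbeats 4000000
set_option maxRecDepth 8000

namespace Groth.Agent.CubicPts

variable {k : Type*} [Field k] {R : Type*} [CommRing R]

theorem m6_hom {x : Fin 4 → MvPolynomial (Fin 4) k} {v : Fin 5 → MvPolynomial (Fin 4) k}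
    (hx : ∀ j, (x j).IsHomogeneous 1) (hv : ∀ j, (v j).IsHomogeneous 1) (i j : Fin 6) : (m6 x v i j).IsHomogeneous 1 := by
  fin_cases i <;> fin_cases j <;>
    first
      | exact isHomogeneous_zero _ _ _
      | (simp [m6, hx, hv, IsHomogeneous.neg, isHomogeneous_zero]; done)

theorem m6_transpose (x : Fin 4 → R) (v : Fin 5 → R) : (m6 x v).transpose = -m6 x v := by
  ext1 i j; fin_cases i <;> fin_cases j <;> simp [m6]

theorem m6_diag (x : Fin 4 → R) (v : Fin 5 → R) (i : Fin 6) : m6 x v i i = 0 := by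
  fin_cases i <;> simp [m6]

/-- linear form -/
noncomputable def lf (c : Fin 4 → k) : MvPolynomial (Fin 4) k := ∑ l, C (c l) * X l

/-- normal form modulo the ideal of five points -/
def Rep (p : MvPolynomial (Fin 4) k) : Prop :=
  ∃ (v : Fin 5 → Fin 4 → k) (d : Fin 4 → k) (c : k),
    p = ∑ i, lf (v i) * q5 X i + ∑ l, C (d l) * X l ^ 3 + C c * (X 0 * X 1 * X 2)

theorem rep_of (v : Fin 5 → Fin 4 → k) {p : MvPolynomial (Fin 4) k}
    (h : p = ∑ i, lf (v i) * q5 X i + X 0 * X 1 * X 2) : Rep p :=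
  ⟨v, 0, 1, by simp [h]⟩

theorem rep_cube (i : Fin 4) : Rep (X i * X i * X i : MvPolynomial (Fin 4) k) :=
  ⟨0, Pi.single i 1, 0, by simp [lf, Pi.single_apply, apply_ite C]; ring⟩

theorem rep_mono (i j l : Fin 4) : Rep (X i * X j * X l : MvPolynomial (Fin 4) k) := by
  fin_cases i <;> fin_cases j <;> fin_cases l
  · exact rep_cube 0
  · exact rep_of ![![-1, 0, 0, 1], ![0, 1, 0, -1], ![0, -1, 0, 0], ![0, 0, 0, 0], ![0, 0, 0, 0]] (by simp [q5, lf, Fin.sum_univ_five, Fin.sum_univ_four]; try ring)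
  · exact rep_of ![![0, 0, 0, 1], ![-1, 1, 0, -1], ![0, -1, 0, 0], ![0, 0, 0, 0], ![0, 0, 0, 0]] (by simp [q5, lf, Fin.sum_univ_five, Fin.sum_univ_four]; try ring)
  · exact rep_of ![![0, 0, 0, 1], ![0, 1, 0, -1], ![-1, -1, 0, 0], ![0, 0, 0, 0], ![0, 0, 0, 0]] (by simp [q5, lf, Fin.sum_univ_five, Fin.sum_univ_four]; try ring)
  · exact rep_of ![![-1, 0, 0, 1], ![0, 1, 0, -1], ![0, -1, 0, 0], ![0, 0, 0, 0], ![0, 0, 0, 0]] (by simp [q5, lf, Fin.sum_univ_five, Fin.sum_univ_four]; try ring)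
  · exact rep_of ![![0, -1, 0, 0], ![0, 1, 0, 0], ![0, 0, 0, 0], ![0, 0, 0, 0], ![0, 0, 0, 0]] (by simp [q5, lf, Fin.sum_univ_five, Fin.sum_univ_four]; try ring)
  · exact rep_of ![![0, 0, 0, 0], ![0, 0, 0, 0], ![0, 0, 0, 0], ![0, 0, 0, 0], ![0, 0, 0, 0]] (by simp [q5, lf, Fin.sum_univ_five, Fin.sum_univ_four]; try ring)
  · exact rep_of ![![0, 0, 0, 0], ![0, 1, 0, 0], ![0, -1, 0, 0], ![0, 0, 0, 0], ![0, 0, 0, 0]] (by simp [q5, lf, Fin.sum_univ_five, Fin.sum_univ_four]; try ring)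
  · exact rep_of ![![0, 0, 0, 1], ![-1, 1, 0, -1], ![0, -1, 0, 0], ![0, 0, 0, 0], ![0, 0, 0, 0]] (by simp [q5, lf, Fin.sum_univ_five, Fin.sum_univ_four]; try ring)
  · exact rep_of ![![0, 0, 0, 0], ![0, 0, 0, 0], ![0, 0, 0, 0], ![0, 0, 0, 0], ![0, 0, 0, 0]] (by simp [q5, lf, Fin.sum_univ_five, Fin.sum_univ_four]; try ring)
  · exact rep_of ![![0, 0, 1, 0], ![0, 0, -1, 0], ![0, 0, 0, 0], ![0, 0, 0, 0], ![0, 0, 0, 0]] (by simp [q5, lf, Fin.sum_univ_five, Fin.sum_univ_four]; try ring)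
  · exact rep_of ![![0, 0, 0, 1], ![0, 1, 0, -1], ![0, -1, 0, 0], ![0, 0, 0, 0], ![0, 0, 0, 0]] (by simp [q5, lf, Fin.sum_univ_five, Fin.sum_univ_four]; try ring)
  · exact rep_of ![![0, 0, 0, 1], ![0, 1, 0, -1], ![-1, -1, 0, 0], ![0, 0, 0, 0], ![0, 0, 0, 0]] (by simp [q5, lf, Fin.sum_univ_five, Fin.sum_univ_four]; try ring)
  · exact rep_of ![![0, 0, 0, 0], ![0, 1, 0, 0], ![0, -1, 0, 0], ![0, 0, 0, 0], ![0, 0, 0, 0]] (by simp [q5, lf, Fin.sum_univ_five, Fin.sum_univ_four]; try ring)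
  · exact rep_of ![![0, 0, 0, 1], ![0, 1, 0, -1], ![0, -1, 0, 0], ![0, 0, 0, 0], ![0, 0, 0, 0]] (by simp [q5, lf, Fin.sum_univ_five, Fin.sum_univ_four]; try ring)
  · exact rep_of ![![0, 0, 0, 1], ![0, 1, 0, 0], ![0, -1, 0, -1], ![0, 0, 0, 0], ![0, 0, 0, 0]] (by simp [q5, lf, Fin.sum_univ_five, Fin.sum_univ_four]; try ring)
  · exact rep_of ![![-1, 0, 0, 1], ![0, 1, 0, -1], ![0, -1, 0, 0], ![0, 0, 0, 0], ![0, 0, 0, 0]] (by simp [q5, lf, Fin.sum_univ_five, Fin.sum_univ_four]; try ring)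
  · exact rep_of ![![0, -1, 0, 0], ![0, 1, 0, 0], ![0, 0, 0, 0], ![0, 0, 0, 0], ![0, 0, 0, 0]] (by simp [q5, lf, Fin.sum_univ_five, Fin.sum_univ_four]; try ring)
  · exact rep_of ![![0, 0, 0, 0], ![0, 0, 0, 0], ![0, 0, 0, 0], ![0, 0, 0, 0], ![0, 0, 0, 0]] (by simp [q5, lf, Fin.sum_univ_five, Fin.sum_univ_four]; try ring)
  · exact rep_of ![![0, 0, 0, 0], ![0, 1, 0, 0], ![0, -1, 0, 0], ![0, 0, 0, 0], ![0, 0, 0, 0]] (by simp [q5, lf, Fin.sum_univ_five, Fin.sum_univ_four]; try ring)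
  · exact rep_of ![![0, -1, 0, 0], ![0, 1, 0, 0], ![0, 0, 0, 0], ![0, 0, 0, 0], ![0, 0, 0, 0]] (by simp [q5, lf, Fin.sum_univ_five, Fin.sum_univ_four]; try ring)
  · exact rep_cube 1
  · exact rep_of ![![0, 0, 0, 0], ![0, 1, 0, 0], ![0, 0, 0, 0], ![0, -1, 0, 0], ![0, 0, 0, 0]] (by simp [q5, lf, Fin.sum_univ_five, Fin.sum_univ_four]; try ring)
  · exact rep_of ![![0, 0, 0, 0], ![0, 1, 0, 0], ![0, 0, 0, 0], ![0, 0, 0, 0], ![0, -1, 0, 0]] (by simp [q5, lf, Fin.sum_univ_five, Fin.sum_univ_four]; try ring)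
  · exact rep_of ![![0, 0, 0, 0], ![0, 0, 0, 0], ![0, 0, 0, 0], ![0, 0, 0, 0], ![0, 0, 0, 0]] (by simp [q5, lf, Fin.sum_univ_five, Fin.sum_univ_four]; try ring)
  · exact rep_of ![![0, 0, 0, 0], ![0, 1, 0, 0], ![0, 0, 0, 0], ![0, -1, 0, 0], ![0, 0, 0, 0]] (by simp [q5, lf, Fin.sum_univ_five, Fin.sum_univ_four]; try ring)
  · exact rep_of ![![0, 0, 1, 0], ![0, 0, 0, 0], ![0, 0, 0, 0], ![0, 0, -1, 0], ![0, 0, 0, 0]] (by simp [q5, lf, Fin.sum_univ_five, Fin.sum_univ_four]; try ring)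
  · exact rep_of ![![0, 0, 0, 0], ![0, 1, 0, 0], ![0, 0, 0, 0], ![0, 0, 0, 0], ![0, 0, 0, 0]] (by simp [q5, lf, Fin.sum_univ_five, Fin.sum_univ_four]; try ring)
  · exact rep_of ![![0, 0, 0, 0], ![0, 1, 0, 0], ![0, -1, 0, 0], ![0, 0, 0, 0], ![0, 0, 0, 0]] (by simp [q5, lf, Fin.sum_univ_five, Fin.sum_univ_four]; try ring)
  · exact rep_of ![![0, 0, 0, 0], ![0, 1, 0, 0], ![0, 0, 0, 0], ![0, 0, 0, 0], ![0, -1, 0, 0]] (by simp [q5, lf, Fin.sum_univ_five, Fin.sum_univ_four]; try ring)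
  · exact rep_of ![![0, 0, 0, 0], ![0, 1, 0, 0], ![0, 0, 0, 0], ![0, 0, 0, 0], ![0, 0, 0, 0]] (by simp [q5, lf, Fin.sum_univ_five, Fin.sum_univ_four]; try ring)
  · exact rep_of ![![0, 0, 0, 1], ![0, 1, 0, 0], ![0, -1, 0, 0], ![0, 0, 0, 0], ![0, 0, 0, -1]] (by simp [q5, lf, Fin.sum_univ_five, Fin.sum_univ_four]; try ring)
  · exact rep_of ![![0, 0, 0, 1], ![-1, 1, 0, -1], ![0, -1, 0, 0], ![0, 0, 0, 0], ![0, 0, 0, 0]] (by simp [q5, lf, Fin.sum_univ_five, Fin.sum_univ_four]; try ring)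
  · exact rep_of ![![0, 0, 0, 0], ![0, 0, 0, 0], ![0, 0, 0, 0], ![0, 0, 0, 0], ![0, 0, 0, 0]] (by simp [q5, lf, Fin.sum_univ_five, Fin.sum_univ_four]; try ring)
  · exact rep_of ![![0, 0, 1, 0], ![0, 0, -1, 0], ![0, 0, 0, 0], ![0, 0, 0, 0], ![0, 0, 0, 0]] (by simp [q5, lf, Fin.sum_univ_five, Fin.sum_univ_four]; try ring)
  · exact rep_of ![![0, 0, 0, 1], ![0, 1, 0, -1], ![0, -1, 0, 0], ![0, 0, 0, 0], ![0, 0, 0, 0]] (by simp [q5, lf, Fin.sum_univ_five, Fin.sum_univ_four]; try ring)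
  · exact rep_of ![![0, 0, 0, 0], ![0, 0, 0, 0], ![0, 0, 0, 0], ![0, 0, 0, 0], ![0, 0, 0, 0]] (by simp [q5, lf, Fin.sum_univ_five, Fin.sum_univ_four]; try ring)
  · exact rep_of ![![0, 0, 0, 0], ![0, 1, 0, 0], ![0, 0, 0, 0], ![0, -1, 0, 0], ![0, 0, 0, 0]] (by simp [q5, lf, Fin.sum_univ_five, Fin.sum_univ_four]; try ring)
  · exact rep_of ![![0, 0, 1, 0], ![0, 0, 0, 0], ![0, 0, 0, 0], ![0, 0, -1, 0], ![0, 0, 0, 0]] (by simp [q5, lf, Fin.sum_univ_five, Fin.sum_univ_four]; try ring)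
  · exact rep_of ![![0, 0, 0, 0], ![0, 1, 0, 0], ![0, 0, 0, 0], ![0, 0, 0, 0], ![0, 0, 0, 0]] (by simp [q5, lf, Fin.sum_univ_five, Fin.sum_univ_four]; try ring)
  · exact rep_of ![![0, 0, 1, 0], ![0, 0, -1, 0], ![0, 0, 0, 0], ![0, 0, 0, 0], ![0, 0, 0, 0]] (by simp [q5, lf, Fin.sum_univ_five, Fin.sum_univ_four]; try ring)
  · exact rep_of ![![0, 0, 1, 0], ![0, 0, 0, 0], ![0, 0, 0, 0], ![0, 0, -1, 0], ![0, 0, 0, 0]] (by simp [q5, lf, Fin.sum_univ_five, Fin.sum_univ_four]; try ring)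
  · exact rep_cube 2
  · exact rep_of ![![0, 0, 1, 0], ![0, 0, 0, 0], ![0, 0, 0, 0], ![0, 0, 0, 0], ![0, 0, 0, 0]] (by simp [q5, lf, Fin.sum_univ_five, Fin.sum_univ_four]; try ring)
  · exact rep_of ![![0, 0, 0, 1], ![0, 1, 0, -1], ![0, -1, 0, 0], ![0, 0, 0, 0], ![0, 0, 0, 0]] (by simp [q5, lf, Fin.sum_univ_five, Fin.sum_univ_four]; try ring)
  · exact rep_of ![![0, 0, 0, 0], ![0, 1, 0, 0], ![0, 0, 0, 0], ![0, 0, 0, 0], ![0, 0, 0, 0]] (by simp [q5, lf, Fin.sum_univ_five, Fin.sum_univ_four]; try ring)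
  · exact rep_of ![![0, 0, 1, 0], ![0, 0, 0, 0], ![0, 0, 0, 0], ![0, 0, 0, 0], ![0, 0, 0, 0]] (by simp [q5, lf, Fin.sum_univ_five, Fin.sum_univ_four]; try ring)
  · exact rep_of ![![0, 0, 0, 1], ![0, 1, 0, 0], ![0, -1, 0, 0], ![0, 0, 0, 0], ![0, 0, 0, 0]] (by simp [q5, lf, Fin.sum_univ_five, Fin.sum_univ_four]; try ring)
  · exact rep_of ![![0, 0, 0, 1], ![0, 1, 0, -1], ![-1, -1, 0, 0], ![0, 0, 0, 0], ![0, 0, 0, 0]] (by simp [q5, lf, Fin.sum_univ_five, Fin.sum_univ_four]; try ring)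
  · exact rep_of ![![0, 0, 0, 0], ![0, 1, 0, 0], ![0, -1, 0, 0], ![0, 0, 0, 0], ![0, 0, 0, 0]] (by simp [q5, lf, Fin.sum_univ_five, Fin.sum_univ_four]; try ring)
  · exact rep_of ![![0, 0, 0, 1], ![0, 1, 0, -1], ![0, -1, 0, 0], ![0, 0, 0, 0], ![0, 0, 0, 0]] (by simp [q5, lf, Fin.sum_univ_five, Fin.sum_univ_four]; try ring)
  · exact rep_of ![![0, 0, 0, 1], ![0, 1, 0, 0], ![0, -1, 0, -1], ![0, 0, 0, 0], ![0, 0, 0, 0]] (by simp [q5, lf, Fin.sum_univ_five, Fin.sum_univ_four]; try ring)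
  · exact rep_of ![![0, 0, 0, 0], ![0, 1, 0, 0], ![0, -1, 0, 0], ![0, 0, 0, 0], ![0, 0, 0, 0]] (by simp [q5, lf, Fin.sum_univ_five, Fin.sum_univ_four]; try ring)
  · exact rep_of ![![0, 0, 0, 0], ![0, 1, 0, 0], ![0, 0, 0, 0], ![0, 0, 0, 0], ![0, -1, 0, 0]] (by simp [q5, lf, Fin.sum_univ_five, Fin.sum_univ_four]; try ring)
  · exact rep_of ![![0, 0, 0, 0], ![0, 1, 0, 0], ![0, 0, 0, 0], ![0, 0, 0, 0], ![0, 0, 0, 0]] (by simp [q5, lf, Fin.sum_univ_five, Fin.sum_univ_four]; try ring)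
  · exact rep_of ![![0, 0, 0, 1], ![0, 1, 0, 0], ![0, -1, 0, 0], ![0, 0, 0, 0], ![0, 0, 0, -1]] (by simp [q5, lf, Fin.sum_univ_five, Fin.sum_univ_four]; try ring)
  · exact rep_of ![![0, 0, 0, 1], ![0, 1, 0, -1], ![0, -1, 0, 0], ![0, 0, 0, 0], ![0, 0, 0, 0]] (by simp [q5, lf, Fin.sum_univ_five, Fin.sum_univ_four]; try ring)
  · exact rep_of ![![0, 0, 0, 0], ![0, 1, 0, 0], ![0, 0, 0, 0], ![0, 0, 0, 0], ![0, 0, 0, 0]] (by simp [q5, lf, Fin.sum_univ_five, Fin.sum_univ_four]; try ring)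
  · exact rep_of ![![0, 0, 1, 0], ![0, 0, 0, 0], ![0, 0, 0, 0], ![0, 0, 0, 0], ![0, 0, 0, 0]] (by simp [q5, lf, Fin.sum_univ_five, Fin.sum_univ_four]; try ring)
  · exact rep_of ![![0, 0, 0, 1], ![0, 1, 0, 0], ![0, -1, 0, 0], ![0, 0, 0, 0], ![0, 0, 0, 0]] (by simp [q5, lf, Fin.sum_univ_five, Fin.sum_univ_four]; try ring)
  · exact rep_of ![![0, 0, 0, 1], ![0, 1, 0, 0], ![0, -1, 0, -1], ![0, 0, 0, 0], ![0, 0, 0, 0]] (by simp [q5, lf, Fin.sum_univ_five, Fin.sum_univ_four]; try ring)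
  · exact rep_of ![![0, 0, 0, 1], ![0, 1, 0, 0], ![0, -1, 0, 0], ![0, 0, 0, 0], ![0, 0, 0, -1]] (by simp [q5, lf, Fin.sum_univ_five, Fin.sum_univ_four]; try ring)
  · exact rep_of ![![0, 0, 0, 1], ![0, 1, 0, 0], ![0, -1, 0, 0], ![0, 0, 0, 0], ![0, 0, 0, 0]] (by simp [q5, lf, Fin.sum_univ_five, Fin.sum_univ_four]; try ring)
  · exact rep_cube 3

theorem rep {G : MvPolynomial (Fin 4) k} (hG : G.IsHomogeneous 3) : Rep G := by
  refine cubic_induction (P := Rep) ⟨0, 0, 0, by simp [lf]⟩ ?_ ?_ hG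
  · rintro p q ⟨v, d, c, rfl⟩ ⟨v', d', c', rfl⟩
    refine ⟨v + v', d + d', c + c', ?_⟩
    simp only [lf, Pi.add_apply, map_add, add_mul, Finset.sum_add_distrib]
    ring
  · intro a i j l
    obtain ⟨v, d, c, h⟩ := rep_mono (k := k) i j l
    refine ⟨a • v, a • d, a * c, ?_⟩
    simp only [lf, Pi.smul_apply, smul_eq_mul, map_mul, mul_assoc, ← Finset.mul_sum]
    rw [← mul_assoc (X i), h]
    simp only [lf, mul_add, mul_assoc]

theorem exists_v {G : MvPolynomial (Fin 4) k} (hG : G.IsHomogeneous 3)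
    (he : ∀ l : Fin 4, eval (Pi.single l 1) G = 0) (h1 : eval (fun _ => (1 : k)) G = 0) :
    ∃ v : Fin 5 → Fin 4 → k, G = ∑ i, lf (v i) * q5 X i := by
  obtain ⟨v, d, c, h⟩ := rep hG
  have hd : ∀ l, d l = 0 := fun l => by
    have := he l
    rw [h] at this
    fin_cases l <;> simpa [q5, Fin.sum_univ_five, Fin.sum_univ_four, lf] using this
  have hc : c = 0 := by
    rw [h] at h1
    simpa [q5, hd, lf, Fin.sum_univ_five, Fin.sum_univ_four] using h1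
  exact ⟨v, by simpa [hd, hc] using h⟩

theorem pfaffian_of_five {F : MvPolynomial (Fin 4) k} (hF : F.IsHomogeneous 3) (p : Fin 5 → (Fin 4 → k))
    (hp : ∀ j, eval (p j) F = 0) (hgen : ∀ j : Fin 5, LinearIndependent k (fun i : Fin 4 => p (j.succAbove i))) :
    ∃ M : Matrix (Fin 6) (Fin 6) (MvPolynomial (Fin 4) k), (∀ i j, (M i j).IsHomogeneous 1) ∧ M.transpose = -M ∧ (∀ i, M i i = 0) ∧
      ∃ c : k, c ≠ 0 ∧ M.det = C c * F ^ 2 := by
  classical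
  let b0 := basisOfLinearIndependentOfCardEqFinrank (hgen (Fin.last 4)) (by simp)
  have hb0 : ∀ i : Fin 4, b0 i = p i.castSucc := fun i => by
    rw [coe_basisOfLinearIndependentOfCardEqFinrank, Fin.succAbove_last]
  set lam : Fin 4 → k := fun i => b0.repr (p (Fin.last 4)) i with hlam
  have hsum : ∑ i, lam i • p i.castSucc = p (Fin.last 4) := by
    have h := b0.sum_repr (p (Fin.last 4))
    simp only [hb0] at h
    exact h
  have hne : ∀ i, lam i ≠ 0 := by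
    intro j h0
    set c : Fin 5 → k := Fin.snoc lam (-1) with hc
    have hz : ∑ i, c i • p i = 0 := by
      rw [Fin.sum_univ_castSucc]; simp only [hc, Fin.snoc_castSucc, Fin.snoc_last, hsum, neg_smul, one_smul, add_neg_cancel]
    rw [Fin.sum_univ_succAbove _ j.castSucc, show c j.castSucc = 0 by simp [hc, h0], zero_smul, zero_add] at hz
    have := Fintype.linearIndependent_iff.1 (hgen j.castSucc) (fun i => c (j.castSucc.succAbove i)) hz
    obtain ⟨i, hi⟩ := Fin.exists_succAbove_eq (Fin.castSucc_lt_last j).ne'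
    have h5 := this i
    simp only [hi, hc, Fin.snoc_last] at h5
    exact one_ne_zero (neg_eq_zero.1 h5)
  let T := b0.unitsSMul fun i => Units.mk0 (lam i) (hne i)
  have hT : ∀ i, T i = lam i • p i.castSucc := fun i => by
    rw [Module.Basis.unitsSMul_apply, hb0]; rfl
  let σ : Fin 4 → MvPolynomial (Fin 4) k := fun m => lf fun j => T j m
  let Y : Fin 4 → MvPolynomial (Fin 4) k := fun j => lf fun l => T.repr (Pi.single l 1) j
  have hlf : ∀ c : Fin 4 → k, (lf c).IsHomogeneous 1 := fun c =>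
    IsHomogeneous.sum _ _ _ fun l _ => (isHomogeneous_X k l).C_mul _
  have hY : ∀ m, aeval Y (σ m) = X m := by
    intro m
    have hid : ∀ l, ∑ j, T.repr (Pi.single l 1) j * T j m = (Pi.single l 1 : Fin 4 → k) m := fun l => by
      conv_rhs => rw [← T.sum_repr (Pi.single l 1)]
      simp [Finset.sum_apply]
    show aeval Y (∑ j, C (T j m) * X j) = X m
    simp only [map_sum, map_mul, aeval_C, algebraMap_eq, aeval_X]
    simp only [Y, lf, Finset.mul_sum, ← mul_assoc, ← map_mul]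
    rw [Finset.sum_comm]
    simp only [← Finset.sum_mul, ← map_sum, mul_comm (T _ m), hid]
    simp [Pi.single_apply]
  set G := aeval σ F with hG
  have hGF : aeval Y G = F := by
    rw [hG, ← AlgHom.comp_apply, comp_aeval, funext hY, aeval_X_left_apply]
  have hGh : G.IsHomogeneous 3 := by
    have := hF.aeval σ fun m => hlf _
    rwa [one_mul] at this
  have hev : ∀ z : Fin 4 → k, eval z G = eval (∑ j, z j • T j) F := fun z => by
    rw [hG, ← aeval_eq_eval, ← aeval_eq_eval, ← AlgHom.comp_apply, comp_aeval]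
    refine congrArg (fun f => aeval f F) (funext fun m => ?_)
    simp [σ, lf, Finset.sum_apply, mul_comm]
  have he : ∀ l : Fin 4, eval (Pi.single l 1) G = 0 := fun l => by
    rw [hev, Finset.sum_eq_single l (fun j _ hj => by simp [hj]) (by simp), Pi.single_eq_same, one_smul, hT,
      ← aeval_eq_eval]
    have := Groth.Agent.CubicPts.aeval_line hF (lam l) 0 (p l.castSucc) 0
    simpa [aeval_eq_eval, hp] using this
  obtain ⟨v, hv⟩ := exists_v hGh he (by rw [hev]; simp [hT, hsum, hp])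
  let y : Fin 4 → MvPolynomial (Fin 4) k := Y
  let w : Fin 5 → MvPolynomial (Fin 4) k := fun i => aeval Y (lf (v i))
  have hy : ∀ j, (y j).IsHomogeneous 1 := fun j => hlf _
  have hw : ∀ i, (w i).IsHomogeneous 1 := fun i => by
    have := (hlf (v i)).aeval Y fun j => hlf _
    rwa [one_mul] at this
  refine ⟨m6 y w, m6_hom hy hw, m6_transpose y w, m6_diag y w, 1, one_ne_zero, ?_⟩
  rw [det_m6, map_one, one_mul, ← hGF, hv, map_sum]
  congr 1
  refine Finset.sum_congr rfl fun i _ => ?_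
  rw [map_mul]
  congr 1
  fin_cases i <;> simp [q5, y]

end Groth.Agent.CubicPts
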