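import Groth.Agent.CubicPts.Exists
import Groth.Agent.CubicPts.Pfaff

/-! A line over the ground field all of whose intersection points are not T-points. -/

set_option autoImplicit false

open MvPolynomial

set_option maxHeartbeats 2000000

namespace Groth.Agent.CubicPts

variable {k : Type*} [Field k] [CharZero k] {K : Type*} [Field K] [CharZero K] [Algebra k K]
  {F : MvPolynomial (Fin 4) k}

theorem hcone_extend {L : Type*} [Field L] [Algebra k L]
    (hcone : ¬ ∃ v : Fin 4 → k, v ≠ 0 ∧ ∑ i, v i • pderiv i F = 0) :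
    ¬ ∃ v : Fin 4 → L, v ≠ 0 ∧ ∑ i, v i • pderiv i (MvPolynomial.map (algebraMap k L) F) = 0 := by
  classical
  rintro ⟨v, hv, h⟩
  obtain ⟨m, hm⟩ : ∃ m, v m ≠ 0 := by
    by_contra! h0; exact hv (funext h0)
  obtain ⟨f, hf⟩ : ∃ f : L →ₗ[k] k, f (v m) ≠ 0 := by
    let b := Module.Basis.ofVectorSpace k L
    obtain ⟨i, hi⟩ : ∃ i, b.repr (v m) i ≠ 0 := by
      by_contra! h0
      exact hm (b.repr.map_eq_zero_iff.1 (Finsupp.ext h0))
    exact ⟨b.coord i, hi⟩
  refine hcone ⟨fun i => f (v i), fun h0 => hf (congrFun h0 m), MvPolynomial.ext _ _ fun d => ?_⟩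
  have hd := congrArg (coeff d) h
  simp only [pderiv_map, coeff_sum, coeff_smul, coeff_map, smul_eq_mul, coeff_zero] at hd ⊢
  have h2 := congrArg f hd
  rw [map_sum, map_zero] at h2
  rw [← h2]
  refine Finset.sum_congr rfl fun i _ => ?_
  rw [mul_comm (v i), ← Algebra.smul_def, map_smul, smul_eq_mul, mul_comm]

theorem map_Dv_base {L : Type*} [CommRing L] [Algebra k L] (x y : Fin 4 → L) :
    Dv (MvPolynomial.map (algebraMap k L) F) x y = Dv F x y := by
  simp [Dv, pderiv_map, aeval_eq_eval, eval_map, aeval_def]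

theorem exists_good_line [IsAlgClosed K] (hF : F.IsHomogeneous 3) (hirr : Irreducible (MvPolynomial.map (algebraMap k K) F))
    (hcone : ¬ ∃ v : Fin 4 → k, v ≠ 0 ∧ ∑ i, v i • pderiv i F = 0) :
    ∃ y v : Fin 4 → k, eval v F ≠ 0 ∧ ∀ t : K,
      eval (fun m => algebraMap k K (y m) + t * algebraMap k K (v m)) (MvPolynomial.map (algebraMap k K) F) = 0 →
        (fun m => algebraMap k K (y m) + t * algebraMap k K (v m)) ≠ 0 ∧
        ¬ TP (MvPolynomial.map (algebraMap k K) F) (fun m => algebraMap k K (y m) + t * algebraMap k K (v m)) := by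
  classical
  set i := algebraMap k K with hi
  set G := MvPolynomial.map i F with hG
  have hGh : G.IsHomogeneous 3 := hF.map i
  have hGcone := hcone_extend (L := K) hcone
  obtain ⟨a, hGa, hsm, hTa⟩ := exists_nonT hGh hirr hGcone
  have ha0 : a ≠ 0 := by
    rintro rfl
    obtain ⟨m, hm⟩ := hsm
    exact hm (by rw [eval_zero]; exact constantCoeff_eq_zero_of_hom (n := 1) (by simpa using hGh.pderiv (i := m)))
  obtain ⟨fr, hfr⟩ := exists_frame G hGh ha0 (by rw [aeval_eq_eval]; exact hGa) (by simpa [aeval_eq_eval] using hsm) (K := K)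
    (by simpa [Algebra.algebraMap_self, MvPolynomial.map_id] using hTa)
  subst hfr
  obtain ⟨a, e, hGa', g0, g1, g2, -, hnd⟩ := fr
  obtain ⟨idx, hidx⟩ := NDiv_iff_mnr.1 hnd
  have hidx' : ndv G a (e 1) (e 2) idx ≠ 0 := hidx
  -- the certificate as a polynomial
  let ι : (Fin 4 → K) → (Fin 4 → (MvPolynomial (Fin 4) K)) := fun x m => algebraMap K (MvPolynomial (Fin 4) K) (x m)
  let γ : (MvPolynomial (Fin 4) K) := Dv G (X : Fin 4 → (MvPolynomial (Fin 4) K)) (ι (e 0))
  let v' : Fin 2 → (Fin 4 → (MvPolynomial (Fin 4) K)) := fun j => γ • ι (e j.succ) + (-Dv G (X : Fin 4 → (MvPolynomial (Fin 4) K)) (ι (e j.succ))) • ι (e 0)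
  let M : (MvPolynomial (Fin 4) K) := γ * ndv G (X : Fin 4 → (MvPolynomial (Fin 4) K)) (v' 0) (v' 1) idx
  have hφι : ∀ (z : Fin 4 → K) x, (fun m => aeval z (ι x m)) = x := fun z x =>
    funext fun m => (MvPolynomial.aeval z).commutes (x m)
  have hφX : ∀ z : Fin 4 → K, (fun m => aeval z (X m : (MvPolynomial (Fin 4) K))) = z := fun z => funext fun m => aeval_X z m
  have hMa : eval a M ≠ 0 := by
    have hD : ∀ x, aeval a (Dv G (X : Fin 4 → (MvPolynomial (Fin 4) K)) (ι x)) = Dv G a x := fun x => by rw [map_Dv, hφX, hφι]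
    have hv : ∀ j : Fin 2, (fun m => aeval a (v' j m)) = e j.succ := fun j => funext fun m => by
      have hg : Dv G a (e j.succ) = 0 := by fin_cases j <;> assumption
      simp only [v', γ, Pi.add_apply, Pi.smul_apply, smul_eq_mul, map_add, map_mul, map_neg, hD, g0, hg, neg_zero,
        zero_mul, add_zero, one_mul, congrFun (hφι a _) m]
    rw [← aeval_eq_eval, map_mul, map_ndv, hφX, hv, hv, hD, g0, one_mul]
    simpa only [Fin.succ_zero_eq_one, Fin.succ_one_eq_two] using hidx'
  have hMgood : ∀ z, eval z G = 0 → eval z M ≠ 0 → z ≠ 0 ∧ ¬ TP G z := by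
    intro z hz hM
    rw [← aeval_eq_eval, map_mul] at hM
    have hγ := left_ne_zero_of_mul hM
    have hn := right_ne_zero_of_mul hM
    refine ⟨?_, ?_⟩
    · rintro rfl
      apply hγ
      rw [map_Dv, hφX, hφι, show (0 : Fin 4 → K) = (0 : K) • a by simp, Dv_smul hGh]
      ring
    · rw [map_ndv, hφX] at hn
      have hbv : ∀ j : Fin 2, Dv G (X : Fin 4 → (MvPolynomial (Fin 4) K)) (v' j) = 0 := fun j => by simp only [v', Dv_comb, γ]; ring
      have hz' : ∀ j : Fin 2, Dv G z (fun m => aeval z (v' j m)) = 0 := fun j => by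
        have := congrArg (MvPolynomial.aeval z) (hbv j)
        rwa [map_Dv, hφX, map_zero] at this
      exact not_TP_of_ndv hGh hz (hz' 0) (hz' 1) hn
  -- coordinates adapted to a point off the surface
  have hF0 : F ≠ 0 := fun h => hirr.ne_zero (by rw [hG, h, map_zero])
  obtain ⟨v, hv⟩ := exists_eval_ne_zero hF0
  have hv0 : v ≠ 0 := by
    rintro rfl
    exact hv (by rw [eval_zero]; exact constantCoeff_eq_zero_of_hom (n := 2) hF)
  have pick : ∀ {n : ℕ}, n < 4 → ∀ w : Fin n → (Fin 4 → k), ∃ x, x ∉ Submodule.span k (Set.range w) := by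
    intro n hn w
    by_contra! h
    have h2 := finrank_range_le_card (R := k) w
    rw [Set.finrank, Submodule.eq_top_iff'.2 h, finrank_top] at h2
    simp at h2
    omega
  obtain ⟨u0, hu0⟩ := pick (by norm_num) ![v]
  obtain ⟨u1, hu1⟩ := pick (by norm_num) ![u0, v]
  obtain ⟨u2, hu2⟩ := pick (by norm_num) ![u1, u0, v]
  have hli : LinearIndependent k ![u2, u1, u0, v] :=
    linearIndependent_fin_cons.2 ⟨linearIndependent_fin_cons.2 ⟨linearIndependent_fin_cons.2
      ⟨linearIndependent_unique_iff.2 (by simpa using hv0), hu0⟩, hu1⟩, hu2⟩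
  let T := (basisOfLinearIndependentOfCardEqFinrank hli (by simp)).reindex (Fin.revPerm : Fin 4 ≃ Fin 4)
  have hT0 : T 0 = v := by
    simp [T, Module.Basis.reindex_apply, coe_basisOfLinearIndependentOfCardEqFinrank]
  let σ : Fin 4 → (MvPolynomial (Fin 4) K) := fun m => ∑ j, C (i (T j m)) * X j
  let Y : Fin 4 → (MvPolynomial (Fin 4) K) := fun j => ∑ l, C (i (T.repr (Pi.single l 1) j)) * X l
  have hid : ∀ l m, ∑ j, T.repr (Pi.single l 1) j * T j m = (Pi.single l 1 : Fin 4 → k) m := fun l m => by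
    conv_rhs => rw [← T.sum_repr (Pi.single l 1)]
    simp [Finset.sum_apply]
  have hid' : ∀ j l, ∑ m, T.repr (Pi.single m 1) j * T l m = if l = j then 1 else 0 := fun j l => by
    have h := congrArg (fun x => T.repr x j) (pi_eq_sum_univ' (T l))
    simp only [map_sum, map_smul, Finsupp.coe_finsetSum, Finset.sum_apply, Finsupp.coe_smul, Pi.smul_apply, smul_eq_mul,
      Module.Basis.repr_self, Finsupp.single_apply] at h
    rw [h]
    exact Finset.sum_congr rfl fun m _ => mul_comm _ _
  have hYσ : ∀ m, aeval Y (σ m) = X m := by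
    intro m
    show aeval Y (∑ j, C (i (T j m)) * X j) = X m
    simp only [map_sum, map_mul, aeval_C, algebraMap_eq, aeval_X]
    simp only [Y, Finset.mul_sum, ← mul_assoc, ← map_mul]
    rw [Finset.sum_comm]
    simp only [← Finset.sum_mul, ← map_sum, mul_comm (T _ m), hid]
    simp [Pi.single_apply, apply_ite i]
  have hσY : ∀ j, aeval σ (Y j) = X j := by
    intro j
    show aeval σ (∑ l, C (i (T.repr (Pi.single l 1) j)) * X l) = X j
    simp only [map_sum, map_mul, aeval_C, algebraMap_eq, aeval_X]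
    simp only [σ, Finset.mul_sum, ← mul_assoc, ← map_mul]
    rw [Finset.sum_comm]
    simp only [← Finset.sum_mul, ← map_sum, hid']
    simp [apply_ite i]
  let eqv : (MvPolynomial (Fin 4) K) ≃ₐ[K] (MvPolynomial (Fin 4) K) := AlgEquiv.ofAlgHom (aeval σ) (aeval Y)
    (MvPolynomial.algHom_ext fun m => by simpa using hσY m) (MvPolynomial.algHom_ext fun m => by simpa using hYσ m)
  let ψ : (MvPolynomial (Fin 4) K) ≃ₐ[K] Polynomial (MvPolynomial (Fin 3) K) := eqv.trans (finSuccEquiv K 3)
  have hψe : ∀ (p : (MvPolynomial (Fin 4) K)) (y : Fin 3 → K) (t : K), Polynomial.eval t ((ψ p).map (eval y)) =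
      eval (fun m => ∑ j, i (T j m) * (Fin.cons t y : Fin 4 → K) j) p := by
    intro p y t
    show Polynomial.eval t ((finSuccEquiv K 3 (aeval σ p)).map (eval y)) = _
    rw [← eval_eq_eval_mv_eval', ← aeval_eq_eval, map_ev (MvPolynomial.aeval (Fin.cons t y : Fin 4 → K))]
    rw [aeval_eq_eval]
    congr 2
    funext m; simp [σ]
  set c := eval v F with hc
  let Ys : Fin 4 → (MvPolynomial (Fin 3) K) := fun m => ∑ j : Fin 3, C (i (T j.succ m)) * X j
  have hψG : ψ G = Polynomial.C (C (i c)) * Polynomial.X ^ 3 +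
      (Polynomial.C (Dv G (fun m => algebraMap K (MvPolynomial (Fin 3) K) (i (v m))) Ys) * Polynomial.X ^ 2 +
      Polynomial.C (Dv G Ys (fun m => algebraMap K (MvPolynomial (Fin 3) K) (i (v m)))) * Polynomial.X + Polynomial.C (aeval Ys G)) := by
    show finSuccEquiv K 3 (aeval σ G) = _
    let cA : (MvPolynomial (Fin 3) K) →ₐ[K] Polynomial (MvPolynomial (Fin 3) K) := IsScalarTower.toAlgHom K (MvPolynomial (Fin 3) K) (Polynomial (MvPolynomial (Fin 3) K))
    have hmap := map_ev (finSuccEquiv K 3).toAlgHom σ G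
    change finSuccEquiv K 3 (aeval σ G) = _ at hmap
    have hC : ∀ x : K, finSuccEquiv K 3 (C x) = Polynomial.C (C x) := fun x => (finSuccEquiv K 3).commutes x
    have hX0 : finSuccEquiv K 3 (X 0) = Polynomial.X := finSuccEquiv_X_zero
    have hXs : ∀ j : Fin 3, finSuccEquiv K 3 (X j.succ) = Polynomial.C (X j) := fun j => finSuccEquiv_X_succ
    have hsub : (fun m => (finSuccEquiv K 3).toAlgHom (σ m)) =
        (1 : Polynomial (MvPolynomial (Fin 3) K)) • (fun m => cA (Ys m)) + (Polynomial.X : Polynomial (MvPolynomial (Fin 3) K)) • fun m => cA (algebraMap K (MvPolynomial (Fin 3) K) (i (v m))) :=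
      funext fun m => by
        show finSuccEquiv K 3 (∑ j, C (i (T j m)) * X j) = _
        rw [map_sum, Fin.sum_univ_succ]
        simp only [map_mul, hC, hX0, hXs, hT0, Pi.add_apply, Pi.smul_apply, smul_eq_mul, one_mul, Ys, map_sum, cA,
          IsScalarTower.toAlgHom_apply, Polynomial.algebraMap_eq, MvPolynomial.algebraMap_eq, Polynomial.C_mul]
        ring
    rw [hmap, hsub, aeval_line hGh, ← map_Dv, ← map_Dv, ← map_ev, ← map_ev]
    have hFv : aeval (fun m => algebraMap K (MvPolynomial (Fin 3) K) (i (v m))) G = C (i c) := by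
      rw [algebraMap_ev, hG, aeval_eq_eval, hc, MvPolynomial.algebraMap_eq]
      rw [eval_map, show (fun m => i (v m)) = i ∘ v from rfl, ← eval₂_comp i v F]
    rw [hFv]
    simp only [cA, IsScalarTower.toAlgHom_apply, Polynomial.algebraMap_eq]
    ring
  set Φ : Polynomial (MvPolynomial (Fin 3) K) := Polynomial.C (C (i c)⁻¹) * ψ G with hΦ
  have hic : i c ≠ 0 := (map_ne_zero i).2 hv
  have hmon : Φ.Monic := by
    have hk : (C (i c)⁻¹ : (MvPolynomial (Fin 3) K)) * C (i c) = 1 := by rw [← map_mul, inv_mul_cancel₀ hic, map_one]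
    rw [hΦ, hψG, mul_add, ← mul_assoc, ← Polynomial.C_mul, hk, Polynomial.C_1, one_mul]
    refine Polynomial.monic_X_pow_add (lt_of_le_of_lt ?_ (by norm_num : (2 : WithBot ℕ) < 3))
    simp only [mul_add, ← mul_assoc, ← Polynomial.C_mul]
    compute_degree
  have hΦirr : Irreducible Φ := by
    have h1 : Irreducible (ψ G) := (MulEquiv.irreducible_iff (ψ : (MvPolynomial (Fin 4) K) ≃* Polynomial (MvPolynomial (Fin 3) K))).2 hirr
    have hu : IsUnit (Polynomial.C (C (i c)⁻¹) : Polynomial (MvPolynomial (Fin 3) K)) :=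
      Polynomial.isUnit_C.2 ((isUnit_iff_ne_zero.2 (inv_ne_zero hic)).map C)
    exact (irreducible_isUnit_mul hu).2 h1
  haveI : Fact (Prime Φ) := ⟨UniqueFactorizationMonoid.irreducible_iff_prime.1 hΦirr⟩
  haveI : IsDomain (AdjoinRoot Φ) := AdjoinRoot.isDomain_of_prime Fact.out
  have hne : (AdjoinRoot.mk Φ) (ψ M) ≠ 0 := by
    intro h
    obtain ⟨q, hq⟩ := AdjoinRoot.mk_eq_zero.1 h
    apply hMa
    have : M = C (i c)⁻¹ * G * ψ.symm q := by
      apply ψ.injective
      rw [hq, hΦ, map_mul, map_mul, AlgEquiv.apply_symm_apply]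
      congr 2
      exact (ψ.commutes ((i c)⁻¹)).symm
    rw [this, map_mul, map_mul, show eval a G = 0 by rw [← aeval_eq_eval]; exact hGa']
    ring
  haveI : Module.Finite (MvPolynomial (Fin 3) K) (AdjoinRoot Φ) := hmon.finite_adjoinRoot
  obtain ⟨r, hr0, hrd⟩ := IsAlgebraic.exists_nonzero_dvd
    ((IsIntegral.of_finite (MvPolynomial (Fin 3) K) ((AdjoinRoot.mk Φ) (ψ M))).isAlgebraic) (mem_nonZeroDivisors_of_ne_zero hne)
  obtain ⟨h, hh⟩ := hrd
  obtain ⟨h', rfl⟩ := AdjoinRoot.mk_surjective h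
  rw [← map_mul, AdjoinRoot.algebraMap_eq] at hh
  change (AdjoinRoot.mk Φ) (Polynomial.C r) = _ at hh
  obtain ⟨q, hq⟩ := AdjoinRoot.mk_eq_mk.1 hh
  obtain ⟨y, hy⟩ : ∃ y : Fin 3 → k, eval (fun j => i (y j)) r ≠ 0 := by
    by_contra! hall
    apply hr0
    refine MvPolynomial.funext_set (fun _ => Set.range i) (fun _ => Set.infinite_range_of_injective i.injective) fun x hx => ?_
    choose y hy using fun j => hx j (Set.mem_univ j)
    rw [map_zero, ← funext hy]
    exact hall y
  refine ⟨∑ j : Fin 3, y j • T j.succ, v, hv, fun t ht => ?_⟩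
  have hpt : (fun m => ∑ j, i (T j m) * (Fin.cons t (fun j => i (y j)) : Fin 4 → K) j) =
      fun m => i ((∑ j : Fin 3, y j • T j.succ) m) + t * i (v m) := by
    funext m
    simp [Fin.sum_univ_succ, hT0]
    ring
  refine hMgood _ ht fun hM => hy ?_
  have e := congrArg (fun p => Polynomial.eval t (p.map (eval fun j => i (y j)))) hq
  simp only [hΦ, Polynomial.map_sub, Polynomial.map_mul, Polynomial.map_C, Polynomial.eval_sub, Polynomial.eval_mul,
    Polynomial.eval_C, hψe, hpt] at e
  rw [ht, hM] at e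
  linear_combination e

/-- the cubic polynomial cutting the intersection of a line with the surface -/
noncomputable def linePoly (F : MvPolynomial (Fin 4) k) (y v : Fin 4 → k) : Polynomial k :=
  Polynomial.C (aeval v F) * Polynomial.X ^ 3 + Polynomial.C (Dv F v y) * Polynomial.X ^ 2 +
    Polynomial.C (Dv F y v) * Polynomial.X + Polynomial.C (aeval y F)

theorem natDegree_linePoly {y v : Fin 4 → k} (hv : eval v F ≠ 0) : (linePoly F y v).natDegree = 3 :=
  Polynomial.natDegree_cubic (by rw [aeval_eq_eval]; exact hv)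

theorem aeval_linePoly (hF : F.IsHomogeneous 3) (y v : Fin 4 → k) {L : Type*} [Field L] [Algebra k L] (t : L) :
    Polynomial.aeval t (linePoly F y v) =
      eval (fun m => algebraMap k L (y m) + t * algebraMap k L (v m)) (MvPolynomial.map (algebraMap k L) F) := by
  rw [show (fun m => algebraMap k L (y m) + t * algebraMap k L (v m)) =
      (1 : L) • (fun m => algebraMap k L (y m)) + t • fun m => algebraMap k L (v m) from funext fun m => by simp,
    eval_map, ← aeval_def, aeval_line hF, algebraMap_Dv, algebraMap_Dv, algebraMap_ev, algebraMap_ev]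
  simp only [linePoly, map_add, map_mul, map_pow, Polynomial.aeval_C, Polynomial.aeval_X]
  ring

theorem pfaffian_over {E : Type*} [Field E] [CharZero E] [IsAlgClosed K] [Algebra k E] [Algebra E K] [IsScalarTower k E K]
    (hF : F.IsHomogeneous 3) (hirr : Irreducible (MvPolynomial.map (algebraMap k K) F))
    (hcone : ¬ ∃ v : Fin 4 → k, v ≠ 0 ∧ ∑ i, v i • pderiv i F = 0)
    (z : Fin 4 → E) (hz : eval z (MvPolynomial.map (algebraMap k E) F) = 0)
    (hz0 : (fun m => algebraMap E K (z m)) ≠ 0)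
    (hT : ¬ TP (MvPolynomial.map (algebraMap k K) F) (fun m => algebraMap E K (z m))) :
    ∃ M : Matrix (Fin 6) (Fin 6) (MvPolynomial (Fin 4) E), (∀ i j, (M i j).IsHomogeneous 1) ∧ M.transpose = -M ∧ (∀ i, M i i = 0) ∧
      ∃ c : E, c ≠ 0 ∧ M.det = C c * (MvPolynomial.map (algebraMap k E) F) ^ 2 := by
  set FE := MvPolynomial.map (algebraMap k E) F with hFE
  have hmm : MvPolynomial.map (algebraMap E K) FE = MvPolynomial.map (algebraMap k K) F := by
    rw [hFE, MvPolynomial.map_map, ← IsScalarTower.algebraMap_eq]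
  obtain ⟨p, -, hp, hgen⟩ := exists_five FE (hF.map _)
    (irreducible_of_map (k := E) (algebraMap E K) (by rw [hmm]; exact hirr)) (hcone_extend hcone)
    (a := z) (fun h => hz0 (funext fun m => by rw [h]; simp)) (by rw [aeval_eq_eval]; exact hz) (K := K)
    (by rw [hmm]; exact hT)
  exact pfaffian_of_five (hF.map _) p (fun j => by rw [← aeval_eq_eval]; exact hp j) hgen

end Groth.Agent.CubicPts
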