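import Groth.Agent.CubicPts.TPoint

/-! Five rational points in general position. -/

set_option autoImplicit false

open MvPolynomial

set_option maxHeartbeats 1000000

namespace Groth.Agent.CubicPts

variable {k : Type*} [Field k] [CharZero k] (F : MvPolynomial (Fin 4) k) (hF : F.IsHomogeneous 3)

theorem irreducible_of_map {σ : Type*} {L : Type*} [Field L] (f : k →+* L) {G : MvPolynomial σ k}
    (h : Irreducible (MvPolynomial.map f G)) : Irreducible G := by
  have key : ∀ p : MvPolynomial σ k, IsUnit (MvPolynomial.map f p) → IsUnit p := by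
    intro p hp
    rw [MvPolynomial.isUnit_iff_eq_C_of_isReduced] at hp ⊢
    obtain ⟨r, hr, hpr⟩ := hp
    refine ⟨constantCoeff p, ?_, ?_⟩
    · refine isUnit_iff_ne_zero.2 fun h0 => hr.ne_zero ?_
      have := congrArg constantCoeff hpr
      rw [constantCoeff_map, h0, map_zero, constantCoeff_C] at this
      exact this.symm
    · apply MvPolynomial.map_injective f f.injective
      have := congrArg constantCoeff hpr
      rw [constantCoeff_map, constantCoeff_C] at this
      rw [map_C, this, hpr]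
  refine ⟨fun hu => h.not_isUnit (hu.map _), fun a b hab => ?_⟩
  exact (h.isUnit_or_isUnit (a := MvPolynomial.map f a) (b := MvPolynomial.map f b)
    (by rw [hab, map_mul])).imp (key a) (key b)

theorem tform_map {K : Type*} [Field K] [Algebra k K] (a : Fin 4 → k) :
    tform (MvPolynomial.map (algebraMap k K) F) (fun j => algebraMap k K (a j)) =
      ∑ j, C (algebraMap k K (aeval a (pderiv j F))) * X j := by
  simp only [tform, pderiv_map]
  refine Finset.sum_congr rfl fun j _ => ?_
  rw [eval_map, ← aeval_def, ← algebraMap_ev]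

theorem exists_functional {n : ℕ} (hn : n < 4) (v : Fin n → (Fin 4 → k)) :
    ∃ L : (Fin 4 → k) →ₗ[k] k, L ≠ 0 ∧ ∀ i, L (v i) = 0 := by
  have hlt : Submodule.span k (Set.range v) < ⊤ := by
    refine lt_top_iff_ne_top.2 fun h => ?_
    have h2 := finrank_range_le_card (R := k) v
    rw [Set.finrank, h, finrank_top] at h2
    simp at h2
    omega
  obtain ⟨f, hf, hle⟩ := Submodule.exists_le_ker_of_lt_top _ hlt
  exact ⟨f, hf, fun i => hle (Submodule.subset_span ⟨i, rfl⟩)⟩

omit [CharZero k] in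
theorem five_general (b : Module.Basis (Fin 4) k (Fin 4 → k)) {x : Fin 4 → k}
    (hx : ∀ i, b.repr x i ≠ 0) (j : Fin 5) :
    LinearIndependent k (fun i : Fin 4 => (Fin.snoc (fun i => b i) x : Fin 5 → (Fin 4 → k)) (j.succAbove i)) := by
  rw [Fintype.linearIndependent_iff]
  intro g hg
  set p : Fin 5 → (Fin 4 → k) := Fin.snoc (fun i => b i) x with hp
  set c : Fin 5 → k := j.insertNth 0 g with hc
  have hsum : ∑ i, c i • p i = 0 := by
    rw [Fin.sum_univ_succAbove _ j]
    simp only [hc, Fin.insertNth_apply_same, Fin.insertNth_apply_succAbove, zero_smul, zero_add]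
    exact hg
  rw [Fin.sum_univ_castSucc] at hsum
  simp only [hp, Fin.snoc_castSucc, Fin.snoc_last] at hsum
  have hcoord : ∀ i : Fin 4, c i.castSucc + c (Fin.last 4) * b.repr x i = 0 := by
    intro i
    have := congrArg (fun v => b.repr v i) hsum
    simp only [map_add, map_smul, map_sum, Finsupp.coe_add, Pi.add_apply, Finsupp.coe_finsetSum, Finset.sum_apply,
      Finsupp.coe_smul, Pi.smul_apply, smul_eq_mul, map_zero, Finsupp.coe_zero, Pi.zero_apply,
      Module.Basis.repr_self] at this
    simpa [Finsupp.single_apply] using this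
  have hlast : c (Fin.last 4) = 0 := by
    rcases Fin.eq_castSucc_or_eq_last j with ⟨j', rfl⟩ | rfl
    · have := hcoord j'
      rw [hc, Fin.insertNth_apply_same, zero_add, mul_eq_zero] at this
      exact this.resolve_right (hx j')
    · simp [hc]
  intro i
  have : c (j.succAbove i) = 0 := by
    rcases Fin.eq_castSucc_or_eq_last (j.succAbove i) with ⟨i', hi⟩ | hi
    · have := hcoord i'
      rw [hlast, zero_mul, add_zero] at this
      rw [hi]; exact this
    · rw [hi]; exact hlast
  simpa [hc] using this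

include hF in
theorem exists_frame {a : Fin 4 → k} (ha : a ≠ 0) (hFa : aeval a F = 0) (hsm : ∃ i, aeval a (pderiv i F) ≠ 0)
    {K : Type*} [Field K] [IsAlgClosed K] [Algebra k K]
    (hT : ¬ TP (MvPolynomial.map (algebraMap k K) F) (fun i => algebraMap k K (a i))) :
    ∃ fr : Frame F, fr.a = a := by
  classical
  let gl : (Fin 4 → k) →ₗ[k] k :=
    { toFun := fun x => Dv F a x
      map_add' := fun x y => by simpa using Dv_comb (F := F) a x y 1 1
      map_smul' := fun c x => by simp [Dv, Finset.mul_sum, mul_assoc] }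
  have hgl : ∀ x, gl x = Dv F a x := fun _ => rfl
  obtain ⟨i0, hi0⟩ := hsm
  have hgi : gl (Pi.single i0 1) = aeval a (pderiv i0 F) := by
    simp [hgl, Dv, Pi.single_apply]
  let e0 : Fin 4 → k := (aeval a (pderiv i0 F))⁻¹ • Pi.single i0 1
  have he0 : gl e0 = 1 := by rw [map_smul, hgi, smul_eq_mul, inv_mul_cancel₀ hi0]
  have hga : gl a = 0 := by rw [hgl, Dv_self hF, hFa, mul_zero]
  have pick : ∀ {n : ℕ}, n < 3 → ∀ v : Fin n → (Fin 4 → k), ∃ x, gl x = 0 ∧ x ∉ Submodule.span k (Set.range v) := by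
    intro n hn v
    by_contra! h
    have hle : LinearMap.ker gl ≤ Submodule.span k (Set.range v) := fun x hx => h x hx
    have h1 := Submodule.finrank_mono hle
    have h2 := finrank_range_le_card (R := k) v
    have h3 := LinearMap.finrank_range_add_finrank_ker gl
    have h4 : Module.finrank k (LinearMap.range gl) ≤ 1 := (Submodule.finrank_le _).trans (by simp)
    simp [Set.finrank] at h2
    simp at h3
    omega
  obtain ⟨e1, he1, he1'⟩ := pick (by norm_num) ![a]
  obtain ⟨e2, he2, he2'⟩ := pick (by norm_num) ![e1, a]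
  have hli : LinearIndependent k ![e0, e2, e1, a] := by
    refine linearIndependent_fin_cons.2 ⟨linearIndependent_fin_cons.2 ⟨linearIndependent_fin_cons.2
      ⟨linearIndependent_unique_iff.2 (by simpa using ha), he1'⟩, he2'⟩, fun hmem => ?_⟩
    have hle : Submodule.span k (Set.range ![e2, e1, a]) ≤ LinearMap.ker gl := by
      rw [Submodule.span_le]; rintro _ ⟨i, rfl⟩
      fin_cases i <;> simp [he1, he2, hga]
    have : gl e0 = 0 := hle hmem
    exact one_ne_zero (he0.symm.trans this)
  let bs : Module.Basis (Fin 4) k (Fin 4 → k) := basisOfLinearIndependentOfCardEqFinrank hli (by simp)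
  have hbs : ⇑bs = ![e0, e2, e1, a] := coe_basisOfLinearIndependentOfCardEqFinrank hli _
  have hbasis : ∀ L : (Fin 4 → k) →ₗ[k] k, L a = 0 → L e0 = 0 → L e1 = 0 → L e2 = 0 → L = 0 := by
    intro L h1 h2 h3 h4
    refine bs.ext fun i => ?_
    rw [hbs]; fin_cases i <;> simp [h1, h2, h3, h4]
  refine ⟨⟨a, ![e0, e1, e2], hFa, he0, he1, he2, hbasis, ?_⟩, rfl⟩
  by_contra hn
  apply hT
  set A := Dv F e1 a
  set B := Dv F (e1 + e2) a - Dv F e1 a - Dv F e2 a
  set C' := Dv F e2 a
  let i := algebraMap k K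
  let P := MvPolynomial (Fin 4) K
  let ℓ : P := ∑ i, C (algebraMap k K (aeval a (pderiv i F))) * X i
  have htf : tform (MvPolynomial.map (algebraMap k K) F) (fun j => algebraMap k K (a j)) = ℓ := tform_map F a
  unfold TP
  rw [htf]
  -- splitting of the restriction to the tangent plane
  obtain ⟨α, β, γ, p, q, r, s, hs⟩ : ∃ α β γ p q r s : K, ∀ (R : Type _) (_ : CommRing R) (f : K →+* R) (x y z : R),
      f (i A) * (x * y * y) + f (i B) * (x * y * z) + f (i C') * (x * z * z) + (f (i (aeval e1 F)) * (y * y * y) +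
        f (i (Dv F e1 e2)) * (y * y * z) + f (i (Dv F e2 e1)) * (y * z * z) + f (i (aeval e2 F)) * (z * z * z)) =
      (f α * x + f β * y + f γ * z) * ((f p * y + f q * z) * (f r * y + f s * z)) := by
    by_cases h0 : A = 0 ∧ B = 0 ∧ C' = 0
    · obtain ⟨h0a, h0b, h0c⟩ := h0
      obtain ⟨u, v, a', b', c', e0', e1', e2', e3'⟩ := cubic_split (i (aeval e1 F)) (i (Dv F e1 e2)) (i (Dv F e2 e1)) (i (aeval e2 F))
      obtain ⟨p, q, r, s, f0, f1, f2⟩ := quad_split a' b' c'
      refine ⟨0, u, v, p, q, r, s, fun R _ f x y z => ?_⟩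
      rw [h0a, h0b, h0c, e0', e1', e2', e3', f0, f1, f2]
      simp only [map_zero, map_add, map_mul]; ring
    · by_cases h1 : ∃ m n, aeval e1 F = A * m ∧ Dv F e1 e2 = B * m + A * n ∧ Dv F e2 e1 = C' * m + B * n ∧ aeval e2 F = C' * n
      · obtain ⟨m, n, g0, g1, g2, g3⟩ := h1
        obtain ⟨p, q, r, s, f0, f1, f2⟩ := quad_split (i A) (i B) (i C')
        refine ⟨1, i m, i n, p, q, r, s, fun R _ f x y z => ?_⟩
        rw [g0, g1, g2, g3]
        simp only [map_add, map_mul, map_one, f0, f1, f2]; ring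
      · push Not at h1
        exact absurd (NDiv_of_not_dvd h0 fun m n hmn => h1 m n hmn.1 hmn.2.1 hmn.2.2.1 hmn.2.2.2) hn
  let crd : Fin 4 → P := fun j => ∑ l, C (i (bs.repr (Pi.single l 1) j)) * X l
  have hhom : ∀ x : K, ∀ j, (C x * crd j).IsHomogeneous 1 := fun x j =>
    (IsHomogeneous.sum _ _ _ fun l _ => (isHomogeneous_X K l).C_mul _).C_mul _
  refine ⟨C α * crd 3 + C β * crd 2 + C γ * crd 1, C p * crd 2 + C q * crd 1, C r * crd 2 + C s * crd 1,
    ((hhom _ _).add (hhom _ _)).add (hhom _ _), (hhom _ _).add (hhom _ _), (hhom _ _).add (hhom _ _), ?_⟩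
  have hrec : ∀ m : Fin 4, (X m : P) = ∑ j, C (i (bs j m)) * crd j := by
    intro m
    have hid : ∀ l, ∑ j, bs.repr (Pi.single l 1) j * bs j m = (Pi.single l 1 : Fin 4 → k) m := fun l => by
      conv_rhs => rw [← bs.sum_repr (Pi.single l 1)]
      simp [Finset.sum_apply]
    simp only [crd, Finset.mul_sum, ← mul_assoc, ← map_mul]
    rw [Finset.sum_comm]
    simp only [← Finset.sum_mul, ← map_sum, mul_comm (bs _ m), hid]
    simp [Pi.single_apply]
  have hℓ : crd 0 = ℓ := by
    simp only [crd, ℓ]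
    refine Finset.sum_congr rfl fun l _ => ?_
    congr 3
    have h1 : gl (∑ j, bs.repr (Pi.single l 1) j • bs j) = gl (Pi.single l 1) := by rw [bs.sum_repr]
    simp [Fin.sum_univ_four, hbs, he0, he1, he2, hga] at h1
    rw [h1, hgl]; simp [Dv, Pi.single_apply]
  rw [← Ideal.Quotient.eq]
  let Q := P ⧸ Ideal.span {ℓ}
  let mk : P →ₐ[k] Q := Ideal.Quotient.mkₐ k _
  let ι : (Fin 4 → k) → (Fin 4 → Q) := fun v m => algebraMap k Q (v m)
  have hX : (fun m => mk (X m)) = mk (crd 3) • ι a + (1 : Q) • (mk (crd 2) • ι e1 + mk (crd 1) • ι e2) := funext fun m => by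
    have h0 : mk (crd 0) = 0 := by
      rw [hℓ]; exact Ideal.Quotient.eq_zero_iff_mem.2 (Ideal.mem_span_singleton_self _)
    have hC : ∀ v : k, mk (C (i v)) = algebraMap k Q v := fun v => mk.commutes v
    simp only [Pi.add_apply, Pi.smul_apply, smul_eq_mul, one_mul, ι]
    rw [hrec m]
    simp [Fin.sum_univ_four, hbs, map_add, map_mul, hC, h0]
    ring
  have hmapF : mk (MvPolynomial.map i F) = aeval (fun m => mk (X m)) F := by
    have : ∀ G : MvPolynomial (Fin 4) k, MvPolynomial.map i G = aeval (X : Fin 4 → P) G := fun G => by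
      induction G using MvPolynomial.induction_on with
      | C c => rw [map_C, aeval_C]; rfl
      | add p q hp hq => rw [map_add, map_add, hp, hq]
      | mul_X p m hp => rw [map_mul, map_mul, hp, map_X, aeval_X]
    rw [this, map_ev]
  change mk (MvPolynomial.map i F) = mk _
  rw [hmapF, hX]
  have hιD : ∀ x y, Dv F (ι x) (ι y) = algebraMap k Q (Dv F x y) := fun x y => algebraMap_Dv F x y
  have hιF : ∀ x, aeval (ι x) F = algebraMap k Q (aeval x F) := fun x => algebraMap_ev F x
  have hg1 : Dv F a e1 = 0 := he1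
  have hg2 : Dv F a e2 = 0 := he2
  have e12 : ι e1 + ι e2 = ι (e1 + e2) := funext fun t => (map_add (algebraMap k Q) (e1 t) (e2 t)).symm
  rw [aeval_line hF, Dv_comb, hιD, hιD, hg1, hg2, Dv_line hF, e12, aeval_line hF]
  simp only [hιD, hιF, hFa, map_zero, mul_zero, zero_mul, add_zero, zero_add, one_pow, mul_one, one_mul]
  have := hs Q inferInstance (mk.toRingHom.comp C) (mk (crd 3)) (mk (crd 2)) (mk (crd 1))
  have hC : ∀ v : k, mk (C (i v)) = algebraMap k Q v := fun v => mk.commutes v
  simp only [RingHom.coe_comp, Function.comp_apply, AlgHom.toRingHom_eq_coe, RingHom.coe_coe, hC] at this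
  simp only [map_mul, map_add, A, B, C', map_sub] at this ⊢
  linear_combination this

include hF in
theorem exists_five (hirr : Irreducible F)
    (hcone : ¬ ∃ v : Fin 4 → k, v ≠ 0 ∧ ∑ i, v i • pderiv i F = 0)
    {a : Fin 4 → k} (ha : a ≠ 0) (hFa : aeval a F = 0)
    {K : Type*} [Field K] [IsAlgClosed K] [Algebra k K]
    (hT : ¬ TP (MvPolynomial.map (algebraMap k K) F) (fun i => algebraMap k K (a i))) :
    ∃ p : Fin 5 → (Fin 4 → k), p 0 = a ∧ (∀ j, aeval (p j) F = 0) ∧
      ∀ j : Fin 5, LinearIndependent k (fun i : Fin 4 => p (j.succAbove i)) := by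
  classical
  have avoid : ∀ {M : ℕ} (Ls : Fin M → ((Fin 4 → k) →ₗ[k] k)), (∀ m, Ls m ≠ 0) →
      ∃ x, aeval x F = 0 ∧ ∀ m, Ls m x ≠ 0 := by
    intro M Ls hLs
    by_cases hs : ∀ i, aeval a (pderiv i F) = 0
    · exact exists_avoid_singular F hF (hirr) hFa hs hcone ha Ls hLs
    · push Not at hs
      obtain ⟨fr, -⟩ := exists_frame F hF ha hFa hs hT
      exact exists_avoid_smooth F hF fr Ls hLs
  obtain ⟨L1, hL1, hL1v⟩ := exists_functional (n := 1) (by norm_num) ![a]
  obtain ⟨q1, hq1, hq1'⟩ := avoid ![L1] (fun m => by fin_cases m; exact hL1)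
  obtain ⟨L2, hL2, hL2v⟩ := exists_functional (n := 2) (by norm_num) ![a, q1]
  obtain ⟨q2, hq2, hq2'⟩ := avoid ![L2] (fun m => by fin_cases m; exact hL2)
  obtain ⟨L3, hL3, hL3v⟩ := exists_functional (n := 3) (by norm_num) ![a, q1, q2]
  obtain ⟨q3, hq3, hq3'⟩ := avoid ![L3] (fun m => by fin_cases m; exact hL3)
  have hli : LinearIndependent k ![a, q1, q2, q3] := by
    have ka : L1 a = 0 := hL1v 0
    have k2a : L2 a = 0 := hL2v 0
    have k2b : L2 q1 = 0 := hL2v 1
    have k3a : L3 a = 0 := hL3v 0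
    have k3b : L3 q1 = 0 := hL3v 1
    have k3c : L3 q2 = 0 := hL3v 2
    rw [Fintype.linearIndependent_iff]
    intro g hg
    simp [Fin.sum_univ_four] at hg
    have r3 := congrArg L3 hg
    simp [k3a, k3b, k3c] at r3
    have g3 : g 3 = 0 := r3.resolve_right (by simpa using hq3' 0)
    have r2 := congrArg L2 hg
    simp [k2a, k2b, g3] at r2
    have g2 : g 2 = 0 := r2.resolve_right (by simpa using hq2' 0)
    have r1 := congrArg L1 hg
    simp [ka, g2, g3] at r1
    have g1 : g 1 = 0 := r1.resolve_right (by simpa using hq1' 0)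
    simp [g1, g2, g3, ha] at hg
    intro i; fin_cases i <;> assumption
  let b := basisOfLinearIndependentOfCardEqFinrank hli (by simp)
  have hb : ⇑b = ![a, q1, q2, q3] := coe_basisOfLinearIndependentOfCardEqFinrank hli _
  obtain ⟨x, hx, hx'⟩ := avoid (fun i => b.coord i) (fun i h => by
    simpa using LinearMap.congr_fun h (b i))
  refine ⟨Fin.snoc (fun i => b i) x, ?_, fun j => ?_, five_general b hx'⟩
  · show (Fin.snoc (fun i => b i) x : Fin 5 → (Fin 4 → k)) (0 : Fin 4).castSucc = a
    rw [Fin.snoc_castSucc, hb]; rfl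
  · rcases Fin.eq_castSucc_or_eq_last j with ⟨i, rfl⟩ | rfl
    · rw [Fin.snoc_castSucc, hb]
      fin_cases i <;> assumption
    · rw [Fin.snoc_last]; exact hx

end Groth.Agent.CubicPts
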