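import Groth.Agent.CubicPts.RatPoints

/-! Lines through a singular point of an irreducible cubic surface. -/

set_option autoImplicit false

open MvPolynomial

set_option maxHeartbeats 2000000

namespace Groth.Agent.CubicPts

variable {K : Type*} [Field K] [CharZero K] {F : MvPolynomial (Fin 4) K}

theorem Dv_singular {p : Fin 4 → K} (hsing : ∀ i, eval p (pderiv i F) = 0) (u : Fin 4 → K) : Dv F p u = 0 := by
  simp [Dv, aeval_eq_eval, hsing]

theorem aeval_singular (hF : F.IsHomogeneous 3) {p : Fin 4 → K} (hFp : eval p F = 0)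
    (hsing : ∀ i, eval p (pderiv i F) = 0) (x : K) (u : Fin 4 → K) :
    aeval (x • p + (1 : K) • u) F = x * Dv F u p + aeval u F := by
  rw [aeval_line hF, Dv_singular hsing, show aeval p F = 0 by rw [aeval_eq_eval]; exact hFp]; ring

theorem Dv_singular_shift (hF : F.IsHomogeneous 3) {p : Fin 4 → K} (hFp : eval p F = 0)
    (hsing : ∀ i, eval p (pderiv i F) = 0) (x : K) (u : Fin 4 → K) : Dv F ((1 : K) • u + x • p) p = Dv F u p := by
  rw [Dv_line_self hF, Dv_singular hsing, show aeval p F = 0 by rw [aeval_eq_eval]; exact hFp]; ring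

/-- polynomial of a linear functional -/
noncomputable def linPoly (L : (Fin 4 → K) →ₗ[K] K) : MvPolynomial (Fin 4) K := ∑ i, C (L (Pi.single i 1)) * X i

theorem eval_linPoly (L : (Fin 4 → K) →ₗ[K] K) (x : Fin 4 → K) : eval x (linPoly L) = L x := by
  simp only [linPoly, map_sum, map_mul, eval_C, eval_X]
  conv_rhs => rw [pi_eq_sum_univ' x, map_sum]
  exact Finset.sum_congr rfl fun i _ => by rw [map_smul, smul_eq_mul, mul_comm]

theorem linPoly_ne_zero {L : (Fin 4 → K) →ₗ[K] K} (h : L ≠ 0) : linPoly L ≠ 0 := fun h0 =>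
  h (LinearMap.ext fun x => by rw [← eval_linPoly, h0, map_zero]; rfl)

theorem exists_functional3 (a b c : Fin 4 → K) : ∃ L : (Fin 4 → K) →ₗ[K] K, L ≠ 0 ∧ L a = 0 ∧ L b = 0 ∧ L c = 0 := by
  have hlt : Submodule.span K (Set.range ![a, b, c]) < ⊤ := by
    refine lt_top_iff_ne_top.2 fun h => ?_
    have h2 := finrank_range_le_card (R := K) ![a, b, c]
    rw [Set.finrank, h, finrank_top] at h2
    simp at h2
  obtain ⟨f, hf, hle⟩ := Submodule.exists_le_ker_of_lt_top _ hlt
  exact ⟨f, hf, hle (Submodule.subset_span ⟨0, rfl⟩), hle (Submodule.subset_span ⟨1, rfl⟩), hle (Submodule.subset_span ⟨2, rfl⟩)⟩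

theorem exists_polar_ne_zero (hcone : ¬ ∃ v : Fin 4 → K, v ≠ 0 ∧ ∑ i, v i • pderiv i F = 0) {p : Fin 4 → K} (hp : p ≠ 0) :
    ∃ P : MvPolynomial (Fin 4) K, P ≠ 0 ∧ ∀ u, eval u P = Dv F u p :=
  ⟨∑ i, p i • pderiv i F, fun h => hcone ⟨p, hp, h⟩, fun u => by simp [Dv, aeval_eq_eval, smul_eval]⟩

theorem constantCoeff_eq_zero_of_hom {n : ℕ} {G : MvPolynomial (Fin 4) K} (hG : G.IsHomogeneous (n + 1)) :
    constantCoeff G = 0 :=
  hG.coeff_eq_zero (d := 0) (by simp)

/-- an irreducible form is not divisible by a linear form -/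
theorem no_plane (hF : F.IsHomogeneous 3) (hirr : Irreducible F) {L : (Fin 4 → K) →ₗ[K] K} (hL : L ≠ 0)
    (h : ∀ x, L x = 0 → eval x F = 0) : False := by
  classical
  obtain ⟨v, hv⟩ : ∃ v, L v = 1 := by
    obtain ⟨v, hv⟩ : ∃ v, L v ≠ 0 := by
      by_contra! h0
      exact hL (LinearMap.ext h0)
    exact ⟨(L v)⁻¹ • v, by rw [map_smul, smul_eq_mul, inv_mul_cancel₀ hv]⟩
  let l := linPoly L
  have h0 : aeval (fun i => X i - l * C (v i)) F = 0 := by
    refine MvPolynomial.funext fun x => ?_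
    rw [map_zero, ← aeval_eq_eval, map_ev (MvPolynomial.aeval x)]
    have e : (fun i => aeval x (X i - l * C (v i))) = x - L x • v := by
      funext i
      simp [aeval_eq_eval, l, eval_linPoly]
    rw [e, aeval_eq_eval]
    exact h _ (by rw [map_sub, map_smul, hv, smul_eq_mul, mul_one, sub_self])
  have hmem : F ∈ Ideal.span {l} := by
    rw [← Ideal.Quotient.eq_zero_iff_mem]
    let mk : MvPolynomial (Fin 4) K →ₐ[K] MvPolynomial (Fin 4) K ⧸ Ideal.span {l} := Ideal.Quotient.mkₐ K _
    show mk F = 0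
    have e : (fun i => mk (X i - l * C (v i))) = fun i => mk (X i) := by
      funext i
      have hl : mk l = 0 := Ideal.Quotient.eq_zero_iff_mem.2 (Ideal.mem_span_singleton_self _)
      rw [map_sub, map_mul, hl, zero_mul, sub_zero]
    have := congrArg mk h0
    rw [map_zero, map_ev mk, e] at this
    rwa [← aeval_X_left_apply F, map_ev mk]
  obtain ⟨G, hG⟩ := Ideal.mem_span_singleton'.1 hmem
  have hl1 : l.IsHomogeneous 1 := IsHomogeneous.sum _ _ _ fun i _ => (isHomogeneous_X K i).C_mul _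
  rcases hirr.isUnit_or_isUnit hG.symm with hu | hu
  · obtain ⟨g, hg, rfl⟩ := MvPolynomial.isUnit_iff_eq_C_of_isReduced.1 hu
    have : F.IsHomogeneous 1 := hG ▸ hl1.C_mul g
    exact absurd (this.inj_right hF hirr.ne_zero) (by norm_num)
  · exact not_isUnit_zero (constantCoeff_eq_zero_of_hom (n := 0) hl1 ▸ hu.map constantCoeff)

/-- no seven lines through a singular point -/
theorem no_seven_lines (hF : F.IsHomogeneous 3) (hirr : Irreducible F)
    (hcone : ¬ ∃ v : Fin 4 → K, v ≠ 0 ∧ ∑ i, v i • pderiv i F = 0) {p : Fin 4 → K} (hp : p ≠ 0) (hFp : eval p F = 0)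
    (hsing : ∀ i, eval p (pderiv i F) = 0) (u : Fin 7 → (Fin 4 → K))
    (hFu : ∀ i, eval (u i) F = 0) (hQu : ∀ i, Dv F (u i) p = 0)
    (hup : ∀ i, u i ∉ Submodule.span K {p}) (hdist : ∀ i j, i ≠ j → u i ∉ Submodule.span K (Set.range ![p, u j])) : False := by
  classical
  obtain ⟨P, hP, hPe⟩ := exists_polar_ne_zero hcone hp
  choose Ls hLs hL1 hL2 hL3 using fun ij : Fin 7 × Fin 7 => exists_functional3 p (u ij.1) (u ij.2)
  obtain ⟨w2, hw2⟩ := exists_eval_ne_zero (mul_ne_zero hP
    (Finset.prod_ne_zero_iff.2 fun ij (_ : ij ∈ (Finset.univ : Finset (Fin 7 × Fin 7))) => linPoly_ne_zero (hLs ij)))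
  rw [map_mul, map_prod, mul_ne_zero_iff, Finset.prod_ne_zero_iff] at hw2
  obtain ⟨hκ, hw2L⟩ := hw2
  rw [hPe] at hκ
  simp only [eval_linPoly] at hw2L
  have pick : ∀ {n : ℕ}, n < 4 → ∀ v : Fin n → (Fin 4 → K), ∃ x, x ∉ Submodule.span K (Set.range v) := by
    intro n hn v
    by_contra! h
    have h2 := finrank_range_le_card (R := K) v
    rw [Set.finrank, Submodule.eq_top_iff'.2 h, finrank_top] at h2
    simp at h2
    omega
  obtain ⟨f0, hf0⟩ := pick (by norm_num) ![w2, p]
  obtain ⟨f1, hf1⟩ := pick (by norm_num) ![f0, w2, p]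
  have hw2p : w2 ∉ Submodule.span K (Set.range ![p]) := by
    intro h
    obtain ⟨c, rfl⟩ := Submodule.mem_span_singleton.1 (by simpa using h)
    exact hw2L (0, 0) (Finset.mem_univ _) (by rw [map_smul, hL1, smul_zero])
  have hli : LinearIndependent K ![f1, f0, w2, p] :=
    linearIndependent_fin_cons.2 ⟨linearIndependent_fin_cons.2 ⟨linearIndependent_fin_cons.2
      ⟨linearIndependent_unique_iff.2 (by simpa using hp), hw2p⟩, hf0⟩, hf1⟩
  let bs := basisOfLinearIndependentOfCardEqFinrank hli (by simp)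
  have hbs : ⇑bs = ![f1, f0, w2, p] := coe_basisOfLinearIndependentOfCardEqFinrank hli _
  have hrep : ∀ v, v = bs.coord 0 v • f1 + bs.coord 1 v • f0 + bs.coord 2 v • w2 + bs.coord 3 v • p := fun v => by
    conv_lhs => rw [← bs.sum_repr v]
    simp [Fin.sum_univ_four, hbs]
  have hxy : ∀ i, ¬ (bs.coord 1 (u i) = 0 ∧ bs.coord 0 (u i) = 0) := by
    rintro i ⟨h1, h0⟩
    have h := hrep (u i)
    rw [h1, h0, zero_smul, zero_smul, zero_add, zero_add] at h
    rcases eq_or_ne (bs.coord 2 (u i)) 0 with h2 | h2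
    · exact hup i (Submodule.mem_span_singleton.2 ⟨_, by rw [h2, zero_smul, zero_add] at h; exact h.symm⟩)
    · refine hw2L (i, i) (Finset.mem_univ _) ?_
      have := congrArg (Ls (i, i)) h
      rw [hL2 (i, i), map_add, map_smul, map_smul, hL1, smul_zero, add_zero, smul_eq_mul] at this
      exact (mul_eq_zero.1 this.symm).resolve_left h2
  obtain ⟨τ, hτ⟩ := Infinite.exists_notMem_finset
    (Finset.univ.image fun i => -(bs.coord 0 (u i)) / bs.coord 1 (u i))
  let η : (Fin 4 → K) →ₗ[K] K := bs.coord 0 + τ • bs.coord 1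
  have hη : ∀ i, η (u i) ≠ 0 := by
    intro i h
    simp only [η, LinearMap.add_apply, LinearMap.smul_apply, smul_eq_mul] at h
    rcases eq_or_ne (bs.coord 1 (u i)) 0 with h1 | h1
    · exact hxy i ⟨h1, by rw [h1, mul_zero, add_zero] at h; exact h⟩
    · exact hτ (Finset.mem_image.2 ⟨i, Finset.mem_univ _, by field_simp; linear_combination -h⟩)
  set w0 := f0 - τ • f1 with hw0
  set w1 := f1 with hw1
  have hdec : ∀ v, v = bs.coord 3 v • p + (bs.coord 1 v • w0 + η v • w1 + bs.coord 2 v • w2) := fun v => by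
    conv_lhs => rw [hrep v]
    simp only [η, hw0, hw1, LinearMap.add_apply, LinearMap.smul_apply, smul_eq_mul]
    module
  set Xs : Fin 7 → K := fun i => bs.coord 1 (u i) / η (u i)
  set zs : Fin 7 → K := fun i => bs.coord 2 (u i) / η (u i)
  have hX : Function.Injective Xs := by
    intro i j hij
    by_contra hne
    apply hdist i j hne
    have ei := hdec (u i); have ej := hdec (u j)
    have hXj : bs.coord 1 (u i) = η (u i) / η (u j) * bs.coord 1 (u j) := by
      have := (div_eq_div_iff (hη i) (hη j)).1 hij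
      field_simp [hη j]
      linear_combination this
    have hc : u i = (η (u i) / η (u j)) • u j + (bs.coord 3 (u i) - η (u i) / η (u j) * bs.coord 3 (u j)) • p +
        (bs.coord 2 (u i) - η (u i) / η (u j) * bs.coord 2 (u j)) • w2 := by
      have hηη : η (u i) = η (u i) / η (u j) * η (u j) := (div_mul_cancel₀ _ (hη j)).symm
      generalize η (u i) / η (u j) = r at hXj hηη ⊢
      conv_lhs => rw [ei, hXj, hηη]
      conv_rhs => arg 1; arg 1; arg 2; rw [ej]
      module
    have h0 : bs.coord 2 (u i) - η (u i) / η (u j) * bs.coord 2 (u j) = 0 := by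
      have := congrArg (Ls (i, j)) hc
      simp only [map_add, map_smul, hL1, hL2 (i, j), hL3 (i, j), smul_eq_mul, mul_zero, zero_add] at this
      exact (mul_eq_zero.1 this.symm).resolve_right (hw2L _ (Finset.mem_univ _))
    rw [h0, zero_smul, add_zero] at hc
    exact (Submodule.mem_span_range_iff_exists_fun K).2
      ⟨![bs.coord 3 (u i) - η (u i) / η (u j) * bs.coord 3 (u j), η (u i) / η (u j)],
        by conv_rhs => rw [hc]
           simp [Fin.sum_univ_two, add_comm]⟩
  set κ := Dv F w2 p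
  let U : K → (Fin 4 → K) := fun X => X • w0 + (1 : K) • w1
  let q0 : Polynomial K := Polynomial.C (Dv F w0 p) * Polynomial.X ^ 2 +
    Polynomial.C (Dv F (w0 + w1) p - Dv F w0 p - Dv F w1 p) * Polynomial.X + Polynomial.C (Dv F w1 p)
  let q1 : Polynomial K := Polynomial.C (Dv F (w0 + w2) p - Dv F w0 p - κ) * Polynomial.X +
    Polynomial.C (Dv F (w1 + w2) p - Dv F w1 p - κ)
  let c0 : Polynomial K := Polynomial.C (aeval w0 F) * Polynomial.X ^ 3 + Polynomial.C (Dv F w0 w1) * Polynomial.X ^ 2 +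
    Polynomial.C (Dv F w1 w0) * Polynomial.X + Polynomial.C (aeval w1 F)
  let c1 : Polynomial K := Polynomial.C (Dv F w0 w2) * Polynomial.X ^ 2 +
    Polynomial.C (Dv F (w0 + w1) w2 - Dv F w0 w2 - Dv F w1 w2) * Polynomial.X + Polynomial.C (Dv F w1 w2)
  let c2 : Polynomial K := Polynomial.C (Dv F w2 w0) * Polynomial.X + Polynomial.C (Dv F w2 w1)
  have hBlin : ∀ a b : Fin 4 → K, ∀ s t : K, Dv F (s • a + t • b + w2) p - Dv F (s • a + t • b) p - κ =
      s * (Dv F (a + w2) p - Dv F a p - κ) + t * (Dv F (b + w2) p - Dv F b p - κ) := by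
    intro a b s t
    refine cubic_induction (P := fun F => Dv F (s • a + t • b + w2) p - Dv F (s • a + t • b) p - Dv F w2 p =
      s * (Dv F (a + w2) p - Dv F a p - Dv F w2 p) + t * (Dv F (b + w2) p - Dv F b p - Dv F w2 p)) ?_ ?_ ?_ hF
    · simp [Dv_zero_left]
    · intro f g hf hg; simp only [Dv_add_left]; linear_combination hf + hg
    · intro c i j l; simp only [Dv_monomial, Pi.add_apply, Pi.smul_apply, smul_eq_mul]; ring
  have hQe : ∀ X z : K, Dv F ((1 : K) • U X + z • w2) p = q0.eval X + z * q1.eval X + z ^ 2 * κ := by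
    intro X z
    rw [Dv_line hF, show Dv F (U X + w2) p - Dv F (U X) p - Dv F w2 p = _ from hBlin w0 w1 X 1, Dv_line hF]
    simp [q0, q1, κ]; ring
  have hFe : ∀ X z : K, aeval ((1 : K) • U X + z • w2) F = c0.eval X + z * c1.eval X + z ^ 2 * c2.eval X + z ^ 3 * aeval w2 F := by
    intro X z
    rw [aeval_line hF, aeval_line hF, Dv_line hF, Dv_comb]
    simp [c0, c1, c2]; ring
  set c3 := aeval w2 F with hc3
  let Bp := Polynomial.C κ⁻¹ * q1
  let Q0 := Polynomial.C κ⁻¹ * q0
  let r1 := c1 - Bp * c2 + Polynomial.C c3 * (Bp ^ 2 - Q0)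
  let r0 := c0 - Q0 * c2 + Polynomial.C c3 * (Bp * Q0)
  let Res := r0 ^ 2 - Bp * r0 * r1 + Q0 * r1 ^ 2
  have hdeg : Res.natDegree ≤ 6 := by
    simp only [Res, r0, r1, Bp, Q0, q0, q1, c0, c1, c2]
    compute_degree
  have hroot : ∀ i, Res.eval (Xs i) = 0 := by
    intro i
    have e := hdec (u i)
    have e' : u i = bs.coord 3 (u i) • p + (1 : K) • (η (u i) • ((1 : K) • U (Xs i) + zs i • w2)) := by
      conv_lhs => rw [e]
      simp only [U, Xs, zs, one_smul, smul_add, smul_smul, one_mul, mul_one, mul_div_cancel₀ _ (hη i)]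
    have hd := hQu i
    rw [e', add_comm, Dv_singular_shift hF hFp hsing, Dv_smul hF, hQe] at hd
    have hQ0 := (mul_eq_zero.1 hd).resolve_left (pow_ne_zero _ (hη i))
    have hf := hFu i
    rw [← aeval_eq_eval, e', aeval_singular hF hFp hsing, Dv_smul hF, hQe, hQ0, mul_zero, mul_zero, zero_add] at hf
    have hsm : ∀ (s : K) (v : Fin 4 → K), aeval (s • v) F = s ^ 3 * aeval v F := fun s v => by
      simpa using aeval_line hF s 0 v v
    rw [hsm, hFe] at hf
    have hF0 := (mul_eq_zero.1 hf).resolve_left (pow_ne_zero _ (hη i))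
    have hz : zs i ^ 2 + Bp.eval (Xs i) * zs i + Q0.eval (Xs i) = 0 := by
      simp only [Bp, Q0, Polynomial.eval_mul, Polynomial.eval_C]
      field_simp
      linear_combination hQ0
    have hlin : r0.eval (Xs i) + zs i * r1.eval (Xs i) = 0 := by
      simp only [r0, r1, Polynomial.eval_sub, Polynomial.eval_add, Polynomial.eval_mul, Polynomial.eval_pow, Polynomial.eval_C]
      linear_combination hF0 - (c2.eval (Xs i) + c3 * (zs i - Bp.eval (Xs i))) * hz
    simp only [Res, Polynomial.eval_sub, Polynomial.eval_add, Polynomial.eval_mul, Polynomial.eval_pow]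
    linear_combination (r0.eval (Xs i) - Bp.eval (Xs i) * r1.eval (Xs i) - zs i * r1.eval (Xs i)) * hlin + r1.eval (Xs i) ^ 2 * hz
  have hRes : Res = 0 := Polynomial.eq_zero_of_natDegree_lt_card_of_eval_eq_zero Res hX hroot (by simp; omega)
  have hκ' : κ ≠ 0 := hκ
  by_cases h1 : r1 = 0
  · -- the residual line
    have h0 : r0 = 0 := by
      have := hRes
      simp only [Res, h1] at this
      simpa using this
    let g := c2 - Polynomial.C c3 * Bp
    set g1 := Dv F w2 w0 - c3 * (κ⁻¹ * (Dv F (w0 + w2) p - Dv F w0 p - κ))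
    set g0 := Dv F w2 w1 - c3 * (κ⁻¹ * (Dv F (w1 + w2) p - Dv F w1 p - κ))
    let L : (Fin 4 → K) →ₗ[K] K := bs.coord 3 + κ⁻¹ • (c3 • bs.coord 2 + g1 • bs.coord 1 + g0 • η)
    have hid : P * linPoly L = F := by
      have hzero : linPoly η * (P * linPoly L - F) = 0 := MvPolynomial.funext fun v => by
        rw [map_zero, map_mul, map_sub, map_mul, eval_linPoly, eval_linPoly, hPe]
        rcases eq_or_ne (η v) 0 with hv | hv
        · rw [hv, zero_mul]
        have e' : v = bs.coord 3 v • p + (1 : K) • (η v • ((1 : K) • U (bs.coord 1 v / η v) + (bs.coord 2 v / η v) • w2)) := by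
          conv_lhs => rw [hdec v]
          simp only [U, one_smul, smul_add, smul_smul, one_mul, mul_one, mul_div_cancel₀ _ hv]
        have hsm : ∀ (s : K) (v : Fin 4 → K), aeval (s • v) F = s ^ 3 * aeval v F := fun s v => by
          simpa using aeval_line hF s 0 v v
        rw [← aeval_eq_eval]
        conv_lhs => arg 2; arg 1; arg 1; rw [e', add_comm, Dv_singular_shift hF hFp hsing, Dv_smul hF, hQe]
        conv_lhs => arg 2; arg 2; rw [e', aeval_singular hF hFp hsing, Dv_smul hF, hQe, hsm, hFe]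
        set X := bs.coord 1 v / η v with hXd
        set z := bs.coord 2 v / η v with hzd
        have ev0 := congrArg (Polynomial.eval X) h0
        have ev1 := congrArg (Polynomial.eval X) h1
        simp only [r0, r1, Bp, Q0, Polynomial.eval_sub, Polynomial.eval_add, Polynomial.eval_mul, Polynomial.eval_pow,
          Polynomial.eval_C, Polynomial.eval_zero] at ev0 ev1
        have hg : c2.eval X - c3 * (κ⁻¹ * q1.eval X) = g1 * X + g0 := by
          simp [c2, q1, g0, g1]; ring
        have hLv : L v = bs.coord 3 v + κ⁻¹ * (η v * (c3 * z + (g1 * X + g0))) := by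
          simp only [L, LinearMap.add_apply, LinearMap.smul_apply, smul_eq_mul]
          rw [hXd, hzd]; field_simp; ring
        rw [hLv, ← hg]
        have hk : κ * κ⁻¹ = 1 := mul_inv_cancel₀ hκ'
        linear_combination (η v ^ 4) * (-ev0 - z * ev1) + (η v ^ 4 * (z ^ 2 * c2.eval X + z ^ 3 * c3 - c3 * κ⁻¹ * z ^ 2 * q1.eval X)) * hk
      exact sub_eq_zero.1 ((mul_eq_zero.1 hzero).resolve_left (linPoly_ne_zero fun h => hη 0 (by simp [h])))
    have hPc : constantCoeff P = 0 := by
      rw [← eval_zero, hPe, show (0 : Fin 4 → K) = (0 : K) • p by simp, Dv_smul hF]; ring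
    rcases hirr.isUnit_or_isUnit hid.symm with hu | hu
    · exact not_isUnit_zero (hPc ▸ hu.map constantCoeff)
    · exact not_isUnit_zero ((constantCoeff_eq_zero_of_hom (n := 0)
        (IsHomogeneous.sum _ _ _ fun i _ => (isHomogeneous_X K i).C_mul _ : (linPoly L).IsHomogeneous 1)) ▸ hu.map constantCoeff)
  · obtain ⟨a, b, g, hab, hga, hgb⟩ := UniqueFactorizationMonoid.exists_reduced_factors' r0 r1 h1
    have hg0 : g ≠ 0 := fun h => h1 (by rw [← hgb, h, zero_mul])
    have e : a ^ 2 - Bp * a * b + Q0 * b ^ 2 = 0 := by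
      have : g ^ 2 * (a ^ 2 - Bp * a * b + Q0 * b ^ 2) = 0 := by
        rw [← hRes]; simp only [Res, ← hga, ← hgb]; ring
      exact (mul_eq_zero.1 this).resolve_left (pow_ne_zero _ hg0)
    have hb : IsUnit b := hab (IsRelPrime.dvd_of_dvd_mul_right hab.symm
      (⟨Bp * a - Q0 * b, by linear_combination e⟩ : b ∣ a * a)) dvd_rfl
    obtain ⟨bu, rfl⟩ := hb
    set ρ := -a * (↑bu⁻¹ : Polynomial K) with hρ
    have hb1 : (bu : Polynomial K) * (↑bu⁻¹ : Polynomial K) = 1 := Units.mul_inv bu
    have hρe : ρ ^ 2 + Bp * ρ + Q0 = 0 := by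
      rw [hρ]
      linear_combination ((↑bu⁻¹ : Polynomial K) ^ 2) * e + (Bp * a * (↑bu⁻¹ : Polynomial K) - Q0 * ((bu : Polynomial K) * (↑bu⁻¹ : Polynomial K) + 1)) * hb1
    have hρr : r0 + ρ * r1 = 0 := by
      rw [hρ, ← hga, ← hgb]; linear_combination (-(g * a)) * hb1
    have hρdeg : ρ.natDegree ≤ 1 := by
      by_contra! hd
      have hB : Bp.natDegree ≤ 1 := by simp only [Bp, q1]; compute_degree
      have hQ : Q0.natDegree ≤ 2 := by simp only [Q0, q0]; compute_degree
      have h2 : (ρ ^ 2).natDegree = 2 * ρ.natDegree := Polynomial.natDegree_pow ρ 2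
      have h3 : (ρ ^ 2).natDegree ≤ max (Bp * ρ).natDegree Q0.natDegree := by
        rw [show ρ ^ 2 = -(Bp * ρ + Q0) by linear_combination hρe, Polynomial.natDegree_neg]
        exact Polynomial.natDegree_add_le _ _
      have h4 := Polynomial.natDegree_mul_le (p := Bp) (q := ρ)
      omega
    obtain ⟨m, n, hmn⟩ := Polynomial.exists_eq_X_add_C_of_natDegree_le_one hρdeg
    set L : (Fin 4 → K) →ₗ[K] K := bs.coord 2 - m • bs.coord 1 - n • η with hLdef
    have hL0 : L ≠ 0 := fun h => by
      have := LinearMap.congr_fun h (bs 2)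
      simp [hLdef, η] at this
    have hηne : linPoly η ≠ 0 := linPoly_ne_zero fun h => hη 0 (by simp [h])
    have hvan : ∀ v, L v = 0 → η v ≠ 0 → eval v F = 0 := by
      intro v hv hv'
      have hz : bs.coord 2 v / η v = m * (bs.coord 1 v / η v) + n := by
        simp only [hLdef, LinearMap.sub_apply, LinearMap.smul_apply, smul_eq_mul] at hv
        field_simp; linear_combination hv
      have e' : v = bs.coord 3 v • p + (1 : K) • (η v • ((1 : K) • U (bs.coord 1 v / η v) + (bs.coord 2 v / η v) • w2)) := by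
        conv_lhs => rw [hdec v]
        simp only [U, one_smul, smul_add, smul_smul, one_mul, mul_one, mul_div_cancel₀ _ hv']
      have hsm : ∀ (s : K) (v : Fin 4 → K), aeval (s • v) F = s ^ 3 * aeval v F := fun s v => by
        simpa using aeval_line hF s 0 v v
      rw [← aeval_eq_eval, e', aeval_singular hF hFp hsing, Dv_smul hF, hQe, hsm, hFe, hz]
      set X := bs.coord 1 v / η v
      have ev0 := congrArg (Polynomial.eval X) hρe
      have ev1 := congrArg (Polynomial.eval X) hρr
      rw [hmn] at ev0 ev1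
      simp only [r0, r1, Bp, Q0, Polynomial.eval_sub, Polynomial.eval_add, Polynomial.eval_mul, Polynomial.eval_pow,
        Polynomial.eval_C, Polynomial.eval_X, Polynomial.eval_zero] at ev0 ev1
      have hk : κ * κ⁻¹ = 1 := mul_inv_cancel₀ hκ'
      set z := m * X + n
      linear_combination (η v ^ 3) * ev1 + (η v ^ 2 * bs.coord 3 v * κ + η v ^ 3 * (c2.eval X + c3 * (z - κ⁻¹ * q1.eval X))) * ev0 +
        (-(η v ^ 2 * bs.coord 3 v * (q0.eval X + z * q1.eval X))) * hk
    -- extend over `η = 0`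
    refine no_plane hF hirr hL0 fun v hv => ?_
    obtain ⟨d, hd0, hd1⟩ : ∃ d, L d = 0 ∧ η d = 1 := by
      refine ⟨bs 0 + n • bs 2, ?_, ?_⟩ <;> simp [hLdef, η]
    let l : Polynomial K := Polynomial.X + Polynomial.C (η v)
    let vp : Fin 4 → Polynomial K := fun i => Polynomial.C (v i) + Polynomial.C (d i) * Polynomial.X
    have hz : l * aeval vp F = 0 := Polynomial.funext fun t => by
      rw [Polynomial.eval_mul, Polynomial.eval_zero, ← Polynomial.coe_aeval_eq_eval, map_ev (Polynomial.aeval t)]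
      rcases eq_or_ne (η (v + t • d)) 0 with h | h
      · rw [map_add, map_smul, hd1, smul_eq_mul, mul_one] at h
        rw [show (Polynomial.aeval t) l = 0 by simp [l]; linear_combination h, zero_mul]
      · rw [show (fun i => Polynomial.aeval t (vp i)) = v + t • d from funext fun i => by simp [vp]; ring,
          aeval_eq_eval, hvan _ (by rw [map_add, map_smul, hv, hd0, smul_zero, add_zero]) h, mul_zero]
    have hv0 := congrArg (Polynomial.aeval (0 : K)) ((mul_eq_zero.1 hz).resolve_left (Polynomial.X_add_C_ne_zero _))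
    rw [map_zero, map_ev (Polynomial.aeval (0 : K)), show (fun i => Polynomial.aeval (0 : K) (vp i)) = v from funext fun i => by simp [vp],
      aeval_eq_eval] at hv0
    exact hv0

end Groth.Agent.CubicPts
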