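import Groth.Agent.CubicPts.Lines
import Groth.Agent.CubicPts.FivePoints
import Groth.Agent.S16347

/-! An irreducible cubic surface which is not a cone has a smooth point which is not a T-point. -/

set_option autoImplicit false

open MvPolynomial

set_option maxHeartbeats 2000000

namespace Groth.Agent.CubicPts

variable {K : Type*} [Field K] [CharZero K] {F : MvPolynomial (Fin 4) K}

theorem Dv_eq_values (hF : F.IsHomogeneous 3) (x y : Fin 4 → K) :
    Dv F y x = (1 / 2 : K) * (aeval (x + y) F + aeval (x - y) F) - aeval x F := by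
  have h1 := aeval_line hF (1 : K) 1 x y
  have h2 := aeval_line hF (1 : K) (-1) x y
  simp only [one_smul, neg_one_smul, ← sub_eq_add_neg] at h1 h2
  linear_combination (-1 / 2 : K) * h1 - (1 / 2 : K) * h2

/-- polar of the quadric cone at `p`, as a functional -/
noncomputable def Bl (hF : F.IsHomogeneous 3) (p u : Fin 4 → K) : (Fin 4 → K) →ₗ[K] K where
  toFun x := Dv F (u + x) p - Dv F u p - Dv F x p
  map_add' x y := by
    refine cubic_induction (P := fun F => Dv F (u + (x + y)) p - Dv F u p - Dv F (x + y) p =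
      Dv F (u + x) p - Dv F u p - Dv F x p + (Dv F (u + y) p - Dv F u p - Dv F y p)) ?_ ?_ ?_ hF
    · simp [Dv_zero_left]
    · intro f g hf hg; simp only [Dv_add_left]; linear_combination hf + hg
    · intro c i j l; simp only [Dv_monomial, Pi.add_apply]; ring
  map_smul' r x := by
    simp only [RingHom.id_apply, smul_eq_mul]
    refine cubic_induction (P := fun F => Dv F (u + r • x) p - Dv F u p - Dv F (r • x) p =
      r * (Dv F (u + x) p - Dv F u p - Dv F x p)) ?_ ?_ ?_ hF
    · simp [Dv_zero_left]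
    · intro f g hf hg; simp only [Dv_add_left]; linear_combination hf + hg
    · intro c i j l; simp only [Dv_monomial, Pi.add_apply, Pi.smul_apply, smul_eq_mul]; ring

theorem Bl_apply (hF : F.IsHomogeneous 3) (p u x : Fin 4 → K) :
    Bl hF p u x = Dv F (u + x) p - Dv F u p - Dv F x p := rfl

/-- tangent functional -/
noncomputable def Dl (F : MvPolynomial (Fin 4) K) (b : Fin 4 → K) : (Fin 4 → K) →ₗ[K] K where
  toFun x := Dv F b x
  map_add' x y := by simpa using Dv_comb (F := F) b x y 1 1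
  map_smul' c x := by simp [Dv, Finset.mul_sum, mul_assoc]

theorem Dl_apply (b x : Fin 4 → K) : Dl F b x = Dv F b x := rfl

theorem partial_eq_zero_of_Dl {b : Fin 4 → K} (h : Dl F b = 0) (i : Fin 4) : eval b (pderiv i F) = 0 := by
  have := LinearMap.congr_fun h (Pi.single i 1)
  simpa [Dl_apply, Dv, Pi.single_apply, aeval_eq_eval] using this

theorem Dl_ne_zero {b : Fin 4 → K} (h : ∃ i, eval b (pderiv i F) ≠ 0) : Dl F b ≠ 0 := fun h0 => by
  obtain ⟨i, hi⟩ := h; exact hi (partial_eq_zero_of_Dl h0 i)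

/-- normal form of a cubic singular along a line -/
theorem ruled_normal (hF : F.IsHomogeneous 3) (hirr : Irreducible F) (bs : Module.Basis (Fin 4) K (Fin 4 → K))
    (q0 q1 a0 a1 b0 b1 b2 b3 : K) (ha1 : a1 ≠ 0)
    (h : ∀ X Y Z W : K, aeval (X • bs 0 + Y • bs 1 + Z • bs 2 + W • bs 3) F =
      W * (q0 * X ^ 2 + q1 * (X * Y) + Y ^ 2) + Z * (a0 * X ^ 2 + a1 * (X * Y)) +
        (b0 * X ^ 3 + b1 * (X ^ 2 * Y) + b2 * (X * Y ^ 2) + b3 * Y ^ 3)) :
    ∃ b, eval b F = 0 ∧ (∃ i, eval b (pderiv i F) ≠ 0) ∧ ¬ TP F b := by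
  let P : K → K → K → K → (Fin 4 → K) := fun X Y Z W => X • bs 0 + Y • bs 1 + Z • bs 2 + W • bs 3
  have hP : ∀ X Y Z W, aeval (P X Y Z W) F = _ := h
  have padd : ∀ X Y Z W X' Y' Z' W', P X Y Z W + P X' Y' Z' W' = P (X + X') (Y + Y') (Z + Z') (W + W') := fun X Y Z W X' Y' Z' W' => by
    simp only [P]; module
  have psub : ∀ X Y Z W X' Y' Z' W', P X Y Z W - P X' Y' Z' W' = P (X - X') (Y - Y') (Z - Z') (W - W') := fun X Y Z W X' Y' Z' W' => by
    simp only [P]; module
  set R := a1 ^ 2 * q0 - a0 * a1 * q1 + a0 ^ 2 with hR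
  set K0 := a1 * b0 - a1 * (b2 - b3 * q1) * q0 + a0 * (b2 - b3 * q1) * q1 + a0 * b3 * q0 - a0 * b1 with hK0
  obtain ⟨z0, hz0⟩ : ∃ z0 : K, K0 - z0 * R ≠ 0 := by
    by_contra! hc
    have hK : K0 = 0 := by simpa using hc 0
    have hR0 : R = 0 := by have := hc 1; linear_combination hK - this
    have hB : b0 * a1 ^ 3 - b1 * a1 ^ 2 * a0 + b2 * (a1 * a0 ^ 2) - b3 * a0 ^ 3 = 0 := by
      rw [hR] at hR0; rw [hK0] at hK
      linear_combination a1 ^ 2 * hK + (b2 * a1 - b3 * q1 * a1 - a0 * b3) * hR0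
    let L : (Fin 4 → K) →ₗ[K] K := a0 • bs.coord 0 + a1 • bs.coord 1
    have hL : L ≠ 0 := fun h0 => ha1 (by simpa [L] using LinearMap.congr_fun h0 (bs 1))
    refine no_plane hF hirr hL fun x hx => ?_
    have e := bs.sum_repr x
    rw [Fin.sum_univ_four] at e
    rw [← aeval_eq_eval, ← e, h]
    simp only [L, LinearMap.add_apply, LinearMap.smul_apply, smul_eq_mul, Module.Basis.coord_apply] at hx
    have hy : bs.repr x 1 = -(a0 * bs.repr x 0) / a1 := by rw [eq_div_iff ha1]; linear_combination hx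
    rw [hR] at hR0
    rw [hy]
    field_simp
    linear_combination (bs.repr x 3 * a1 * bs.repr x 0 ^ 2) * hR0 + bs.repr x 0 ^ 3 * hB
  set g := z0 * a1 + (b2 - b3 * q1) with hg
  set b := P 0 1 z0 (-b3) with hb
  set v := P 1 0 0 (-g) with hv
  set w := P 0 0 1 0 with hw
  have eb : aeval b F = 0 := by rw [hb, hP]; ring
  have eD : Dv F b (P 0 0 0 1) = 1 := by
    rw [Dv_eq_values hF, hb, padd, psub, hP, hP, hP]; ring
  have ev : Dv F b v = 0 := by
    rw [Dv_eq_values hF, hb, hv, padd, psub, hP, hP, hP, hg]; ring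
  have ew : Dv F b w = 0 := by
    rw [Dv_eq_values hF, hb, hw, padd, psub, hP, hP, hP]; ring
  have eA : Dv F v b = -g * q1 - b3 * q0 + z0 * a0 + b1 := by
    rw [Dv_eq_values hF, hb, hv, padd, psub, hP, hP, hP]; ring
  have eC : Dv F w b = 0 := by
    rw [Dv_eq_values hF, hb, hw, padd, psub, hP, hP, hP]; ring
  have eVW : Dv F (v + w) b = -g * q1 - b3 * q0 + z0 * a0 + b1 + a1 := by
    rw [Dv_eq_values hF, hb, hv, hw, padd, padd, psub, hP, hP, hP]; ring
  have e0 : aeval v F = b0 - g * q0 := by rw [hv, hP]; ring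
  have e1 : Dv F v w = a0 := by
    rw [Dv_eq_values hF, hv, hw, padd, psub, hP, hP, hP]; ring
  have hn : ndv F b v w 0 ≠ 0 := by
    intro h0
    apply hz0
    simp only [ndv, mnr, Matrix.cons_val_zero, eA, eC, eVW, e0, e1] at h0
    refine (mul_eq_zero.1 (?_ : a1 * (K0 - z0 * R) = 0)).resolve_left ha1
    rw [hK0, hR]
    rw [hg] at h0
    have e2 : Dv F w v = 0 := by rw [Dv_eq_values hF, hv, hw, padd, psub, hP, hP, hP]; ring
    rw [e2] at h0
    linear_combination h0
  refine ⟨b, by rw [← aeval_eq_eval]; exact eb, ?_, not_TP_of_ndv hF (by rw [← aeval_eq_eval]; exact eb) ev ew hn⟩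
  by_contra! hall
  exact one_ne_zero (eD.symm.trans (by simp [Dv, aeval_eq_eval, hall]))

/-- a cubic singular along the line through `p` and `u` -/
theorem ruled (hF : F.IsHomogeneous 3) (hirr : Irreducible F)
    (hcone : ¬ ∃ v : Fin 4 → K, v ≠ 0 ∧ ∑ i, v i • pderiv i F = 0) (p u : Fin 4 → K) (hli : LinearIndependent K ![u, p])
    (hp : Dl F p = 0) (hu : Dl F u = 0) (hB : Bl hF p u = 0) :
    ∃ b, eval b F = 0 ∧ (∃ i, eval b (pderiv i F) ≠ 0) ∧ ¬ TP F b := by
  classical
  have pick : ∀ {n : ℕ}, n < 4 → ∀ v : Fin n → (Fin 4 → K), ∃ x, x ∉ Submodule.span K (Set.range v) := by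
    intro n hn v
    by_contra! h
    have h2 := finrank_range_le_card (R := K) v
    rw [Set.finrank, Submodule.eq_top_iff'.2 h, finrank_top] at h2
    simp at h2
    omega
  obtain ⟨f, hf⟩ := pick (by norm_num) ![u, p]
  obtain ⟨e, he⟩ := pick (by norm_num) ![f, u, p]
  have dp : ∀ x, Dv F p x = 0 := fun x => LinearMap.congr_fun hp x
  have du : ∀ x, Dv F u x = 0 := fun x => LinearMap.congr_fun hu x
  have hFp : aeval p F = 0 := by
    have := Dv_self hF p; rw [dp] at this; linear_combination (-1 / 3 : K) * this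
  have hFu : aeval u F = 0 := by
    have := Dv_self hF u; rw [du] at this; linear_combination (-1 / 3 : K) * this
  have hsym : ∀ U : Fin 4 → K, Dv F (p + u) U = 0 := by
    intro U
    have key : Dv F (p + u) U - Dv F p U - Dv F u U = Bl hF p u U := by
      rw [Bl_apply]
      refine cubic_induction (P := fun F => Dv F (p + u) U - Dv F p U - Dv F u U =
        Dv F (u + U) p - Dv F u p - Dv F U p) ?_ ?_ ?_ hF
      · simp [Dv_zero_left]
      · intro f g hf hg; simp only [Dv_add_left]; linear_combination hf + hg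
      · intro c i j l; simp only [Dv_monomial, Pi.add_apply]; ring
    rw [hB, dp, du, LinearMap.zero_apply] at key
    linear_combination key
  have hexp : ∀ X Y Z W : K, aeval (X • e + Y • f + Z • p + W • u) F =
      Z * (Dv F e p * X ^ 2 + (Dv F (e + f) p - Dv F e p - Dv F f p) * (X * Y) + Dv F f p * Y ^ 2) +
      W * (Dv F e u * X ^ 2 + (Dv F (e + f) u - Dv F e u - Dv F f u) * (X * Y) + Dv F f u * Y ^ 2) +
      (aeval e F * X ^ 3 + Dv F e f * (X ^ 2 * Y) + Dv F f e * (X * Y ^ 2) + aeval f F * Y ^ 3) := by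
    intro X Y Z W
    rw [show X • e + Y • f + Z • p + W • u = (1 : K) • (X • e + Y • f) + (1 : K) • (Z • p + W • u) by module,
      aeval_line hF, Dv_comb, Dv_line hF, Dv_line hF, Dv_line hF, dp, du, hsym, aeval_line hF, aeval_line hF, hFp, hFu, dp, du]
    ring
  set A0 := Dv F e p
  set A1 := Dv F (e + f) p - Dv F e p - Dv F f p
  set A2 := Dv F f p
  set Q0 := Dv F e u
  set Q1 := Dv F (e + f) u - Dv F e u - Dv F f u
  set Q2 := Dv F f u
  have hli4 : LinearIndependent K ![e, f, u, p] :=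
    linearIndependent_fin_cons.2 ⟨linearIndependent_fin_cons.2 ⟨hli, hf⟩, he⟩
  let bb := basisOfLinearIndependentOfCardEqFinrank hli4 (by simp)
  have hbb : ⇑bb = ![e, f, u, p] := coe_basisOfLinearIndependentOfCardEqFinrank hli4 _
  -- the two quadratic forms are independent
  have hdep : ∀ α β : K, ¬ (α = 0 ∧ β = 0) → ¬ (α * A0 + β * Q0 = 0 ∧ α * A1 + β * Q1 = 0 ∧ α * A2 + β * Q2 = 0) := by
    rintro α β hab ⟨h0, h1, h2⟩
    refine hcone ⟨α • p + β • u, ?_, ?_⟩
    · intro h
      have := Fintype.linearIndependent_iff.1 hli ![β, α] (by simp [Fin.sum_univ_two]; rw [← h]; abel)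
      exact hab ⟨by simpa using this 1, by simpa using this 0⟩
    · refine MvPolynomial.funext fun x => ?_
      have hx : eval x (∑ i, (α • p + β • u) i • pderiv i F) = Dv F x (α • p + β • u) := by
        simp [Dv, aeval_eq_eval, smul_eval]
      rw [hx, map_zero, ← bb.sum_repr x, Fin.sum_univ_four, hbb]
      simp only [Matrix.cons_val_zero, Matrix.cons_val_one, Matrix.cons_val]
      set X := bb.repr x 0; set Y := bb.repr x 1; set W := bb.repr x 2; set Z := bb.repr x 3
      rw [Dv_eq_values hF,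
        show α • p + β • u + (X • e + Y • f + W • u + Z • p) = X • e + Y • f + (Z + α) • p + (W + β) • u by module,
        show α • p + β • u - (X • e + Y • f + W • u + Z • p) = (-X) • e + (-Y) • f + (-Z + α) • p + (-W + β) • u by module,
        show α • p + β • u = (0 : K) • e + (0 : K) • f + α • p + β • u by module, hexp, hexp, hexp]
      linear_combination X ^ 2 * h0 + X * Y * h1 + Y ^ 2 * h2
  obtain ⟨s, hs⟩ : ∃ s : K, (Q0 * s ^ 2 + Q1 * s + Q2) ≠ 0 ∧
      (A0 * Q1 - Q0 * A1) * s ^ 2 + 2 * (A0 * Q2 - Q0 * A2) * s + (A1 * Q2 - Q1 * A2) ≠ 0 := by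
    let p1 : Polynomial K := Polynomial.C Q0 * Polynomial.X ^ 2 + Polynomial.C Q1 * Polynomial.X + Polynomial.C Q2
    let p2 : Polynomial K := Polynomial.C (A0 * Q1 - Q0 * A1) * Polynomial.X ^ 2 +
      Polynomial.C (2 * (A0 * Q2 - Q0 * A2)) * Polynomial.X + Polynomial.C (A1 * Q2 - Q1 * A2)
    have hne : p1 * p2 ≠ 0 := by
      refine mul_ne_zero (fun h => ?_) fun h => ?_
      · have k0 := congrArg (fun q => Polynomial.coeff q 0) h
        have k1 := congrArg (fun q => Polynomial.coeff q 1) h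
        have k2 := congrArg (fun q => Polynomial.coeff q 2) h
        simp [p1] at k0 k1 k2
        exact hdep 0 1 (by simp) ⟨by simp [k2], by simp [k1], by simp [k0]⟩
      · have k0 := congrArg (fun q => Polynomial.coeff q 0) h
        have k1 := congrArg (fun q => Polynomial.coeff q 1) h
        have k2 := congrArg (fun q => Polynomial.coeff q 2) h
        simp only [p2, Polynomial.coeff_add, Polynomial.coeff_C_mul_X_pow, Polynomial.coeff_C_mul_X, Polynomial.coeff_C, Polynomial.coeff_zero] at k0 k1 k2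
        norm_num at k0 k1 k2
        by_cases hQ0 : Q0 = 0
        · by_cases hQ1 : Q1 = 0
          · exact hdep Q2 (-A2) (fun hq => hdep 0 1 (by simp) ⟨by simp [hQ0], by simp [hQ1], by simp [hq.1]⟩)
              ⟨by linear_combination k1, by linear_combination k0, by ring⟩
          · exact hdep Q1 (-A1) (fun hq => hQ1 hq.1) ⟨by linear_combination k2, by ring, by linear_combination -k0⟩
        · exact hdep Q0 (-A0) (fun hq => hQ0 hq.1) ⟨by ring, by linear_combination -k2, by linear_combination -k1⟩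
    obtain ⟨s, hs⟩ := Infinite.exists_notMem_finset (p1 * p2).roots.toFinset
    rw [Multiset.mem_toFinset, Polynomial.mem_roots hne, Polynomial.IsRoot, Polynomial.eval_mul, mul_eq_zero, not_or] at hs
    exact ⟨s, by simpa [p1] using hs.1, by simpa [p2] using hs.2⟩
  obtain ⟨hq, hW⟩ := hs
  set qs := Q0 * s ^ 2 + Q1 * s + Q2
  set la := (A0 * s ^ 2 + A1 * s + A2) / qs with hla
  have hli' : LinearIndependent K ![e, s • e + f, p - la • u, qs⁻¹ • u] := by
    rw [Fintype.linearIndependent_iff]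
    intro g hg
    simp [Fin.sum_univ_four] at hg
    have := Fintype.linearIndependent_iff.1 hli4 ![g 0 + g 1 * s, g 1, g 3 * qs⁻¹ - g 2 * la, g 2]
      (by simp [Fin.sum_univ_four]; linear_combination (norm := module) hg)
    have t0 := this 0; have t1 := this 1; have t2 := this 2; have t3 := this 3
    simp at t0 t1 t2 t3
    simp [t1] at t0
    simp [t3] at t2
    intro i; fin_cases i
    · exact t0
    · exact t1
    · exact t3
    · exact t2.resolve_right hq
  let bs := basisOfLinearIndependentOfCardEqFinrank hli' (by simp)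
  have hbs : ⇑bs = ![e, s • e + f, p - la • u, qs⁻¹ • u] := coe_basisOfLinearIndependentOfCardEqFinrank hli' _
  refine ruled_normal hF hirr bs (Q0 / qs) ((2 * Q0 * s + Q1) / qs) (A0 - la * Q0) (2 * A0 * s + A1 - la * (2 * Q0 * s + Q1))
    (aeval e F) (3 * aeval e F * s + Dv F e f) (3 * aeval e F * s ^ 2 + 2 * Dv F e f * s + Dv F f e)
    (aeval e F * s ^ 3 + Dv F e f * s ^ 2 + Dv F f e * s + aeval f F) ?_ fun X Y Z W => ?_
  · intro h0
    apply hW
    rw [hla] at h0
    field_simp at h0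
    linear_combination h0
  · rw [hbs]
    simp only [Matrix.cons_val_zero, Matrix.cons_val_one, Matrix.cons_val]
    rw [show X • e + Y • (s • e + f) + Z • (p - la • u) + W • qs⁻¹ • u =
      (X + Y * s) • e + Y • f + Z • p + (W * qs⁻¹ - Z * la) • u by module, hexp, hla]
    field_simp
    ring

variable [IsAlgClosed K]

theorem exists_line_of_TP (hF : F.IsHomogeneous 3) {b : Fin 4 → K} (hb : b ≠ 0) (hFb : eval b F = 0) (hT : TP F b) :
    ∃ m : Fin 4 → K, m ∉ Submodule.span K {b} ∧ ∀ s t : K, eval (s • b + t • m) F = 0 := by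
  obtain ⟨L₁, L₂, L₃, h1, h2, h3, hmem⟩ := hT
  obtain ⟨r, hr⟩ := Ideal.mem_span_singleton'.1 hmem
  have htf : ∀ x, eval x (tform F b) = Dl F b x := fun x => by
    simp [tform, Dl_apply, Dv, aeval_eq_eval, mul_comm]
  have hbl : Dl F b b = 0 := by rw [Dl_apply, Dv_self hF, aeval_eq_eval, hFb, mul_zero]
  have hprod : ∀ x, Dl F b x = 0 → eval x F = eval x L₁ * eval x L₂ * eval x L₃ := fun x hx => by
    have := congrArg (eval x) hr
    rw [map_mul, htf, hx, mul_zero, map_sub, map_mul, map_mul] at this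
    linear_combination -this
  have main : ∀ L M N : MvPolynomial (Fin 4) K, L.IsHomogeneous 1 → (∀ x, Dl F b x = 0 → eval x F = eval x L * eval x M * eval x N) →
      eval b L = 0 → ∃ m : Fin 4 → K, m ∉ Submodule.span K {b} ∧ ∀ s t : K, eval (s • b + t • m) F = 0 := by
    intro L M N hL hp hb0
    let Lm : (Fin 4 → K) →ₗ[K] K :=
      { toFun := fun x => eval x L
        map_add' := fun x y => by simpa using eval_comb_of_deg_one hL x y 1 1
        map_smul' := fun c x => by simpa using eval_comb_of_deg_one hL x x c 0 }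
    let W := LinearMap.ker ((Dl F b).prod Lm)
    have hW : 2 ≤ Module.finrank K W := by
      have := LinearMap.finrank_range_add_finrank_ker ((Dl F b).prod Lm)
      have h4 : Module.finrank K (LinearMap.range ((Dl F b).prod Lm)) ≤ 2 := (Submodule.finrank_le _).trans (by simp)
      simp at this
      change 2 ≤ Module.finrank K (LinearMap.ker ((Dl F b).prod Lm))
      omega
    obtain ⟨m, hmW, hm⟩ : ∃ m ∈ W, m ∉ Submodule.span K {b} := by
      by_contra! h
      have := Submodule.finrank_mono (t := Submodule.span K {b}) h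
      rw [finrank_span_singleton hb] at this
      omega
    refine ⟨m, hm, fun s t => ?_⟩
    replace hmW : Dl F b m = 0 ∧ Lm m = 0 := Prod.mk.inj (LinearMap.mem_ker.1 hmW)
    have hLm : eval m L = 0 := hmW.2
    rw [hp _ (by rw [map_add, map_smul, map_smul, hbl, hmW.1, smul_zero, smul_zero, add_zero]),
      eval_comb_of_deg_one hL, hb0, hLm]
    ring
  have h0 := hprod b hbl
  rw [hFb, eq_comm, mul_eq_zero, mul_eq_zero] at h0
  rcases h0 with (h | h) | h
  · exact main L₁ L₂ L₃ h1 hprod h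
  · exact main L₂ L₁ L₃ h2 (fun x hx => by rw [hprod x hx]; ring) h
  · exact main L₃ L₁ L₂ h3 (fun x hx => by rw [hprod x hx]; ring) h

/-- finitely many planes cannot contain all smooth points -/
theorem no_cover (hF : F.IsHomogeneous 3) (hirr : Irreducible F) (S : Set ((Fin 4 → K) →ₗ[K] K)) (hS : S.Finite)
    (hne : ∀ φ ∈ S, φ ≠ 0) (h : ∀ b, eval b F = 0 → (∃ i, eval b (pderiv i F) ≠ 0) → ∃ φ ∈ S, φ b = 0) : False := by
  classical
  obtain ⟨i0, hi0⟩ : ∃ i, pderiv i F ≠ 0 := by
    by_contra! h0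
    obtain ⟨x, hx⟩ := exists_eval_ne_zero hirr.ne_zero
    apply hx
    have := Dv_self hF x
    simp [Dv, h0] at this
    rw [← aeval_eq_eval]; simpa [eq_comm] using this
  have hG : (∏ φ ∈ hS.toFinset, linPoly φ) * pderiv i0 F ∈
      MvPolynomial.vanishingIdeal K (MvPolynomial.zeroLocus K (Ideal.span {F})) := by
    rw [MvPolynomial.mem_vanishingIdeal_iff]
    intro x hx
    have hFx : eval x F = 0 := by
      have := hx F (Ideal.mem_span_singleton_self _)
      rwa [aeval_eq_eval] at this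
    rw [aeval_eq_eval, map_mul, map_prod]
    by_cases hs : eval x (pderiv i0 F) = 0
    · rw [hs, mul_zero]
    · obtain ⟨φ, hφ, hφx⟩ := h x hFx ⟨i0, hs⟩
      rw [Finset.prod_eq_zero (hS.mem_toFinset.2 hφ) (by rw [eval_linPoly]; exact hφx), zero_mul]
  rw [MvPolynomial.vanishingIdeal_zeroLocus_eq_radical] at hG
  obtain ⟨n, hn⟩ := hG
  have hpr : Prime F := UniqueFactorizationMonoid.irreducible_iff_prime.1 hirr
  have hdvd := hpr.dvd_of_dvd_pow (Ideal.mem_span_singleton.1 hn)
  have hdeg : ∀ (q : MvPolynomial (Fin 4) K) (n : ℕ), n < 3 → q.IsHomogeneous n → q ≠ 0 → ¬ F ∣ q := by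
    rintro q n hn hq hq0 ⟨r, rfl⟩
    have h1 : (F * r).totalDegree = n := hq.totalDegree hq0
    have h2 : F.totalDegree = 3 := hF.totalDegree hirr.ne_zero
    rw [totalDegree_mul_of_isDomain hirr.ne_zero (right_ne_zero_of_mul hq0), h2] at h1
    omega
  rcases hpr.dvd_or_dvd hdvd with hd | hd
  · obtain ⟨φ, hφ, hd⟩ := hpr.exists_mem_finset_dvd hd
    exact hdeg _ 1 (by norm_num) (IsHomogeneous.sum _ _ _ fun i _ => (isHomogeneous_X K i).C_mul _)
      (linPoly_ne_zero (hne φ (hS.mem_toFinset.1 hφ))) hd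
  · exact hdeg _ 2 (by norm_num) (by simpa using hF.pderiv (i := i0)) hi0 hd

theorem exists_nonT (hF : F.IsHomogeneous 3) (hirr : Irreducible F)
    (hcone : ¬ ∃ v : Fin 4 → K, v ≠ 0 ∧ ∑ i, v i • pderiv i F = 0) :
    ∃ b, eval b F = 0 ∧ (∃ i, eval b (pderiv i F) ≠ 0) ∧ ¬ TP F b := by
  classical
  by_contra hno
  push Not at hno
  have hnz : ∀ b, (∃ i, eval b (pderiv i F) ≠ 0) → b ≠ 0 := by
    rintro b ⟨i, hi⟩ rfl
    exact hi (by rw [eval_zero]; exact constantCoeff_eq_zero_of_hom (n := 1) (by simpa using hF.pderiv (i := i)))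
  have hline : ∀ b, eval b F = 0 → (∃ i, eval b (pderiv i F) ≠ 0) →
      ∃ m : Fin 4 → K, m ∉ Submodule.span K {b} ∧ ∀ s t : K, eval (s • b + t • m) F = 0 := fun b hb hs =>
    exists_line_of_TP hF (hnz b hs) hb (hno b hb hs)
  have hrank : ∀ b m : Fin 4 → K, b ≠ 0 → m ∉ Submodule.span K {b} → LinearIndependent K ![m, b] := fun b m hb hm =>
    linearIndependent_fin_cons.2 ⟨linearIndependent_unique_iff.2 (by simpa using hb), by simpa using hm⟩
  have span2 : ∀ b m : Fin 4 → K, b ≠ 0 → m ∉ Submodule.span K {b} → (∀ s t : K, eval (s • b + t • m) F = 0) →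
      Module.finrank K (Submodule.span K (Set.range ![m, b])) = 2 ∧ ∀ x ∈ Submodule.span K (Set.range ![m, b]), eval x F = 0 := by
    intro b m hb hm h
    refine ⟨by rw [finrank_span_eq_card (hrank b m hb hm)]; simp, fun x hx => ?_⟩
    obtain ⟨c, rfl⟩ := (Submodule.mem_span_range_iff_exists_fun K).1 hx
    rw [Fin.sum_univ_two, add_comm]; exact h _ _
  have vanish2 : ∀ U : Submodule K (Fin 4 → K), Module.finrank K U = 2 → ∃ φ : (Fin 4 → K) →ₗ[K] K, φ ≠ 0 ∧ ∀ x ∈ U, φ x = 0 := by
    intro U hU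
    obtain ⟨φ, hφ, hle⟩ := Submodule.exists_le_ker_of_lt_top U (lt_top_iff_ne_top.2 fun h => by
      rw [h, finrank_top] at hU; simp at hU)
    exact ⟨φ, hφ, hle⟩
  by_cases hsm : ∀ b : Fin 4 → K, b ≠ 0 → eval b F = 0 → ∃ i, eval b (pderiv i F) ≠ 0
  · choose φ hφ hφU using vanish2
    refine no_cover hF hirr ((finite_lines hF hsm).dependent_image fun U hU => φ U hU.1).toFinset
      (Set.toFinite _) ?_ ?_
    · intro ψ hψ
      simp only [Set.Finite.coe_toFinset, Set.mem_setOf_eq] at hψ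
      obtain ⟨U, hU, rfl⟩ := hψ
      exact hφ _ _
    · intro b hb hs
      obtain ⟨m, hm, hml⟩ := hline b hb hs
      have h2 := span2 b m (hnz b hs) hm hml
      refine ⟨φ _ h2.1, ?_, hφU _ _ b (Submodule.subset_span ⟨1, rfl⟩)⟩
      simp only [Set.Finite.coe_toFinset, Set.mem_setOf_eq]
      exact ⟨_, h2, rfl⟩
  push Not at hsm
  obtain ⟨p, hp, hFp, hsing⟩ := hsm
  have dp : Dl F p = 0 := LinearMap.ext fun x => Dv_singular hsing x
  set 𝓛 := {U : Submodule K (Fin 4 → K) | p ∈ U ∧ Module.finrank K ↥U = 2 ∧ ∀ u ∈ U, eval u F = 0} with h𝓛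
  have h𝓛f : 𝓛.Finite := Set.finite_of_encard_le_coe (Groth.Agent.S16347.result K F hF hirr hcone p hp hFp hsing)
  -- representative and plane of a line through `p`
  have rep : ∀ U ∈ 𝓛, ∃ u ∈ U, u ∉ Submodule.span K {p} ∧ ∀ x ∈ U, ∃ r s : K, x = r • u + s • p := by
    intro U hU
    obtain ⟨u, hu, hup⟩ : ∃ u ∈ U, u ∉ Submodule.span K {p} := by
      by_contra! h
      have := Submodule.finrank_mono (t := Submodule.span K {p}) h
      rw [hU.2.1, finrank_span_singleton hp] at this
      omega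
    refine ⟨u, hu, hup, fun x hx => ?_⟩
    have hle : Submodule.span K (Set.range ![u, p]) ≤ U := by
      rw [Submodule.span_le]; rintro _ ⟨i, rfl⟩; fin_cases i
      · exact hu
      · exact hU.1
    rw [← Submodule.eq_of_le_of_finrank_eq hle (by rw [finrank_span_eq_card (hrank p u hp hup), hU.2.1]; simp)] at hx
    obtain ⟨c, rfl⟩ := (Submodule.mem_span_range_iff_exists_fun K).1 hx
    exact ⟨c 0, c 1, by simp [Fin.sum_univ_two]⟩
  choose! rp hrpU hrp hrpspan using rep
  let pl : Submodule K (Fin 4 → K) → ((Fin 4 → K) →ₗ[K] K) := fun U =>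
    if Bl hF p (rp U) = 0 then Dl F (rp U) else Bl hF p (rp U)
  have hpl : ∀ U ∈ 𝓛, pl U ≠ 0 := by
    intro U hU h0
    by_cases hB : Bl hF p (rp U) = 0
    · simp only [pl, if_pos hB] at h0
      obtain ⟨b, hb, hs, hT⟩ := ruled hF hirr hcone p (rp U) (hrank p _ hp (hrp U hU)) dp h0 hB
      exact hT (hno b hb hs)
    · simp only [pl, if_neg hB] at h0; exact hB h0
  choose f2 hf2 hf2U using vanish2
  choose f3 hf3 hf3a hf3b hf3c using exists_functional3 (K := K)
  let S1 : Set ((Fin 4 → K) →ₗ[K] K) := pl '' 𝓛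
  let S2 : Set ((Fin 4 → K) →ₗ[K] K) := (fun UV => f3 p (rp UV.1) (rp UV.2)) '' (𝓛 ×ˢ 𝓛)
  let S3 : Set ((Fin 4 → K) →ₗ[K] K) := {ψ | ∃ U, ∃ hU : U ∈ 𝓛, ψ = f2 U hU.2.1}
  have hS3 : S3.Finite := by
    refine ((h𝓛f.dependent_image fun U hU => f2 U hU.2.1)).subset ?_
    rintro ψ ⟨U, hU, rfl⟩; exact ⟨U, hU, rfl⟩
  refine no_cover hF hirr (S1 ∪ S2 ∪ S3) (((h𝓛f.image _).union ((h𝓛f.prod h𝓛f).image _)).union hS3) ?_ ?_
  · rintro φ ((⟨U, hU, rfl⟩ | ⟨⟨U, V⟩, -, rfl⟩) | ⟨U, hU, rfl⟩)
    · exact hpl U hU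
    · exact hf3 _ _ _
    · exact hf2 _ _
  intro b hb hs
  have hb0 := hnz b hs
  obtain ⟨m, hm, hml⟩ := hline b hb hs
  have h2 := span2 b m hb0 hm hml
  by_cases hpM : p ∈ Submodule.span K (Set.range ![m, b])
  · exact ⟨f2 _ h2.1, Or.inr ⟨_, ⟨hpM, h2⟩, rfl⟩, hf2U _ _ _ (Submodule.subset_span ⟨1, rfl⟩)⟩
  have hli3 : LinearIndependent K ![p, m, b] :=
    linearIndependent_fin_cons.2 ⟨hrank b m hb0 hm, hpM⟩
  have hQshift : ∀ (x : K) v, Dv F ((1 : K) • v + x • p) p = Dv F v p := fun x v => Dv_singular_shift hF hFp hsing x v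
  -- a zero of the cone on the line
  have hroot : ∀ v w : Fin 4 → K, ∀ s t : K, Dv F (s • v + t • w) p =
      s ^ 2 * Dv F v p + s * t * Bl hF p v w + t ^ 2 * Dv F w p := fun v w s t => by rw [Dv_line hF, Bl_apply]
  have mk : ∀ v : Fin 4 → K, v ∈ Submodule.span K (Set.range ![m, b]) → v ≠ 0 → Dv F v p = 0 →
      ∃ U ∈ 𝓛, ∃ r s : K, r ≠ 0 ∧ v = r • rp U + s • p := by
    intro v hv hv0 hQ
    have hvp : v ∉ Submodule.span K {p} := fun h => by
      obtain ⟨c, rfl⟩ := Submodule.mem_span_singleton.1 h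
      have hc : c ≠ 0 := fun h => hv0 (by rw [h, zero_smul])
      apply hpM
      have := Submodule.smul_mem _ c⁻¹ hv
      rwa [smul_smul, inv_mul_cancel₀ hc, one_smul] at this
    have hU : Submodule.span K (Set.range ![v, p]) ∈ 𝓛 := by
      refine ⟨Submodule.subset_span ⟨1, rfl⟩, by rw [finrank_span_eq_card (hrank p v hp hvp)]; simp, fun x hx => ?_⟩
      obtain ⟨c, rfl⟩ := (Submodule.mem_span_range_iff_exists_fun K).1 hx
      rw [Fin.sum_univ_two, ← aeval_eq_eval, show c 0 • (![v, p] : Fin 2 → Fin 4 → K) 0 + c 1 • (![v, p] : Fin 2 → Fin 4 → K) 1 =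
        c 1 • p + (1 : K) • (c 0 • v) by simp [add_comm], aeval_singular hF hFp hsing, Dv_smul hF, hQ,
        aeval_eq_eval, h2.2 _ (Submodule.smul_mem _ _ hv)]
      ring
    obtain ⟨r, s, hrs⟩ := hrpspan _ hU v (Submodule.subset_span ⟨0, rfl⟩)
    refine ⟨_, hU, r, s, fun h => hvp ?_, hrs⟩
    rw [hrs, h, zero_smul, zero_add]
    exact Submodule.smul_mem _ _ (Submodule.mem_span_singleton_self _)
  obtain ⟨u0, hu0M, hu0, hu0Q, w, hwM, hli⟩ : ∃ u0 ∈ Submodule.span K (Set.range ![m, b]), u0 ≠ 0 ∧ Dv F u0 p = 0 ∧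
      ∃ w ∈ Submodule.span K (Set.range ![m, b]), ∀ x ∈ Submodule.span K (Set.range ![m, b]), ∃ r s : K, x = r • u0 + s • w := by
    have hmm : m ∈ Submodule.span K (Set.range ![m, b]) := Submodule.subset_span ⟨0, rfl⟩
    have hbb : b ∈ Submodule.span K (Set.range ![m, b]) := Submodule.subset_span ⟨1, rfl⟩
    rcases eq_or_ne (Dv F m p) 0 with hA | hA
    · refine ⟨m, hmm, fun h => hm (h ▸ Submodule.zero_mem _), hA, b, hbb, fun x hx => ?_⟩
      obtain ⟨c, rfl⟩ := (Submodule.mem_span_range_iff_exists_fun K).1 hx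
      exact ⟨c 0, c 1, by simp [Fin.sum_univ_two]⟩
    · obtain ⟨t, ht⟩ := IsAlgClosed.exists_root
        (Polynomial.C (Dv F m p) * Polynomial.X ^ 2 + Polynomial.C (Bl hF p m b) * Polynomial.X + Polynomial.C (Dv F b p))
        (by rw [Polynomial.degree_quadratic hA]; decide)
      simp [Polynomial.IsRoot] at ht
      refine ⟨t • m + (1 : K) • b, Submodule.add_mem _ (Submodule.smul_mem _ _ hmm) (Submodule.smul_mem _ _ hbb), ?_, ?_, m, hmm, fun x hx => ?_⟩
      · intro h
        have := Fintype.linearIndependent_iff.1 (hrank b m hb0 hm) ![t, 1] (by simpa [Fin.sum_univ_two] using h) 1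
        simp at this
      · rw [hroot]; linear_combination ht
      · obtain ⟨c, rfl⟩ := (Submodule.mem_span_range_iff_exists_fun K).1 hx
        exact ⟨c 1, c 0 - c 1 * t, by simp [Fin.sum_univ_two]; module⟩
  obtain ⟨U, hU, r, s, hr, hrs⟩ := mk u0 hu0M hu0 hu0Q
  obtain ⟨β₀, β₁, hbw⟩ := hli b (Submodule.subset_span ⟨1, rfl⟩)
  rcases eq_or_ne (Bl hF p u0 w) 0 with hBw | hBw
  · -- tangent case
    refine ⟨pl U, Or.inl (Or.inl ⟨U, hU, rfl⟩), ?_⟩
    have hBr : ∀ x, Bl hF p u0 x = r * Bl hF p (rp U) x := by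
      intro x
      rw [hrs, Bl_apply, Bl_apply]
      have key : Dv F (r • rp U + s • p + x) p - Dv F (r • rp U + s • p) p - Dv F x p =
          r * (Dv F (rp U + x) p - Dv F (rp U) p - Dv F x p) + s * (Dv F (p + x) p - Dv F p p - Dv F x p) := by
        refine cubic_induction (P := fun F => Dv F (r • rp U + s • p + x) p - Dv F (r • rp U + s • p) p - Dv F x p =
          r * (Dv F (rp U + x) p - Dv F (rp U) p - Dv F x p) + s * (Dv F (p + x) p - Dv F p p - Dv F x p)) ?_ ?_ ?_ hF
        · simp [Dv_zero_left]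
        · intro f g hf hg; simp only [Dv_add_left]; linear_combination hf + hg
        · intro c i j l; simp only [Dv_monomial, Pi.add_apply, Pi.smul_apply, smul_eq_mul]; ring
      rw [key, show p + x = (1 : K) • x + (1 : K) • p by simp [add_comm], hQshift, Dv_singular hsing]; ring
    have hB0 : Bl hF p u0 u0 = 0 := by
      rw [Bl_apply, show u0 + u0 = (2 : K) • u0 by module, Dv_smul hF, hu0Q]; ring
    by_cases hB : Bl hF p (rp U) = 0
    · simp only [pl, if_pos hB, Dl_apply]
      -- gradient is constant along the line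
      have hgr : ∀ x, Dv F u0 x = r ^ 2 * Dv F (rp U) x := by
        intro x
        rw [hrs, Dv_line hF, Dv_singular hsing]
        have key : Dv F (rp U + p) x - Dv F (rp U) x - Dv F p x = Bl hF p (rp U) x := by
          rw [Bl_apply]
          refine cubic_induction (P := fun F => Dv F (rp U + p) x - Dv F (rp U) x - Dv F p x =
            Dv F (rp U + x) p - Dv F (rp U) p - Dv F x p) ?_ ?_ ?_ hF
          · simp [Dv_zero_left]
          · intro f g hf hg; simp only [Dv_add_left]; linear_combination hf + hg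
          · intro c i j l; simp only [Dv_monomial, Pi.add_apply]; ring
        rw [hB, Dv_singular hsing, LinearMap.zero_apply] at key
        linear_combination r * s * key
      have hFu0 : aeval u0 F = 0 := by rw [aeval_eq_eval]; exact h2.2 _ hu0M
      have hFw : aeval w F = 0 := by rw [aeval_eq_eval]; exact h2.2 _ hwM
      have e1 : aeval ((1 : K) • u0 + (1 : K) • w) F = 0 := by
        rw [aeval_eq_eval]; exact h2.2 _ (Submodule.add_mem _ (Submodule.smul_mem _ _ hu0M) (Submodule.smul_mem _ _ hwM))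
      have e2 : aeval ((1 : K) • u0 + (-1 : K) • w) F = 0 := by
        rw [aeval_eq_eval]; exact h2.2 _ (Submodule.add_mem _ (Submodule.smul_mem _ _ hu0M) (Submodule.smul_mem _ _ hwM))
      rw [aeval_line hF, hFu0, hFw] at e1 e2
      have hw' : Dv F u0 w = 0 := by linear_combination (1 / 2 : K) * e1 - (1 / 2 : K) * e2
      have : Dv F u0 b = 0 := by rw [hbw, Dv_comb, Dv_self hF, hFu0, hw']; ring
      rw [hgr] at this
      exact (mul_eq_zero.1 this).resolve_left (pow_ne_zero _ hr)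
    · simp only [pl, if_neg hB]
      have : Bl hF p u0 b = 0 := by rw [hbw, map_add, map_smul, map_smul, hB0, hBw, smul_zero, smul_zero, add_zero]
      rw [hBr] at this
      exact (mul_eq_zero.1 this).resolve_left hr
  · -- two lines
    set τ := -Dv F w p / Bl hF p u0 w with hτ
    have hu1Q : Dv F (τ • u0 + (1 : K) • w) p = 0 := by
      rw [hroot, hu0Q, hτ]; field_simp; ring
    have hu1M : τ • u0 + (1 : K) • w ∈ Submodule.span K (Set.range ![m, b]) :=
      Submodule.add_mem _ (Submodule.smul_mem _ _ hu0M) (Submodule.smul_mem _ _ hwM)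
    have hu1 : τ • u0 + (1 : K) • w ≠ 0 := by
      intro h
      rw [one_smul] at h
      apply hBw
      rw [eq_neg_of_add_eq_zero_right h, map_neg, map_smul, Bl_apply, show u0 + u0 = (2 : K) • u0 by module, Dv_smul hF, hu0Q]
      simp
    obtain ⟨V, hV, r', s', hr', hrs'⟩ := mk _ hu1M hu1 hu1Q
    refine ⟨f3 p (rp U) (rp V), Or.inl (Or.inr ⟨(U, V), ⟨hU, hV⟩, rfl⟩), ?_⟩
    have k0 : f3 p (rp U) (rp V) u0 = 0 := by
      rw [hrs, map_add, map_smul, map_smul, hf3a, hf3b, smul_zero, smul_zero, add_zero]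
    have k1 : f3 p (rp U) (rp V) (τ • u0 + (1 : K) • w) = 0 := by
      rw [hrs', map_add, map_smul, map_smul, hf3a, hf3c, smul_zero, smul_zero, add_zero]
    rw [map_add, map_smul, map_smul, k0, smul_zero, zero_add, one_smul] at k1
    rw [hbw, map_add, map_smul, map_smul, k0, k1, smul_zero, smul_zero, add_zero]

end Groth.Agent.CubicPts
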