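import Groth.Agent.CubicPts.Singular

/-! A smooth cubic surface contains only finitely many lines. -/

set_option autoImplicit false

open MvPolynomial

set_option maxHeartbeats 2000000

namespace Groth.Agent.CubicPts

variable {K : Type*} [Field K]

/-- maximal ideal of a point -/
noncomputable def ptIdeal {n : ℕ} (z : Fin n → K) : Ideal (MvPolynomial (Fin n) K) :=
  Ideal.span (Set.range fun k => (X k : MvPolynomial (Fin n) K) - C (z k))

theorem mem_ptIdeal_iff {n : ℕ} (z : Fin n → K) (p : MvPolynomial (Fin n) K) : p ∈ ptIdeal z ↔ eval z p = 0 := by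
  have hmem : ∀ q : MvPolynomial (Fin n) K, q - C (eval z q) ∈ ptIdeal z := by
    intro q
    induction q using MvPolynomial.induction_on with
    | C c => simp
    | add a b ha hb =>
      rw [map_add, map_add]
      have := (ptIdeal z).add_mem ha hb
      convert this using 1; ring
    | mul_X a k ha =>
      have := (ptIdeal z).add_mem ((ptIdeal z).mul_mem_right (X k) ha)
        ((ptIdeal z).mul_mem_left (C (eval z a)) (Ideal.subset_span ⟨k, rfl⟩))
      rw [map_mul, eval_X, map_mul]
      convert this using 1; ring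
  constructor
  · intro h
    have hle : ptIdeal z ≤ RingHom.ker (eval z) := by
      rw [ptIdeal, Ideal.span_le]; rintro _ ⟨k, rfl⟩; simp [RingHom.mem_ker]
    exact hle h
  · intro h
    simpa [h] using hmem p

theorem ptIdeal_isMaximal {n : ℕ} (z : Fin n → K) : (ptIdeal z).IsMaximal := by
  have : ptIdeal z = RingHom.ker (eval z) := Ideal.ext fun p => mem_ptIdeal_iff z p
  rw [this]
  exact RingHom.ker_isMaximal_of_surjective _ fun c => ⟨C c, eval_C c⟩

theorem taylor_one {n : ℕ} (z : Fin n → K) (p : MvPolynomial (Fin n) K) :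
    p - C (eval z p) - ∑ k, C (eval z (pderiv k p)) * (X k - C (z k)) ∈ ptIdeal z * ptIdeal z := by
  classical
  induction p using MvPolynomial.induction_on with
  | C c => simp
  | add a b ha hb =>
    have := (ptIdeal z * ptIdeal z).add_mem ha hb
    simp only [map_add, add_mul, Finset.sum_add_distrib]
    convert this using 1; ring
  | mul_X a j ha =>
    set L := ∑ k, C (eval z (pderiv k a)) * (X k - C (z k)) with hL
    have hLm : L ∈ ptIdeal z := Ideal.sum_mem _ fun k _ => (ptIdeal z).mul_mem_left _ (Ideal.subset_span ⟨k, rfl⟩)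
    have hj : (X j : MvPolynomial (Fin n) K) - C (z j) ∈ ptIdeal z := Ideal.subset_span ⟨j, rfl⟩
    have key := (ptIdeal z * ptIdeal z).add_mem ((ptIdeal z * ptIdeal z).mul_mem_right (X j) ha) (Ideal.mul_mem_mul hLm hj)
    have e : ∀ k, C (eval z (pderiv k (a * X j))) * (X k - C (z k)) = C (z j) * (C (eval z (pderiv k a)) * (X k - C (z k))) +
        (if k = j then C (eval z a) * (X j - C (z j)) else 0) := fun k => by
      rw [pderiv_mul, map_add, map_mul, map_mul, eval_X]
      rcases eq_or_ne k j with rfl | hk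
      · simp; ring
      · simp [pderiv_X_of_ne hk.symm, hk]; ring
    simp only [e, Finset.sum_add_distrib, ← Finset.mul_sum, Finset.sum_ite_eq', Finset.mem_univ, if_true, ← hL, map_mul, eval_X]
    convert key using 1; ring

theorem finite_zeros {n : ℕ} (g : Fin n → MvPolynomial (Fin n) K)
    (h : ∀ z, (∀ i, eval z (g i) = 0) → ∀ v : Fin n → K, (∀ i, ∑ k, eval z (pderiv k (g i)) * v k = 0) → v = 0) :
    {z : Fin n → K | ∀ i, eval z (g i) = 0}.Finite := by
  classical
  set I := Ideal.span (Set.range g)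
  have hle : ∀ z, (∀ i, eval z (g i) = 0) → I ≤ ptIdeal z := fun z hz => by
    rw [Ideal.span_le]; rintro _ ⟨i, rfl⟩; exact (mem_ptIdeal_iff z _).2 (hz i)
  have hmin : ∀ z, (∀ i, eval z (g i) = 0) → ptIdeal z ∈ I.minimalPrimes := by
    intro z hz
    have hmax := ptIdeal_isMaximal z
    let J : Matrix (Fin n) (Fin n) K := fun i k => eval z (pderiv k (g i))
    have hJ : IsUnit J := Matrix.mulVec_injective_iff_isUnit.1 (by
      intro v w hvw
      refine sub_eq_zero.1 (h z hz (v - w) fun i => ?_)
      have := congrFun hvw i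
      simp only [Matrix.mulVec, dotProduct, J] at this
      simp [mul_sub, Finset.sum_sub_distrib, this])
    have hJd := (Matrix.isUnit_iff_isUnit_det J).1 hJ
    have hm2 : ptIdeal z ≤ I ⊔ ptIdeal z * ptIdeal z := by
      refine Ideal.span_le.2 ?_
      rintro _ ⟨j, rfl⟩
      have hsum : ∑ i, C (J⁻¹ j i) * g i ∈ I := Ideal.sum_mem _ fun i _ => I.mul_mem_left _ (Ideal.subset_span ⟨i, rfl⟩)
      have hrem : ∑ i, C (J⁻¹ j i) * (g i - C (eval z (g i)) - ∑ k, C (eval z (pderiv k (g i))) * (X k - C (z k))) ∈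
          ptIdeal z * ptIdeal z := Ideal.sum_mem _ fun i _ => Ideal.mul_mem_left _ _ (taylor_one z (g i))
      have e : (X j : MvPolynomial (Fin n) K) - C (z j) =
          ∑ i, C (J⁻¹ j i) * g i - ∑ i, C (J⁻¹ j i) * (g i - C (eval z (g i)) - ∑ k, C (eval z (pderiv k (g i))) * (X k - C (z k))) := by
        have h1 : ∀ k, ∑ i, J⁻¹ j i * eval z (pderiv k (g i)) = if j = k then 1 else 0 := fun k => by
          have := congrFun (congrFun (Matrix.nonsing_inv_mul J hJd) j) k
          simpa [Matrix.mul_apply, Matrix.one_apply, J] using this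
        simp only [hz, map_zero, sub_zero, mul_sub (C _) (g _), Finset.sum_sub_distrib, Finset.mul_sum, ← mul_assoc, ← map_mul]
        rw [Finset.sum_comm]
        simp only [← Finset.sum_mul, ← map_sum, h1]
        simp [apply_ite C]
      show (X j : MvPolynomial (Fin n) K) - C (z j) ∈ I ⊔ ptIdeal z * ptIdeal z
      rw [e]
      exact Ideal.sub_mem _ (Ideal.mem_sup_left hsum) (Ideal.mem_sup_right hrem)
    refine ⟨⟨hmax.isPrime, hle z hz⟩, fun Q hQ hQm => ?_⟩
    haveI := hQ.1
    let π := Ideal.Quotient.mk Q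
    have hπI : I.map π = ⊥ := by
      rw [Ideal.map_eq_bot_iff_le_ker, Ideal.mk_ker]; exact hQ.2
    have hid : IsIdempotentElem ((ptIdeal z).map π) := by
      refine le_antisymm Ideal.mul_le_left ?_
      calc (ptIdeal z).map π ≤ (I ⊔ ptIdeal z * ptIdeal z).map π := Ideal.map_mono hm2
        _ = (ptIdeal z).map π * (ptIdeal z).map π := by rw [Ideal.map_sup, hπI, bot_sup_eq, Ideal.map_mul]
    have hfg : ((ptIdeal z).map π).FG := IsNoetherian.noetherian _
    rcases (Ideal.isIdempotentElem_iff_eq_bot_or_top _ hfg).1 hid with hb | ht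
    · rw [Ideal.map_eq_bot_iff_le_ker, Ideal.mk_ker] at hb
      exact hb
    · exfalso
      have h1 : (1 : MvPolynomial (Fin n) K ⧸ Q) ∈ (ptIdeal z).map π := ht ▸ Submodule.mem_top
      obtain ⟨a, ha, ha'⟩ := (Ideal.mem_map_iff_of_surjective π Ideal.Quotient.mk_surjective).1 h1
      have h2 : a - 1 ∈ Q := Ideal.Quotient.eq.1 ha'
      exact hmax.ne_top ((Ideal.eq_top_iff_one _).2 (by simpa using Ideal.sub_mem _ ha (hQm h2)))
  have hfin : I.minimalPrimes.Finite := Ideal.finite_minimalPrimes_of_isNoetherianRing _ I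
  refine Set.Finite.of_finite_image (f := ptIdeal) (hfin.subset ?_) ?_
  · rintro _ ⟨z, hz, rfl⟩; exact hmin z hz
  · intro z _ z' _ hzz'
    funext k
    have : (X k : MvPolynomial (Fin n) K) - C (z k) ∈ ptIdeal z' := hzz' ▸ Ideal.subset_span ⟨k, rfl⟩
    have := (mem_ptIdeal_iff z' _).1 this
    simp at this
    linear_combination -this

variable [CharZero K] [IsAlgClosed K] {F : MvPolynomial (Fin 4) K}

/-- coprimality on a line without singular points -/
theorem deform_zero (f₀ f₁ f₂ g₀ g₁ g₂ p₀ p₁ q₀ q₁ : K)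
    (hno : ∀ s, ¬ (f₀ + f₁ * s + f₂ * s ^ 2 = 0 ∧ g₀ + g₁ * s + g₂ * s ^ 2 = 0)) (hinf : ¬ (f₂ = 0 ∧ g₂ = 0))
    (h : ∀ s, (p₀ + p₁ * s) * (f₀ + f₁ * s + f₂ * s ^ 2) + (q₀ + q₁ * s) * (g₀ + g₁ * s + g₂ * s ^ 2) = 0) :
    p₀ = 0 ∧ p₁ = 0 ∧ q₀ = 0 ∧ q₁ = 0 := by
  classical
  have main : ∀ (a₀ a₁ a₂ b₀ b₁ b₂ c₀ c₁ d₀ d₁ : K), a₂ ≠ 0 →
      (∀ s, ¬ (a₀ + a₁ * s + a₂ * s ^ 2 = 0 ∧ b₀ + b₁ * s + b₂ * s ^ 2 = 0)) →
      (∀ s, (c₀ + c₁ * s) * (a₀ + a₁ * s + a₂ * s ^ 2) + (d₀ + d₁ * s) * (b₀ + b₁ * s + b₂ * s ^ 2) = 0) →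
      c₀ = 0 ∧ c₁ = 0 ∧ d₀ = 0 ∧ d₁ = 0 := by
    intro a₀ a₁ a₂ b₀ b₁ b₂ c₀ c₁ d₀ d₁ ha hno h
    let A : Polynomial K := Polynomial.C a₂ * Polynomial.X ^ 2 + Polynomial.C a₁ * Polynomial.X + Polynomial.C a₀
    let B : Polynomial K := Polynomial.C b₂ * Polynomial.X ^ 2 + Polynomial.C b₁ * Polynomial.X + Polynomial.C b₀
    let D : Polynomial K := Polynomial.C d₁ * Polynomial.X + Polynomial.C d₀
    let Cc : Polynomial K := Polynomial.C c₁ * Polynomial.X + Polynomial.C c₀
    have e : Cc * A = -(D * B) := Polynomial.funext fun s => by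
      simp [A, B, Cc, D]; linear_combination h s
    have hcop : IsCoprime A B := by
      by_contra hc
      have hA : A ≠ 0 := fun h0 => ha (by have := congrArg (fun p => Polynomial.coeff p 2) h0; simpa [A] using this)
      have hdeg : (EuclideanDomain.gcd A B).degree ≠ 0 := by
        intro h0
        exact hc (EuclideanDomain.gcd_isUnit_iff.1 (Polynomial.isUnit_iff_degree_eq_zero.2 h0))
      obtain ⟨s, hs⟩ := IsAlgClosed.exists_root _ hdeg
      obtain ⟨u, hu⟩ := EuclideanDomain.gcd_dvd_left A B
      obtain ⟨v, hv⟩ := EuclideanDomain.gcd_dvd_right A B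
      refine hno s ⟨?_, ?_⟩
      · have : A.eval s = 0 := by rw [hu, Polynomial.eval_mul, hs, zero_mul]
        simp [A] at this; linear_combination this
      · have : B.eval s = 0 := by rw [hv, Polynomial.eval_mul, hs, zero_mul]
        simp [B] at this; linear_combination this
    have hdvd : A ∣ D := hcop.dvd_of_dvd_mul_right ⟨-Cc, by linear_combination e⟩
    have hA2 : A.natDegree = 2 := Polynomial.natDegree_quadratic ha
    have hD : D = 0 := Polynomial.eq_zero_of_dvd_of_natDegree_lt hdvd (by
      have := Polynomial.natDegree_linear_le (a := d₁) (b := d₀)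
      show (Polynomial.C d₁ * Polynomial.X + Polynomial.C d₀).natDegree < _
      omega)
    have hC : Cc = 0 := by
      rw [hD, zero_mul, neg_zero, mul_eq_zero] at e
      exact e.resolve_right fun h0 => by rw [h0] at hA2; simp at hA2
    have k0 := congrArg (fun p => Polynomial.coeff p 0) hD
    have k1 := congrArg (fun p => Polynomial.coeff p 1) hD
    have l0 := congrArg (fun p => Polynomial.coeff p 0) hC
    have l1 := congrArg (fun p => Polynomial.coeff p 1) hC
    simp [D, Cc] at k0 k1 l0 l1
    exact ⟨l0, l1, k0, k1⟩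
  rcases eq_or_ne f₂ 0 with hf | hf
  · obtain ⟨x1, x2, x3, x4⟩ := main g₀ g₁ g₂ f₀ f₁ f₂ q₀ q₁ p₀ p₁ (fun h0 => hinf ⟨hf, h0⟩)
      (fun s h0 => hno s ⟨h0.2, h0.1⟩) (fun s => by linear_combination h s)
    exact ⟨x3, x4, x1, x2⟩
  · exact main f₀ f₁ f₂ g₀ g₁ g₂ p₀ p₁ q₀ q₁ hf hno h

/-- finitely many lines on a smooth cubic surface -/
theorem finite_lines (hF : F.IsHomogeneous 3)
    (hsmooth : ∀ b : Fin 4 → K, b ≠ 0 → eval b F = 0 → ∃ i, eval b (pderiv i F) ≠ 0) :
    {U : Submodule K (Fin 4 → K) | Module.finrank K ↥U = 2 ∧ ∀ u ∈ U, eval u F = 0}.Finite := by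
  classical
  let A : Fin 4 × Fin 4 × Fin 4 × Fin 4 → (Fin 4 → K) → (Fin 4 → K) := fun c z =>
    Pi.single c.1 1 + z 0 • Pi.single c.2.2.1 1 + z 1 • Pi.single c.2.2.2 1
  let B : Fin 4 × Fin 4 × Fin 4 × Fin 4 → (Fin 4 → K) → (Fin 4 → K) := fun c z =>
    Pi.single c.2.1 1 + z 2 • Pi.single c.2.2.1 1 + z 3 • Pi.single c.2.2.2 1
  let good : Fin 4 × Fin 4 × Fin 4 × Fin 4 → Prop := fun c =>
    Function.Injective ![c.1, c.2.1, c.2.2.1, c.2.2.2]
  let Z : Fin 4 × Fin 4 × Fin 4 × Fin 4 → Set (Fin 4 → K) := fun c =>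
    {z | good c ∧ ∀ s : Fin 4, eval ((1 : K) • A c z + ((s : ℕ) : K) • B c z) F = 0}
  have hZ : ∀ c, (Z c).Finite := by
    intro c
    by_cases hc : good c
    · obtain ⟨i, j, k, l⟩ := c
      have hij : i ≠ j := fun h => absurd (hc (a₁ := 0) (a₂ := 1) h) (by decide)
      have hik : i ≠ k := fun h => absurd (hc (a₁ := 0) (a₂ := 2) h) (by decide)
      have hil : i ≠ l := fun h => absurd (hc (a₁ := 0) (a₂ := 3) h) (by decide)
      have hjk : j ≠ k := fun h => absurd (hc (a₁ := 1) (a₂ := 2) h) (by decide)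
      have hjl : j ≠ l := fun h => absurd (hc (a₁ := 1) (a₂ := 3) h) (by decide)
      have hkl : k ≠ l := fun h => absurd (hc (a₁ := 2) (a₂ := 3) h) (by decide)
      let sb : Fin 4 → MvPolynomial (Fin 4) K := fun m => C ((Pi.single i 1 : Fin 4 → K) m) +
        X 0 * C ((Pi.single k 1 : Fin 4 → K) m) + X 1 * C ((Pi.single l 1 : Fin 4 → K) m)
      let sc : Fin 4 → MvPolynomial (Fin 4) K := fun m => C ((Pi.single j 1 : Fin 4 → K) m) +
        X 2 * C ((Pi.single k 1 : Fin 4 → K) m) + X 3 * C ((Pi.single l 1 : Fin 4 → K) m)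
      let g : Fin 4 → MvPolynomial (Fin 4) K := fun s => aeval (fun m => sb m + C ((s : ℕ) : K) * sc m) F
      have hge : ∀ (R : Type _) [CommRing R] [Algebra K R] (z : Fin 4 → R) (s : Fin 4), aeval z (g s) =
          aeval (fun m => algebraMap K R ((Pi.single i 1 : Fin 4 → K) m) + z 0 * algebraMap K R ((Pi.single k 1 : Fin 4 → K) m) +
            z 1 * algebraMap K R ((Pi.single l 1 : Fin 4 → K) m) + algebraMap K R ((s : ℕ) : K) *
            (algebraMap K R ((Pi.single j 1 : Fin 4 → K) m) + z 2 * algebraMap K R ((Pi.single k 1 : Fin 4 → K) m) +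
              z 3 * algebraMap K R ((Pi.single l 1 : Fin 4 → K) m))) F := by
        intro R _ _ z s
        rw [map_ev (MvPolynomial.aeval z)]
        congr 2; funext m; simp [sb, sc]; try ring
      have hgev : ∀ (z : Fin 4 → K) (s : Fin 4), eval z (g s) = eval ((1 : K) • A (i, j, k, l) z + ((s : ℕ) : K) • B (i, j, k, l) z) F := by
        intro z s
        rw [← aeval_eq_eval, hge, aeval_eq_eval]
        congr 2; funext m; simp [A, B]; try ring
      refine (finite_zeros g fun z hz v hv => ?_).subset fun z hz s => by rw [hgev]; exact hz.2 s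
      set a := A (i, j, k, l) z with ha
      set b := B (i, j, k, l) z with hb
      set α : Fin 4 → K := v 0 • Pi.single k 1 + v 1 • Pi.single l 1
      set β : Fin 4 → K := v 2 • Pi.single k 1 + v 3 • Pi.single l 1
      have hder : ∀ s : Fin 4, Dv F ((1 : K) • a + ((s : ℕ) : K) • b) ((1 : K) • α + ((s : ℕ) : K) • β) = 0 := by
        intro s
        let τ : MvPolynomial (Fin 4) K →ₐ[K] Polynomial K := aeval fun m => Polynomial.C (z m) + Polynomial.C (v m) * Polynomial.X
        have h2 : ∀ p ∈ ptIdeal z * ptIdeal z, (τ p).coeff 1 = 0 := by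
          intro p hp
          have hle : (ptIdeal z).map τ.toRingHom ≤ Ideal.span {Polynomial.X} := by
            rw [ptIdeal, Ideal.map_span, Ideal.span_le]
            rintro _ ⟨_, ⟨m, rfl⟩, rfl⟩
            exact Ideal.mem_span_singleton.2 ⟨Polynomial.C (v m), by simp [τ]; try ring⟩
          have hm : τ p ∈ Ideal.span {(Polynomial.X : Polynomial K)} * Ideal.span {(Polynomial.X : Polynomial K)} := by
            have h1 := Ideal.mem_map_of_mem τ.toRingHom hp
            rw [Ideal.map_mul] at h1
            exact Ideal.mul_mono hle hle h1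
          rw [Ideal.span_singleton_mul_span_singleton, Ideal.mem_span_singleton] at hm
          obtain ⟨q, hq⟩ := hm
          rw [hq, mul_assoc, Polynomial.coeff_X_mul]
          simp
        have h3 := h2 _ (taylor_one z (g s))
        simp only [hz s, map_zero, sub_zero, map_sub, map_sum, map_mul] at h3
        have hlin : (∑ k, τ (C (eval z (pderiv k (g s)))) * (τ (X k) - τ (C (z k)))).coeff 1 = 0 := by
          simp only [Polynomial.finsetSum_coeff, τ, aeval_C, aeval_X, Polynomial.algebraMap_eq, add_sub_cancel_left,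
            Polynomial.coeff_C_mul, Polynomial.coeff_X_one, mul_one]
          exact hv s
        rw [Polynomial.coeff_sub, hlin, sub_zero] at h3
        let U : Fin 4 → K := (1 : K) • a + ((s : ℕ) : K) • b
        let W : Fin 4 → K := (1 : K) • α + ((s : ℕ) : K) • β
        have hτ : τ (g s) = aeval ((1 : Polynomial K) • (fun m => algebraMap K (Polynomial K) (U m)) +
            (Polynomial.X : Polynomial K) • fun m => algebraMap K (Polynomial K) (W m)) F := by
          rw [show τ (g s) = aeval (fun m => Polynomial.C (z m) + Polynomial.C (v m) * Polynomial.X) (g s) from rfl, hge]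
          congr 2; funext m
          simp [U, W, a, b, α, β, A, B]; ring
        rw [hτ, aeval_line hF, algebraMap_Dv, algebraMap_Dv, algebraMap_ev, algebraMap_ev] at h3
        simp [Polynomial.coeff_C, Polynomial.coeff_X_pow] at h3
        exact h3
      have hderall : ∀ s : K, Dv F ((1 : K) • a + s • b) ((1 : K) • α + s • β) = 0 := by
        intro s
        have P : ∀ s : K, Dv F ((1 : K) • a + s • b) ((1 : K) • α + s • β) = Dv F a α +
            s * (Dv F a β + (Dv F (a + b) α - Dv F a α - Dv F b α)) +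
            s ^ 2 * ((Dv F (a + b) β - Dv F a β - Dv F b β) + Dv F b α) + s ^ 3 * Dv F b β := fun s => by
          rw [Dv_comb, Dv_line hF, Dv_line hF]; ring
        have d0 := hder 0; have d1 := hder 1; have d2 := hder 2; have d3 := hder 3
        rw [P] at d0 d1 d2 d3 ⊢
        simp at d0 d1 d2 d3
        set c0 := Dv F a α
        set c1 := Dv F a β + (Dv F (a + b) α - c0 - Dv F b α)
        set c2 := Dv F (a + b) β - Dv F a β - Dv F b β + Dv F b α
        set c3 := Dv F b β
        have e3 : c3 = 0 := by linear_combination (-1 / 6 : K) * d0 + (1 / 2 : K) * d1 - (1 / 2 : K) * d2 + (1 / 6 : K) * d3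
        have e2 : c2 = 0 := by linear_combination d0 - (5 / 2 : K) * d1 + 2 * d2 - (1 / 2 : K) * d3
        have e1 : c1 = 0 := by linear_combination (-11 / 6 : K) * d0 + 3 * d1 - (3 / 2 : K) * d2 + (1 / 3 : K) * d3
        linear_combination d0 + s * e1 + s ^ 2 * e2 + s ^ 3 * e3
      have hline : ∀ s t : K, eval (s • a + t • b) F = 0 := by
        intro s t
        have h0 := hz 0; have h1 := hz 1; have h2 := hz 2; have h3 := hz 3
        rw [hgev, ← aeval_eq_eval, aeval_line hF] at h0 h1 h2 h3
        simp at h0 h1 h2 h3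
        rw [← aeval_eq_eval, aeval_line hF]
        set c0 := eval a F with hc0
        have e0 : aeval a F = 0 := by rw [aeval_eq_eval]; linear_combination h0
        have e3 : aeval b F = 0 := by rw [aeval_eq_eval]; linear_combination (-1 / 6 : K) * h0 + (1 / 2 : K) * h1 - (1 / 2 : K) * h2 + (1 / 6 : K) * h3
        have e2 : Dv F b a = 0 := by linear_combination h0 - (5 / 2 : K) * h1 + 2 * h2 - (1 / 2 : K) * h3
        have e1 : Dv F a b = 0 := by linear_combination (-11 / 6 : K) * h0 + 3 * h1 - (3 / 2 : K) * h2 + (1 / 3 : K) * h3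
        rw [e0, e1, e2, e3]; ring
      let f := fun (m : Fin 4) (s t : K) => eval (s • a + t • b) (pderiv m F)
      have hsum4 : ∀ φ : Fin 4 → K, ∑ m, φ m = φ i + φ j + φ k + φ l := by
        intro φ
        have hu : (Finset.univ : Finset (Fin 4)) = {i, j, k, l} := by
          refine (Finset.eq_univ_of_card _ ?_).symm
          simp [hij, hik, hil, hjk, hjl, hkl]
        rw [hu, Finset.sum_insert (by simp [hij, hik, hil]), Finset.sum_insert (by simp [hjk, hjl]),
          Finset.sum_insert (by simp [hkl]), Finset.sum_singleton]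
        ring
      have hDsum : ∀ x y : Fin 4 → K, Dv F x y = y i * eval x (pderiv i F) + y j * eval x (pderiv j F) + y k * eval x (pderiv k F) + y l * eval x (pderiv l F) := fun x y => by
        simp only [Dv, aeval_eq_eval]; exact hsum4 _
      have pa : a i = 1 ∧ a j = 0 ∧ a k = z 0 ∧ a l = z 1 := by
        simp [ha, A, Pi.single_apply, hij, hik, hil, hjk, hjl, hkl, hij.symm, hik.symm, hil.symm, hjk.symm, hjl.symm, hkl.symm]
      have pb : b i = 0 ∧ b j = 1 ∧ b k = z 2 ∧ b l = z 3 := by
        simp [hb, B, Pi.single_apply, hij, hik, hil, hjk, hjl, hkl, hij.symm, hik.symm, hil.symm, hjk.symm, hjl.symm, hkl.symm]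
      have hgrad : ∀ s t : K, ¬ (s = 0 ∧ t = 0) → ¬ (f k s t = 0 ∧ f l s t = 0) := by
        rintro s t hst ⟨hk, hl⟩
        have hne : s • a + t • b ≠ 0 := by
          intro h0
          have hi := congrFun h0 i; have hj := congrFun h0 j
          simp [pa, pb] at hi hj
          exact hst ⟨hi, hj⟩
        obtain ⟨m, hm⟩ := hsmooth _ hne (hline s t)
        have hD : ∀ w, (∀ r : K, eval ((1 : K) • (s • a + t • b) + r • w) F = 0) → Dv F (s • a + t • b) w = 0 := by
          intro w hw
          have h1 := hw 1; have h2 := hw (-1); have h4 := hw 2; have h0 := hw 0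
          rw [← aeval_eq_eval, aeval_line hF] at h1 h2 h4 h0
          linear_combination h1 - (1 / 3 : K) * h2 - (1 / 6 : K) * h4 - (1 / 2 : K) * h0
        have hDa := hD a fun r => by
          rw [show (1 : K) • (s • a + t • b) + r • a = (s + r) • a + t • b by module]; exact hline _ _
        have hDb := hD b fun r => by
          rw [show (1 : K) • (s • a + t • b) + r • b = s • a + (t + r) • b by module]; exact hline _ _
        rw [hDsum, pa.1, pa.2.1, show eval _ (pderiv k F) = 0 from hk, show eval _ (pderiv l F) = 0 from hl] at hDa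
        rw [hDsum, pb.1, pb.2.1, show eval _ (pderiv k F) = 0 from hk, show eval _ (pderiv l F) = 0 from hl] at hDb
        simp at hDa hDb
        apply hm
        have hu : m = i ∨ m = j ∨ m = k ∨ m = l := by
          have : m ∈ ({i, j, k, l} : Finset (Fin 4)) := by
            rw [Finset.eq_univ_of_card _ (by simp [hij, hik, hil, hjk, hjl, hkl] : ({i, j, k, l} : Finset (Fin 4)).card = _)]
            exact Finset.mem_univ _
          simpa using this
        rcases hu with rfl | rfl | rfl | rfl
        · exact hDa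
        · exact hDb
        · exact hk
        · exact hl
      let e : Fin 4 → Fin 4 → K := fun m => Pi.single m 1
      have hf2 : ∀ (m : Fin 4) (s t : K), f m s t = s ^ 2 * Dv F a (e m) + s * t * (Dv F (a + b) (e m) - Dv F a (e m) - Dv F b (e m)) + t ^ 2 * Dv F b (e m) := by
        intro m s t
        rw [← Dv_line hF]
        simp [f, e, Dv, Pi.single_apply, aeval_eq_eval]
      obtain ⟨h0, h1, h2, h3⟩ := deform_zero (Dv F a (e k)) (Dv F (a + b) (e k) - Dv F a (e k) - Dv F b (e k)) (Dv F b (e k))
        (Dv F a (e l)) (Dv F (a + b) (e l) - Dv F a (e l) - Dv F b (e l)) (Dv F b (e l)) (v 0) (v 2) (v 1) (v 3)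
        (fun s h => hgrad 1 s (by simp) ⟨by rw [hf2]; linear_combination h.1, by rw [hf2]; linear_combination h.2⟩)
        (fun h => hgrad 0 1 (by simp) ⟨by rw [hf2]; linear_combination h.1, by rw [hf2]; linear_combination h.2⟩)
        (fun s => by
          have hh := hderall s
          have hw : ∀ (c d : K), Dv F ((1 : K) • a + s • b) (c • e k + d • e l) = c * f k 1 s + d * f l 1 s := by
            intro c d
            rw [Dv_comb]
            simp [f, e, Dv, Pi.single_apply, aeval_eq_eval]
          rw [show (1 : K) • α + s • β = (v 0 + v 2 * s) • e k + (v 1 + v 3 * s) • e l by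
            simp only [α, β, e]; module, hw, hf2, hf2] at hh
          linear_combination hh)
      funext m; fin_cases m <;> assumption
    · exact Set.finite_empty.subset fun z hz => hc hz.1
  refine (Set.finite_iUnion fun c => (hZ c).image fun z => Submodule.span K (Set.range ![A c z, B c z])).subset ?_
  rintro U ⟨h2, hU⟩
  haveI : Module.Finite K U := inferInstance
  let bU := Module.finBasisOfFinrankEq K U h2
  set u : Fin 4 → K := (bU 0 : Fin 4 → K)
  set v : Fin 4 → K := (bU 1 : Fin 4 → K)
  have hind : LinearIndependent K ![u, v] := by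
    have := bU.linearIndependent.map' U.subtype (Submodule.ker_subtype U)
    rw [show ![u, v] = U.subtype ∘ bU from by funext t; fin_cases t <;> rfl]
    exact this
  obtain ⟨i, j, hdet⟩ : ∃ i j, u i * v j - u j * v i ≠ 0 := by
    by_contra! h
    obtain ⟨i, hi⟩ : ∃ i, u i ≠ 0 := by
      by_contra! h0
      exact hind.ne_zero 0 (funext h0)
    have := Fintype.linearIndependent_iff.1 hind ![v i, -u i] (by
      funext m; simp [Fin.sum_univ_two]; linear_combination -(h i m)) 1
    exact hi (by simpa using this)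
  have hij : i ≠ j := fun h => hdet (by rw [h]; ring)
  obtain ⟨k, l, hgood⟩ : ∃ k l, Function.Injective ![i, j, k, l] := by
    clear hdet
    revert i j; decide
  set d := u i * v j - u j * v i with hd
  set a := (v j / d) • u + (-(u j) / d) • v with ha
  set b := (-(v i) / d) • u + (u i / d) • v with hb
  have hai : a i = 1 := by simp [ha]; field_simp; rw [hd]; ring
  have haj : a j = 0 := by simp [ha]; ring
  have hbi : b i = 0 := by simp [hb]; ring
  have hbj : b j = 1 := by simp [hb]; field_simp; rw [hd]; ring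
  let z : Fin 4 → K := ![a k, a l, b k, b l]
  have hik : i ≠ k := fun h => absurd (hgood (a₁ := 0) (a₂ := 2) h) (by decide)
  have hil : i ≠ l := fun h => absurd (hgood (a₁ := 0) (a₂ := 3) h) (by decide)
  have hjk : j ≠ k := fun h => absurd (hgood (a₁ := 1) (a₂ := 2) h) (by decide)
  have hjl : j ≠ l := fun h => absurd (hgood (a₁ := 1) (a₂ := 3) h) (by decide)
  have hkl : k ≠ l := fun h => absurd (hgood (a₁ := 2) (a₂ := 3) h) (by decide)
  have hcov : ∀ m, m = i ∨ m = j ∨ m = k ∨ m = l := fun m => by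
    obtain ⟨t, ht⟩ := (Finite.injective_iff_surjective.1 hgood) m
    fin_cases t <;> simp at ht <;> simp [ht]
  have hA : A (i, j, k, l) z = a := by
    funext m
    rcases hcov m with rfl | rfl | rfl | rfl <;>
      simp [A, z, Pi.single_apply, hai, haj, hij, hik, hil, hjk, hjl, hkl, hij.symm, hik.symm, hil.symm, hjk.symm, hjl.symm, hkl.symm]
  have hB : B (i, j, k, l) z = b := by
    funext m
    rcases hcov m with rfl | rfl | rfl | rfl <;>
      simp [B, z, Pi.single_apply, hbi, hbj, hij, hik, hil, hjk, hjl, hkl, hij.symm, hik.symm, hil.symm, hjk.symm, hjl.symm, hkl.symm]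
  have hmem : ∀ c d : K, c • u + d • v ∈ U := fun c d => U.add_mem (U.smul_mem _ (bU 0).2) (U.smul_mem _ (bU 1).2)
  simp only [Set.mem_iUnion, Set.mem_image]
  refine ⟨(i, j, k, l), z, ⟨hgood, fun s => ?_⟩, ?_⟩
  · rw [hA, hB]; exact hU _ (U.add_mem (U.smul_mem _ (hmem _ _)) (U.smul_mem _ (hmem _ _)))
  · rw [hA, hB]
    refine Submodule.eq_of_le_of_finrank_eq ?_ ?_
    · rw [Submodule.span_le]; rintro _ ⟨t, rfl⟩
      fin_cases t
      · exact hmem _ _
      · exact hmem _ _
    · rw [h2, finrank_span_eq_card]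
      · simp
      rw [Fintype.linearIndependent_iff]
      intro g hg
      simp [Fin.sum_univ_two] at hg
      have gi := congrFun hg i; have gj := congrFun hg j
      simp [hai, haj, hbi, hbj] at gi gj
      intro t; fin_cases t <;> assumption

end Groth.Agent.CubicPts
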