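import Mathlib

/-! Polarisation of cubic forms, binary forms. -/

set_option autoImplicit false

open MvPolynomial

namespace Groth.Agent.CubicPts

variable {k : Type*} [CommRing k] {σ : Type*} [Fintype σ] {R : Type*} [CommRing R] [Algebra k R]

/-- first polar: derivative at `x` in direction `y` -/
noncomputable def Dv (F : MvPolynomial σ k) (x y : σ → R) : R := ∑ i, y i * aeval x (pderiv i F)

theorem cubic_induction {P : MvPolynomial σ k → Prop} (h0 : P 0) (hadd : ∀ p q, P p → P q → P (p + q))
    (hm : ∀ c i j l, P (C c * X i * X j * X l)) {F : MvPolynomial σ k} (hF : F.IsHomogeneous 3) : P F := by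
  classical
  rw [F.as_sum]
  refine Finset.sum_induction _ P hadd h0 fun d hd => ?_
  have hcard : Multiset.card (Finsupp.toMultiset d) = 3 := by
    have h := hF (mem_support_iff.1 hd)
    rw [Finsupp.card_toMultiset]
    simp [Finsupp.weight_apply] at h
    exact h
  obtain ⟨i, j, l, hijl⟩ := Multiset.card_eq_three.1 hcard
  have hd' : d = Finsupp.single i 1 + Finsupp.single j 1 + Finsupp.single l 1 := by
    rw [← Finsupp.toMultiset_toFinsupp d, hijl]
    simp [← Multiset.singleton_add, add_assoc]
  have e : monomial d (coeff d F) = C (coeff d F) * X i * X j * X l := by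
    conv_lhs => rw [hd']
    simp only [X, C_apply, monomial_mul, mul_one, zero_add]
    rw [← hd']
  rw [e]
  exact hm _ _ _ _

theorem Dv_add_left (p q : MvPolynomial σ k) (x y : σ → R) : Dv (p + q) x y = Dv p x y + Dv q x y := by
  simp [Dv, mul_add, Finset.sum_add_distrib]

theorem Dv_zero_left (x y : σ → R) : Dv (0 : MvPolynomial σ k) x y = 0 := by simp [Dv]

theorem Dv_monomial (c : k) (i j l : σ) (x y : σ → R) :
    Dv (C c * X i * X j * X l) x y =
      algebraMap k R c * (y i * x j * x l + x i * y j * x l + x i * x j * y l) := by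
  classical
  have hX : ∀ m : σ, ∑ t, y t * aeval x (pderiv t (X m : MvPolynomial σ k)) = y m := fun m => by
    rw [Finset.sum_eq_single m]
    · simp
    · intro t _ ht; simp [pderiv_X_of_ne (Ne.symm ht)]
    · simp
  simp only [Dv, Derivation.leibniz, smul_eq_mul, map_add, map_mul, pderiv_C, mul_zero, add_zero, map_zero, aeval_C,
    aeval_X, mul_add, Finset.sum_add_distrib]
  have e : ∀ (A : R) (m : σ), ∑ t, y t * (A * aeval x (pderiv t (X m : MvPolynomial σ k))) = A * y m := fun A m => by
    rw [← hX m, Finset.mul_sum]; exact Finset.sum_congr rfl fun t _ => by ring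
  have e2 : ∀ (A : R) (m : σ), ∑ t, y t * (x l * (A * aeval x (pderiv t (X m : MvPolynomial σ k)))) = x l * A * y m := fun A m => by
    rw [← e (x l * A) m]; exact Finset.sum_congr rfl fun t _ => by ring
  have e3 : ∀ (A B : R) (m : σ), ∑ t, y t * (x l * (A * (B * aeval x (pderiv t (X m : MvPolynomial σ k))))) = x l * A * B * y m := fun A B m => by
    rw [← e (x l * A * B) m]; exact Finset.sum_congr rfl fun t _ => by ring
  simp only [e, e2, e3]
  ring

variable {F : MvPolynomial σ k}

theorem aeval_line (hF : F.IsHomogeneous 3) (s t : R) (x y : σ → R) :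
    aeval (s • x + t • y) F = s ^ 3 * aeval x F + s ^ 2 * t * Dv F x y + s * t ^ 2 * Dv F y x + t ^ 3 * aeval y F := by
  refine cubic_induction (P := fun F => aeval (s • x + t • y) F = s ^ 3 * aeval x F + s ^ 2 * t * Dv F x y +
    s * t ^ 2 * Dv F y x + t ^ 3 * aeval y F) ?_ ?_ ?_ hF
  · simp [Dv_zero_left]
  · intro p q hp hq; simp only [map_add, Dv_add_left, hp, hq]; ring
  · intro c i j l; simp only [Dv_monomial, map_mul, aeval_C, aeval_X, Pi.add_apply, Pi.smul_apply, smul_eq_mul]; ring

theorem Dv_line (hF : F.IsHomogeneous 3) (s t : R) (x y z : σ → R) :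
    Dv F (s • x + t • y) z = s ^ 2 * Dv F x z + s * t * (Dv F (x + y) z - Dv F x z - Dv F y z) + t ^ 2 * Dv F y z := by
  refine cubic_induction (P := fun F => Dv F (s • x + t • y) z = s ^ 2 * Dv F x z +
    s * t * (Dv F (x + y) z - Dv F x z - Dv F y z) + t ^ 2 * Dv F y z) ?_ ?_ ?_ hF
  · simp [Dv_zero_left]
  · intro p q hp hq; simp only [Dv_add_left, hp, hq]; ring
  · intro c i j l; simp only [Dv_monomial, Pi.add_apply, Pi.smul_apply, smul_eq_mul]; ring

theorem Dv_line_self (hF : F.IsHomogeneous 3) (s t : R) (x z : σ → R) :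
    Dv F (s • x + t • z) z = s ^ 2 * Dv F x z + 2 * (s * t) * Dv F z x + 3 * t ^ 2 * aeval z F := by
  refine cubic_induction (P := fun F => Dv F (s • x + t • z) z = s ^ 2 * Dv F x z +
    2 * (s * t) * Dv F z x + 3 * t ^ 2 * aeval z F) ?_ ?_ ?_ hF
  · simp [Dv_zero_left]
  · intro p q hp hq; simp only [map_add, Dv_add_left, hp, hq]; ring
  · intro c i j l; simp only [Dv_monomial, map_mul, aeval_C, aeval_X, Pi.add_apply, Pi.smul_apply, smul_eq_mul]; ring

theorem Dv_self (hF : F.IsHomogeneous 3) (x : σ → R) : Dv F x x = 3 * aeval x F := by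
  refine cubic_induction (P := fun F => Dv F x x = 3 * aeval x F) ?_ ?_ ?_ hF
  · simp [Dv_zero_left]
  · intro p q hp hq; simp only [map_add, Dv_add_left, hp, hq]; ring
  · intro c i j l; simp only [Dv_monomial, map_mul, aeval_C, aeval_X]; ring

theorem Dv_comb (x y z : σ → R) (a b : R) : Dv F x (a • y + b • z) = a * Dv F x y + b * Dv F x z := by
  simp only [Dv, Pi.add_apply, Pi.smul_apply, smul_eq_mul, Finset.mul_sum, ← Finset.sum_add_distrib]
  exact Finset.sum_congr rfl fun i _ => by ring

theorem Dv_smul (hF : F.IsHomogeneous 3) (s : R) (x z : σ → R) : Dv F (s • x) z = s ^ 2 * Dv F x z := by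
  have h := Dv_line hF s 0 x x z
  simpa using h

theorem map_Dv {S : Type*} [CommRing S] [Algebra k S] (φ : R →ₐ[k] S) (x y : σ → R) :
    φ (Dv F x y) = Dv F (fun i => φ (x i)) (fun i => φ (y i)) := by
  simp only [Dv, map_sum, map_mul, comp_aeval_apply]

theorem map_ev {S : Type*} [CommRing S] [Algebra k S] (φ : R →ₐ[k] S) (x : σ → R) (G : MvPolynomial σ k) :
    φ (aeval x G) = aeval (fun i => φ (x i)) G := comp_aeval_apply (f := x) φ G

end Groth.Agent.CubicPts
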