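import Groth.Agent.CubicPts.Polar

/-! Rational points of a cubic surface through a rational point which is not a T-point. -/

set_option autoImplicit false

open MvPolynomial

set_option maxHeartbeats 1000000

namespace Groth.Agent.CubicPts

section Binary

variable {K : Type*} [CommRing K]

/-- one of four minors of the Sylvester-type matrix of a quadratic and a cubic binary form is nonzero -/
def NDiv (A B C c0 c1 c2 c3 : K) : Prop :=
  A * A * c2 - A * B * c1 + (B * B - A * C) * c0 ≠ 0 ∨ A * A * c3 - A * C * c1 + B * C * c0 ≠ 0 ∨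
    B * B * c3 - B * C * c2 + C * C * c1 - A * C * c3 ≠ 0 ∨ A * (B * c3 - C * c2) + C * C * c0 ≠ 0

theorem not_dvd_of_NDiv {A B C c0 c1 c2 c3 : K} (h : NDiv A B C c0 c1 c2 c3) (m n : K) :
    ¬ (c0 = A * m ∧ c1 = B * m + A * n ∧ c2 = C * m + B * n ∧ c3 = C * n) := by
  rintro ⟨rfl, rfl, rfl, rfl⟩
  rcases h with h | h | h | h <;> exact h (by ring)

theorem ne_zero_of_NDiv {A B C c0 c1 c2 c3 : K} (h : NDiv A B C c0 c1 c2 c3) : ¬ (A = 0 ∧ B = 0 ∧ C = 0) := by
  rintro ⟨rfl, rfl, rfl⟩
  rcases h with h | h | h | h <;> exact h (by ring)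

end Binary

section BinaryField

variable {K : Type*} [Field K]

theorem NDiv_of_not_dvd {A B C c0 c1 c2 c3 : K} (h0 : ¬ (A = 0 ∧ B = 0 ∧ C = 0))
    (h : ∀ m n, ¬ (c0 = A * m ∧ c1 = B * m + A * n ∧ c2 = C * m + B * n ∧ c3 = C * n)) : NDiv A B C c0 c1 c2 c3 := by
  by_contra hn
  simp only [NDiv, not_or, not_not] at hn
  obtain ⟨h1, h2, h3, h4⟩ := hn
  rcases eq_or_ne A 0 with rfl | hA
  · rcases eq_or_ne B 0 with rfl | hB
    · have hC : C ≠ 0 := fun h => h0 ⟨rfl, rfl, h⟩
      have e0 : c0 = 0 := by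
        have : C * C * c0 = 0 := by linear_combination h4
        simpa [hC] using this
      have e1 : c1 = 0 := by
        have : C * C * c1 = 0 := by linear_combination h3
        simpa [hC] using this
      exact h (c2 / C) (c3 / C) ⟨by simp [e0], by simp [e1], by field_simp; ring, by field_simp⟩
    · have e0 : c0 = 0 := by
        have : B * B * c0 = 0 := by linear_combination h1
        simpa [hB] using this
      refine h (c1 / B) ((c2 - C * (c1 / B)) / B) ⟨by simp [e0], by field_simp; ring, by field_simp; ring, ?_⟩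
      field_simp
      linear_combination h3
  · refine h (c0 / A) ((c1 - B * (c0 / A)) / A) ⟨by field_simp, by field_simp; ring, ?_, ?_⟩
    · field_simp; linear_combination h1
    · field_simp; linear_combination h2

theorem quad_split [IsAlgClosed K] (A B C : K) :
    ∃ p q r s : K, A = p * r ∧ B = p * s + q * r ∧ C = q * s := by
  rcases eq_or_ne A 0 with rfl | hA
  · exact ⟨0, 1, B, C, by ring, by ring, by ring⟩
  · obtain ⟨x, hx⟩ := IsAlgClosed.exists_root (Polynomial.C A * Polynomial.X ^ 2 + Polynomial.C B * Polynomial.X + Polynomial.C C)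
      (by rw [Polynomial.degree_quadratic hA]; decide)
    simp [Polynomial.IsRoot] at hx
    exact ⟨1, -x, A, B + A * x, by ring, by ring, by linear_combination hx⟩

theorem cubic_split [IsAlgClosed K] (c0 c1 c2 c3 : K) :
    ∃ p q A B C : K, c0 = p * A ∧ c1 = p * B + q * A ∧ c2 = p * C + q * B ∧ c3 = q * C := by
  rcases eq_or_ne c0 0 with rfl | h0
  · exact ⟨0, 1, c1, c2, c3, by ring, by ring, by ring, by ring⟩
  · obtain ⟨x, hx⟩ := IsAlgClosed.exists_root (Polynomial.C c0 * Polynomial.X ^ 3 + Polynomial.C c1 * Polynomial.X ^ 2 +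
      Polynomial.C c2 * Polynomial.X + Polynomial.C c3) (by rw [Polynomial.degree_cubic h0]; decide)
    simp [Polynomial.IsRoot] at hx
    exact ⟨1, -x, c0, c1 + c0 * x, c2 + (c1 + c0 * x) * x, by ring, by ring, by ring, by linear_combination hx⟩

/-- numerator and denominator of the parametrisation -/
theorem exists_param [CharZero K] {A B C c0 c1 c2 c3 : K} (h : NDiv A B C c0 c1 c2 c3)
    (L : Type*) [Field L] [Algebra K L] [IsAlgClosed L] :
    ∃ (n d : MvPolynomial (Fin 2) K) (w : Fin 2 → L),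
      n * (MvPolynomial.C c0 * X 0 ^ 3 + MvPolynomial.C c1 * X 0 ^ 2 * X 1 + MvPolynomial.C c2 * X 0 * X 1 ^ 2 + MvPolynomial.C c3 * X 1 ^ 3) =
        d * (MvPolynomial.C A * X 0 ^ 2 + MvPolynomial.C B * X 0 * X 1 + MvPolynomial.C C * X 1 ^ 2) ∧
      n ≠ 0 ∧ aeval w n = 0 ∧ aeval w d ≠ 0 := by
  set i := algebraMap K L
  set Qp : MvPolynomial (Fin 2) K := MvPolynomial.C A * X 0 ^ 2 + MvPolynomial.C B * X 0 * X 1 + MvPolynomial.C C * X 1 ^ 2 with hQp
  set cp : MvPolynomial (Fin 2) K := MvPolynomial.C c0 * X 0 ^ 3 + MvPolynomial.C c1 * X 0 ^ 2 * X 1 + MvPolynomial.C c2 * X 0 * X 1 ^ 2 + MvPolynomial.C c3 * X 1 ^ 3 with hcp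
  have hQ0 : Qp ≠ 0 := by
    intro h0
    refine ne_zero_of_NDiv h ⟨?_, ?_, ?_⟩
    · simpa [hQp] using congrArg (eval ![1, 0]) h0
    · have e1 := congrArg (eval ![1, 1]) h0
      have e2 := congrArg (eval ![1, 0]) h0
      have e3 := congrArg (eval ![0, 1]) h0
      simp [hQp] at e1 e2 e3
      linear_combination e1 - e2 - e3
    · simpa [hQp] using congrArg (eval ![0, 1]) h0
  by_cases hgood : ∃ w : Fin 2 → L, aeval w Qp = 0 ∧ aeval w cp ≠ 0
  · obtain ⟨w, hw, hw'⟩ := hgood
    exact ⟨Qp, cp, w, mul_comm _ _, hQ0, hw, hw'⟩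
  push Not at hgood
  simp only [hQp, hcp, map_add, map_mul, map_pow, aeval_C, aeval_X] at hgood
  have hnd := not_dvd_of_NDiv h
  rcases eq_or_ne A 0 with rfl | hA
  · rcases eq_or_ne B 0 with rfl | hB
    · have e0 : c0 = 0 := i.injective (by simpa using hgood ![1, 0] (by simp))
      refine ⟨MvPolynomial.C C * X 1, MvPolynomial.C c1 * X 0 ^ 2 + MvPolynomial.C c2 * X 0 * X 1 + MvPolynomial.C c3 * X 1 ^ 2,
        ![1, 0], ?_, ?_, by simp, ?_⟩
      · simp only [hQp, hcp, e0, map_zero]; ring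
      · refine mul_ne_zero ?_ (X_ne_zero _)
        exact fun h0 => ne_zero_of_NDiv h ⟨rfl, rfl, C_eq_zero.1 h0⟩
      · intro h1
        have e1 : c1 = 0 := i.injective (by simpa using h1)
        have hC : C ≠ 0 := fun h0 => ne_zero_of_NDiv h ⟨rfl, rfl, h0⟩
        exact hnd (c2 / C) (c3 / C) ⟨by simp [e0], by simp [e1], by field_simp; ring, by field_simp⟩
    · exfalso
      have e0 : c0 = 0 := i.injective (by simpa using hgood ![1, 0] (by simp))
      have e := hgood ![i (-C), i B] (by simp; ring)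
      simp only [Matrix.cons_val_zero, Matrix.cons_val_one, ← map_pow, ← map_mul, ← map_add, i] at e
      have e' := (map_eq_zero _).1 e
      refine hnd (c1 / B) ((c2 - C * (c1 / B)) / B) ⟨by simp [e0], by field_simp; ring, by field_simp; ring, ?_⟩
      rw [e0] at e'
      have : B * (B * B * c3 - B * C * c2 + C * C * c1) = 0 := by linear_combination e'
      have h3 := (mul_eq_zero.1 this).resolve_left hB
      field_simp
      linear_combination h3
  · set mm := c0 / A with hmm
    set nn := (c1 - B * mm) / A with hnn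
    set α := c2 - C * mm - B * nn with hα
    set β := c3 - C * nn with hβ
    have hc : ∀ x : L, i c0 * x ^ 3 + i c1 * x ^ 2 + i c2 * x + i c3 =
        (i A * x ^ 2 + i B * x + i C) * (i mm * x + i nn) + i α * x + i β := by
      intro x
      have ec0 : c0 = A * mm := by rw [hmm]; field_simp
      have ec1 : c1 = B * mm + A * nn := by rw [hnn]; field_simp; ring
      rw [ec0, ec1, show c2 = C * mm + B * nn + α by rw [hα]; ring, show c3 = C * nn + β by rw [hβ]; ring]
      simp only [map_add, map_mul]; ring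
    obtain ⟨r, hr⟩ := IsAlgClosed.exists_root (Polynomial.C (i A) * Polynomial.X ^ 2 + Polynomial.C (i B) * Polynomial.X + Polynomial.C (i C))
      (by rw [Polynomial.degree_quadratic ((map_ne_zero i).2 hA)]; decide)
    simp [Polynomial.IsRoot] at hr
    have hia : i A ≠ 0 := (map_ne_zero i).2 hA
    have lin : ∀ x : L, i A * x ^ 2 + i B * x + i C = 0 → i α * x + i β = 0 := by
      intro x hx
      have := hgood ![x, 1] (by simpa using hx)
      simp at this
      have h2 := hc x
      rw [hx, this, zero_mul, zero_add] at h2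
      exact h2.symm
    by_cases hα0 : α = 0
    · exfalso
      have hβ0 : β = 0 := i.injective (by simpa [hα0] using lin r hr)
      exact hnd mm nn ⟨by rw [hmm]; field_simp, by rw [hnn]; field_simp; ring, by linear_combination hα0, by linear_combination hβ0⟩
    · have hr2 : i A * (-i B / i A - r) ^ 2 + i B * (-i B / i A - r) + i C = 0 := by
        field_simp; linear_combination i A * hr
      have h12 : i α * (r - (-i B / i A - r)) = 0 := by linear_combination lin r hr - lin _ hr2
      have hr' : r = -i B / (2 * i A) := by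
        have := (mul_eq_zero.1 h12).resolve_left ((map_ne_zero i).2 hα0)
        haveI hCZ : CharZero L := charZero_of_injective_algebraMap i.injective
        rw [eq_div_iff (mul_ne_zero two_ne_zero hia)]
        have e : -i B / i A * i A = -i B := div_mul_cancel₀ _ hia
        linear_combination i A * this + e
      set ρ := -B / (2 * A) with hρ
      have hri : r = i ρ := by rw [hr', hρ]; simp [map_ofNat]
      have hQρ : A * ρ ^ 2 + B * ρ + C = 0 := i.injective (by simp only [map_add, map_mul, map_pow, map_zero, ← hri]; exact hr)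
      have hlρ : α * ρ + β = 0 := i.injective (by simp only [map_add, map_mul, map_zero, ← hri]; exact lin r hr)
      have hB : B = -2 * A * ρ := by rw [hρ]; field_simp
      have hC : C = A * ρ ^ 2 := by linear_combination hQρ - ρ * hB
      have hc0 : c0 = A * mm := by rw [hmm]; field_simp
      have hc1 : c1 = B * mm + A * nn := by rw [hnn]; field_simp; ring
      refine ⟨MvPolynomial.C A * (X 0 - MvPolynomial.C ρ * X 1),
        MvPolynomial.C A * (X 0 - MvPolynomial.C ρ * X 1) * (MvPolynomial.C mm * X 0 + MvPolynomial.C nn * X 1) + MvPolynomial.C α * X 1 ^ 2,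
        ![i ρ, 1], ?_, ?_, ?_, ?_⟩
      · rw [hQp, hcp, hc0, hc1, show c2 = C * mm + B * nn + α by rw [hα]; ring, show c3 = C * nn + β by rw [hβ]; ring,
          show β = -α * ρ by linear_combination hlρ, hC, hB]
        simp only [map_add, map_mul, map_neg, map_pow, map_ofNat]; ring
      · intro h0
        have := congrArg (eval ![1, 0]) h0
        simp [hA] at this
      · simp [i]
      · simp [i, hα0]

end BinaryField

section Points

variable {k : Type*} [Field k] [CharZero k] (F : MvPolynomial (Fin 4) k) (hF : F.IsHomogeneous 3)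

theorem exists_eval_ne_zero {n : ℕ} {p : MvPolynomial (Fin n) k} (hp : p ≠ 0) : ∃ x : Fin n → k, eval x p ≠ 0 := by
  by_contra! h
  exact hp (MvPolynomial.funext fun x => by simpa using h x)

theorem algebraMap_Dv {R : Type*} [CommRing R] [Algebra k R] (x y : Fin 4 → k) :
    Dv F (fun i => algebraMap k R (x i)) (fun i => algebraMap k R (y i)) = algebraMap k R (Dv F x y) :=
  (map_Dv (Algebra.ofId k R) x y).symm

theorem algebraMap_ev {R : Type*} [CommRing R] [Algebra k R] (x : Fin 4 → k) :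
    aeval (fun i => algebraMap k R (x i)) F = algebraMap k R (aeval x F) :=
  (map_ev (Algebra.ofId k R) x F).symm

include hF in
/-- at a singular point -/
theorem exists_avoid_singular (hirr : Irreducible F) {a : Fin 4 → k} (hFa : aeval a F = 0)
    (hsing : ∀ i, aeval a (pderiv i F) = 0) (hcone : ¬ ∃ v : Fin 4 → k, v ≠ 0 ∧ ∑ i, v i • pderiv i F = 0) (ha : a ≠ 0)
    {M : ℕ} (Ls : Fin M → ((Fin 4 → k) →ₗ[k] k)) (hLs : ∀ m, Ls m ≠ 0) :
    ∃ x, aeval x F = 0 ∧ ∀ m, Ls m x ≠ 0 := by
  classical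
  let R := MvPolynomial (Fin 4) k
  let P : R := ∑ i, a i • pderiv i F
  have hP : P ≠ 0 := fun h => hcone ⟨a, ha, h⟩
  let lin : ((Fin 4 → k) →ₗ[k] k) → R := fun L => ∑ i, C (L (Pi.single i 1)) * X i
  have hlin : ∀ (L : (Fin 4 → k) →ₗ[k] k) x, eval x (lin L) = L x := by
    intro L x
    simp only [lin, map_sum, map_mul, eval_C, eval_X]
    conv_rhs => rw [pi_eq_sum_univ' x, map_sum]
    exact Finset.sum_congr rfl fun i _ => by rw [map_smul, smul_eq_mul, mul_comm]
  have hne : ∀ m, lin (Ls m) * P - F * C (Ls m a) ≠ 0 := by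
    intro m h
    rcases eq_or_ne (Ls m a) 0 with h0 | h0
    · rw [h0, map_zero, mul_zero, sub_zero, mul_eq_zero] at h
      rcases h with h | h
      · exact hLs m (LinearMap.ext fun x => by rw [← hlin, h, map_zero]; rfl)
      · exact hP h
    · have e : F = lin (Ls m) * (C (Ls m a)⁻¹ * P) := by
        rw [mul_left_comm, sub_eq_zero.1 h, mul_left_comm, ← map_mul, inv_mul_cancel₀ h0, map_one, mul_one]
      have hc : ∀ p : R, constantCoeff p = 0 → ¬ IsUnit p := fun p hp hu => not_isUnit_zero (hp ▸ hu.map constantCoeff)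
      refine (hirr.isUnit_or_isUnit e).elim (hc _ (by simp [lin])) (hc _ ?_)
      have : constantCoeff P = 0 := by
        have hh : ∀ i, constantCoeff (pderiv i F) = 0 := fun i =>
          (hF.pderiv (i := i)).coeff_eq_zero (d := 0) (by simp)
        simp only [P, map_sum, ← C_mul', map_mul, hh, mul_zero, Finset.sum_const_zero]
      rw [map_mul, this, mul_zero]
  obtain ⟨x, hx⟩ := exists_eval_ne_zero (Finset.prod_ne_zero_iff.2 fun m (_ : m ∈ Finset.univ) => hne m)
  rw [map_prod, Finset.prod_ne_zero_iff] at hx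
  have hPx : eval x P = Dv F x a := by
    simp only [P, map_sum, Dv, ← C_mul', map_mul, eval_C, aeval_eq_eval]
  refine ⟨Dv F x a • x + (-aeval x F) • a, ?_, fun m => ?_⟩
  · rw [aeval_line hF, hFa, show Dv F a x = 0 by simp [Dv, hsing]]; ring
  · have := hx m (Finset.mem_univ m)
    rw [map_sub, map_mul, map_mul, hlin, hPx, eval_C] at this
    rw [map_add, map_smul, map_smul, smul_eq_mul, smul_eq_mul]
    intro h; exact this (by rw [← aeval_eq_eval]; linear_combination h)

/-- data at a smooth point which is not a T-point -/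
structure Frame where
  a : Fin 4 → k
  e : Fin 3 → (Fin 4 → k)
  Fa : aeval a F = 0
  g0 : Dv F a (e 0) = 1
  g1 : Dv F a (e 1) = 0
  g2 : Dv F a (e 2) = 0
  basis : ∀ L : (Fin 4 → k) →ₗ[k] k, L a = 0 → L (e 0) = 0 → L (e 1) = 0 → L (e 2) = 0 → L = 0
  ndiv : NDiv (Dv F (e 1) a) (Dv F (e 1 + e 2) a - Dv F (e 1) a - Dv F (e 2) a) (Dv F (e 2) a)
    (aeval (e 1) F) (Dv F (e 1) (e 2)) (Dv F (e 2) (e 1)) (aeval (e 2) F)

include hF in
/-- the rational points are not contained in finitely many planes -/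
theorem exists_avoid_smooth (fr : Frame F) {M : ℕ} (Ls : Fin M → ((Fin 4 → k) →ₗ[k] k)) (hLs : ∀ m, Ls m ≠ 0) :
    ∃ x, aeval x F = 0 ∧ ∀ m, Ls m x ≠ 0 := by
  classical
  obtain ⟨a, e, hFa, g0, g1, g2, hbasis, hnd⟩ := fr
  let L := AlgebraicClosure k
  let R := MvPolynomial (Fin 2) k
  obtain ⟨n, d, w0, hnd', hn0, hwn, hwd⟩ := exists_param hnd L
  let ι : (Fin 4 → k) → (Fin 4 → R) := fun v i => algebraMap k R (v i)
  have hιD : ∀ x y, Dv F (ι x) (ι y) = algebraMap k R (Dv F x y) := fun x y => algebraMap_Dv F x y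
  have hιF : ∀ x, aeval (ι x) F = algebraMap k R (aeval x F) := fun x => algebraMap_ev F x
  let U : Fin 4 → R := (X 0 : R) • ι (e 1) + (X 1 : R) • ι (e 2)
  have hUa : Dv F (ι a) U = 0 := by
    simp only [U, Dv_comb, hιD, g1, g2, map_zero, mul_zero, add_zero]
  set A := Dv F (e 1) a
  set B := Dv F (e 1 + e 2) a - Dv F (e 1) a - Dv F (e 2) a
  set C' := Dv F (e 2) a
  set Qp : R := C A * X 0 ^ 2 + C B * X 0 * X 1 + C C' * X 1 ^ 2 with hQp
  set cp : R := C (aeval (e 1) F) * X 0 ^ 3 + C (Dv F (e 1) (e 2)) * X 0 ^ 2 * X 1 + C (Dv F (e 2) (e 1)) * X 0 * X 1 ^ 2 +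
    C (aeval (e 2) F) * X 1 ^ 3 with hcp
  have hUQ : Dv F U (ι a) = Qp := by
    have e12 : ι (e 1) + ι (e 2) = ι (e 1 + e 2) := funext fun i => (map_add _ _ _).symm
    simp only [U, Dv_line hF, e12, hιD, hQp, A, B, C', map_sub, ← MvPolynomial.algebraMap_eq]; ring
  have hUc : aeval U F = cp := by
    simp only [U, aeval_line hF, hιD, hιF, hcp, ← MvPolynomial.algebraMap_eq]; ring
  let b : Fin 4 → R := n • U + (-d) • ι a
  have hFb : aeval b F = 0 := by
    simp only [b, aeval_line hF, hUc, hUQ, hUa, hιF, hFa, map_zero]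
    linear_combination n ^ 2 * hnd'
  have hba : Dv F b (ι a) = n ^ 2 * Qp := by
    simp only [b, Dv_line_self hF, hUQ, hUa, hιF, hFa, map_zero]; ring
  set γ := Dv F b (ι (e 0))
  let v : Fin 2 → (Fin 4 → R) := fun j => γ • ι (e j.succ) + (-Dv F b (ι (e j.succ))) • ι (e 0)
  let A' := Dv F (v 0) b
  let B' := Dv F (v 0 + v 1) b - Dv F (v 0) b - Dv F (v 1) b
  let C'' := Dv F (v 1) b
  let c0' := aeval (v 0) F
  let c1' := Dv F (v 0) (v 1)
  let c2' := Dv F (v 1) (v 0)
  let c3' := aeval (v 1) F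
  -- specialisation at the root
  set φ : R →ₐ[k] L := aeval w0 with hφ
  let j : (Fin 4 → k) → (Fin 4 → L) := fun v i => algebraMap k L (v i)
  have hjD : ∀ x y, Dv F (j x) (j y) = algebraMap k L (Dv F x y) := fun x y => algebraMap_Dv F x y
  have hjF : ∀ x, aeval (j x) F = algebraMap k L (aeval x F) := fun x => algebraMap_ev F x
  have hφι : ∀ x, (fun i => φ (ι x i)) = j x := fun x => funext fun i => φ.commutes (x i)
  set δ := φ d with hδ
  have hφb : (fun i => φ (b i)) = (-δ) • j a := funext fun i => by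
    simp only [b, Pi.add_apply, Pi.smul_apply, smul_eq_mul, map_add, map_mul, map_neg, hφ] at *
    rw [hwn, zero_mul, zero_add]
    exact congrArg _ (congrFun (hφι a) i)
  have hφD : ∀ x, φ (Dv F b (ι x)) = δ ^ 2 * algebraMap k L (Dv F a x) := fun x => by
    rw [map_Dv, hφb, hφι, Dv_smul hF, hjD, neg_sq]
  have hφγ : φ γ = δ ^ 2 := by rw [hφD, g0, map_one, mul_one]
  have hg : ∀ t : Fin 2, Dv F a (e t.succ) = 0 := fun t => by fin_cases t <;> assumption
  have hφv : ∀ t : Fin 2, (fun i => φ (v t i)) = δ ^ 2 • j (e t.succ) := fun t => funext fun i => by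
    simp only [v, Pi.add_apply, Pi.smul_apply, smul_eq_mul, map_add, map_mul, map_neg, hφγ, hφD, hg t, map_zero, mul_zero,
      neg_zero, zero_mul, add_zero]
    exact congrArg _ (congrFun (hφι _) i)
  have sA : ∀ t : Fin 2, φ (Dv F (v t) b) = -δ ^ 5 * algebraMap k L (Dv F (e t.succ) a) := fun t => by
    rw [map_Dv, hφb, hφv, Dv_smul hF, show (-δ) • j a = (-δ) • j a + (0 : L) • j a by simp, Dv_comb, hjD]; ring
  have sB : φ B' = -δ ^ 5 * algebraMap k L B := by
    simp only [B', map_sub, sA, B, map_add, map_mul]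
    rw [map_Dv, hφb, show (fun i => φ ((v 0 + v 1) i)) = δ ^ 2 • j (e 1 + e 2) from funext fun i => by
      simp only [Pi.add_apply, map_add, congrFun (hφv 0) i, congrFun (hφv 1) i, Pi.smul_apply, smul_eq_mul, j]
      simp only [Fin.succ_zero_eq_one, Fin.succ_one_eq_two]; ring,
      Dv_smul hF, show (-δ) • j a = (-δ) • j a + (0 : L) • j a by simp, Dv_comb, hjD]
    simp only [Fin.succ_zero_eq_one, Fin.succ_one_eq_two]; ring
  have sc : ∀ t u : Fin 2, φ (Dv F (v t) (v u)) = δ ^ 6 * algebraMap k L (Dv F (e t.succ) (e u.succ)) := fun t u => by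
    rw [map_Dv, hφv, hφv, Dv_smul hF, show δ ^ 2 • j (e u.succ) = δ ^ 2 • j (e u.succ) + (0 : L) • j a by simp, Dv_comb, hjD]; ring
  have sF : ∀ t : Fin 2, φ (aeval (v t) F) = δ ^ 6 * algebraMap k L (aeval (e t.succ) F) := fun t => by
    rw [map_ev, hφv, show δ ^ 2 • j (e t.succ) = δ ^ 2 • j (e t.succ) + (0 : L) • j a by simp, aeval_line hF, hjF]; ring
  obtain ⟨m', hm', hm'v⟩ : ∃ m' : R, m' ≠ 0 ∧ ∀ w : Fin 2 → k, eval w m' ≠ 0 →
      NDiv (eval w A') (eval w B') (eval w C'') (eval w c0') (eval w c1') (eval w c2') (eval w c3') := by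
    have hsc : ∀ (m' : R) (z : k), φ m' = δ ^ 16 * algebraMap k L z → z ≠ 0 → m' ≠ 0 := fun m' z h hz h0 => by
      rw [h0, map_zero, eq_comm] at h
      exact mul_ne_zero (pow_ne_zero _ hwd) ((map_ne_zero _).2 hz) h
    rcases hnd with h | h | h | h
    · refine ⟨A' * A' * c2' - A' * B' * c1' + (B' * B' - A' * C'') * c0', hsc _ _ ?_ h, fun w hw => Or.inl (by simpa using hw)⟩
      simp only [A', C'', c0', c1', c2', map_add, map_sub, map_mul, sA, sB, sc, sF, Fin.succ_zero_eq_one, Fin.succ_one_eq_two]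
      ring
    · refine ⟨A' * A' * c3' - A' * C'' * c1' + B' * C'' * c0', hsc _ _ ?_ h, fun w hw => Or.inr (Or.inl (by simpa using hw))⟩
      simp only [A', C'', c0', c1', c3', map_add, map_sub, map_mul, sA, sB, sc, sF, Fin.succ_zero_eq_one, Fin.succ_one_eq_two]
      ring
    · refine ⟨B' * B' * c3' - B' * C'' * c2' + C'' * C'' * c1' - A' * C'' * c3', hsc _ _ ?_ h, fun w hw => Or.inr (Or.inr (Or.inl (by simpa using hw)))⟩
      simp only [A', C'', c1', c2', c3', map_add, map_sub, map_mul, sA, sB, sc, sF, Fin.succ_zero_eq_one, Fin.succ_one_eq_two]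
      ring
    · refine ⟨A' * (B' * c3' - C'' * c2') + C'' * C'' * c0', hsc _ _ ?_ h, fun w hw => Or.inr (Or.inr (Or.inr (by simpa using hw)))⟩
      simp only [A', C'', c0', c2', c3', map_add, map_sub, map_mul, sA, sB, sc, sF, Fin.succ_zero_eq_one, Fin.succ_one_eq_two]
      ring
  have hQ0 : Qp ≠ 0 := by
    intro h0
    refine ne_zero_of_NDiv hnd ⟨?_, ?_, ?_⟩
    · simpa [hQp] using congrArg (eval ![1, 0]) h0
    · have e1 := congrArg (eval ![1, 1]) h0
      have e2 := congrArg (eval ![1, 0]) h0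
      have e3 := congrArg (eval ![0, 1]) h0
      simp [hQp] at e1 e2 e3
      linear_combination e1 - e2 - e3
    · simpa [hQp] using congrArg (eval ![0, 1]) h0
  -- certificates
  let vec : Fin 3 → (Fin 4 → k) := ![e 1, e 2, a]
  let cert : Fin M → Fin 3 → R := fun m t => γ * C (Ls m (vec t)) - Dv F b (ι (vec t)) * C (Ls m (e 0))
  have hcert : ∀ m, ∃ t, cert m t ≠ 0 := by
    intro m
    by_contra! hall
    have h1 : ∀ t, algebraMap k L (Ls m (vec t)) = 0 := fun t => by
      have := congrArg φ (hall t)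
      simp only [cert, map_sub, map_mul, hφγ, hφD, map_zero] at this
      have hz : Dv F a (vec t) = 0 := by
        fin_cases t
        · exact g1
        · exact g2
        · show Dv F a a = 0
          rw [Dv_self hF, hFa, mul_zero]
      rw [hz, map_zero, mul_zero, zero_mul, sub_zero, mul_eq_zero] at this
      have := this.resolve_left (pow_ne_zero _ hwd)
      rwa [hφ, aeval_C] at this
    have hz : ∀ t, Ls m (vec t) = 0 := fun t => (map_eq_zero _).1 (h1 t)
    have h0 : Ls m (e 0) ≠ 0 := fun h0 => hLs m (hbasis _ (by simpa [vec] using hz 2) h0 (by simpa [vec] using hz 0) (by simpa [vec] using hz 1))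
    have := hall 2
    simp only [cert, hz 2, map_zero, mul_zero, zero_sub, neg_eq_zero, mul_eq_zero, C_eq_zero, h0, or_false] at this
    rw [show vec 2 = a from rfl, hba] at this
    rcases this with h' | h'
    · exact mul_ne_zero (pow_ne_zero _ hn0) hQ0 h'
    · exact h0 (C_eq_zero.1 h')
  choose t ht using hcert
  have hd0 : d ≠ 0 := fun h => hwd (by rw [hδ, h, map_zero])
  obtain ⟨w, hw⟩ := exists_eval_ne_zero (p := m' * d * ∏ m, cert m (t m))
    (mul_ne_zero (mul_ne_zero hm' hd0) (Finset.prod_ne_zero_iff.2 fun m _ => ht m))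
  rw [map_mul, map_mul, map_prod, mul_ne_zero_iff, mul_ne_zero_iff, Finset.prod_ne_zero_iff] at hw
  obtain ⟨⟨hwm, hwd'⟩, hwc⟩ := hw
  -- the point and its tangent plane
  set ψ : R →ₐ[k] k := aeval w with hψ
  have hψe : ∀ p : R, ψ p = eval w p := fun p => by rw [hψ, aeval_eq_eval]
  have hψι : ∀ x, (fun i => ψ (ι x i)) = x := fun x => funext fun i => ψ.commutes (x i)
  set b0 : Fin 4 → k := fun i => ψ (b i) with hb0
  set w1 : Fin 4 → k := fun i => ψ (v 0 i) with hw1
  set w2 : Fin 4 → k := fun i => ψ (v 1 i) with hw2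
  have hFb0 : aeval b0 F = 0 := by rw [hb0, ← map_ev, hFb, map_zero]
  have hbv : ∀ t : Fin 2, Dv F b (v t) = 0 := fun t => by simp only [v, Dv_comb, γ]; ring
  have hg1 : Dv F b0 w1 = 0 := by rw [hb0, hw1, ← map_Dv, hbv, map_zero]
  have hg2 : Dv F b0 w2 = 0 := by rw [hb0, hw2, ← map_Dv, hbv, map_zero]
  have hnd2 := hm'v w hwm
  simp only [← hψe] at hnd2
  set qA := ψ A'; set qB := ψ B'; set qC := ψ C''
  set k0 := ψ c0'; set k1 := ψ c1'; set k2 := ψ c2'; set k3 := ψ c3'
  have eA : Dv F w1 b0 = qA := by rw [hw1, hb0, ← map_Dv]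
  have eC : Dv F w2 b0 = qC := by rw [hw2, hb0, ← map_Dv]
  have eB : Dv F (w1 + w2) b0 - Dv F w1 b0 - Dv F w2 b0 = qB := by
    simp only [qB, B', map_sub, map_Dv, Pi.add_apply, map_add]; rfl
  have e0 : aeval w1 F = k0 := by rw [hw1, ← map_ev]
  have e1 : Dv F w1 w2 = k1 := by rw [hw1, hw2, ← map_Dv]
  have e2 : Dv F w2 w1 = k2 := by rw [hw1, hw2, ← map_Dv]
  have e3 : aeval w2 F = k3 := by rw [hw2, ← map_ev]
  have hL : ∀ m, ¬ (Ls m b0 = 0 ∧ Ls m w1 = 0 ∧ Ls m w2 = 0) := by
    rintro m ⟨hb, h1, h2⟩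
    have hv : ∀ (t : Fin 2), ψ γ * Ls m (e t.succ) - ψ (Dv F b (ι (e t.succ))) * Ls m (e 0) = Ls m (fun i => ψ (v t i)) := fun t => by
      rw [show (fun i => ψ (v t i)) = ψ γ • e t.succ + (-ψ (Dv F b (ι (e t.succ)))) • e 0 from funext fun i => by
        simp only [v, Pi.add_apply, Pi.smul_apply, smul_eq_mul, map_add, map_mul, map_neg, congrFun (hψι _) i],
        map_add, map_smul, map_smul, smul_eq_mul, smul_eq_mul]
      ring
    have hc := hwc m (Finset.mem_univ _)
    refine hc ?_
    simp only [← hψe, cert, map_sub, map_mul]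
    rw [show ∀ z : k, ψ (C z) = z from fun z => ψ.commutes z, show ∀ z : k, ψ (C z) = z from fun z => ψ.commutes z]
    have k1' := (hv 0).trans h1
    have k2' := (hv 1).trans h2
    simp only [Fin.succ_zero_eq_one, Fin.succ_one_eq_two] at k1' k2'
    have hta : ∀ t, ψ γ * Ls m (vec t) - ψ (Dv F b (ι (vec t))) * Ls m (e 0) = 0 := by
      intro t
      fin_cases t
      · exact k1'
      · exact k2'
      · show ψ γ * Ls m a - ψ (Dv F b (ι a)) * Ls m (e 0) = 0
        have hb1 : b0 = (ψ n * ψ (X 0)) • e 1 + (ψ n * ψ (X 1)) • e 2 + (-ψ d) • a := funext fun i => by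
          simp only [hb0, b, U, Pi.add_apply, Pi.smul_apply, smul_eq_mul, map_add, map_mul, map_neg, congrFun (hψι _) i]; ring
        have hLb := hb
        rw [hb1] at hLb
        simp only [map_add, map_smul, smul_eq_mul] at hLb
        have hgb : ψ n * ψ (X 0) * ψ (Dv F b (ι (e 1))) + ψ n * ψ (X 1) * ψ (Dv F b (ι (e 2))) + -ψ d * ψ (Dv F b (ι a)) = 0 := by
          have h3 : Dv F b b = 0 := by rw [Dv_self hF, hFb, mul_zero]
          have h4 : Dv F b b = n * (X 0 * Dv F b (ι (e 1)) + X 1 * Dv F b (ι (e 2))) + -d * Dv F b (ι a) := by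
            conv_lhs => arg 3; simp only [b, U]
            rw [Dv_comb, Dv_comb]
          have h5 := congrArg ψ (h4.symm.trans h3)
          simp only [map_add, map_mul, map_neg, map_zero] at h5
          linear_combination h5
        have hd' : ψ d ≠ 0 := by rw [hψe]; exact hwd'
        refine (mul_eq_zero.1 ?_).resolve_left hd'
        linear_combination (-(ψ γ)) * hLb + Ls m (e 0) * hgb + ψ n * ψ (X 0) * k1' + ψ n * ψ (X 1) * k2'
    exact hta (t m)
  -- the residual parametrisation
  let Qu : R := C qA * X 0 ^ 2 + C qB * X 0 * X 1 + C qC * X 1 ^ 2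
  let cu : R := C k0 * X 0 ^ 3 + C k1 * X 0 ^ 2 * X 1 + C k2 * X 0 * X 1 ^ 2 + C k3 * X 1 ^ 3
  have hLu : ∀ m, -cu * C (Ls m b0) + Qu * (C (Ls m w1) * X 0 + C (Ls m w2) * X 1) ≠ 0 := by
    intro m h
    have p0 := congrArg (eval ![1, 0]) h
    have p1 := congrArg (eval ![0, 1]) h
    have p2 := congrArg (eval ![1, 1]) h
    have p3 := congrArg (eval ![1, -1]) h
    simp [cu, Qu] at p0 p1 p2 p3
    have c1e : k1 * Ls m b0 = qB * Ls m w1 + qA * Ls m w2 :=
      mul_left_cancel₀ (two_ne_zero (α := k)) (by linear_combination -p2 + p3 + 2 * p1)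
    have c2e : k2 * Ls m b0 = qC * Ls m w1 + qB * Ls m w2 :=
      mul_left_cancel₀ (two_ne_zero (α := k)) (by linear_combination -p2 - p3 + 2 * p0)
    rcases eq_or_ne (Ls m b0) 0 with hb | hb
    · refine hL m ⟨hb, ?_⟩
      rw [hb, mul_zero, neg_zero, zero_add] at p0
      rw [hb, mul_zero, neg_zero, zero_add] at p1
      rw [hb, mul_zero] at c1e c2e
      have hq0 := ne_zero_of_NDiv hnd2
      by_cases hA : qA = 0
      · by_cases hB : qB = 0
        · have hC : qC ≠ 0 := fun hC => hq0 ⟨hA, hB, hC⟩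
          rw [hB, zero_mul, add_zero] at c2e
          exact ⟨(mul_eq_zero.1 c2e.symm).resolve_left hC, (mul_eq_zero.1 p1).resolve_left hC⟩
        · rw [hA, zero_mul, add_zero] at c1e
          have h1 := (mul_eq_zero.1 c1e.symm).resolve_left hB
          rw [h1, mul_zero, zero_add] at c2e
          exact ⟨h1, (mul_eq_zero.1 c2e.symm).resolve_left hB⟩
      · have h1 := (mul_eq_zero.1 p0).resolve_left hA
        rw [h1, mul_zero, zero_add] at c1e
        exact ⟨h1, (mul_eq_zero.1 c1e.symm).resolve_left hA⟩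
    · refine not_dvd_of_NDiv hnd2 (Ls m w1 / Ls m b0) (Ls m w2 / Ls m b0) ⟨?_, ?_, ?_, ?_⟩ <;> field_simp
      · linear_combination -p0
      · linear_combination c1e
      · linear_combination c2e
      · linear_combination -p1
  obtain ⟨u, hu⟩ := exists_eval_ne_zero (Finset.prod_ne_zero_iff.2 fun m (_ : m ∈ Finset.univ) => hLu m)
  rw [map_prod, Finset.prod_ne_zero_iff] at hu
  set vu := u 0 • w1 + u 1 • w2 with hvu
  refine ⟨(-eval u cu) • b0 + eval u Qu • vu, ?_, fun m => ?_⟩
  · have h1 : Dv F b0 vu = 0 := by rw [hvu, Dv_comb, hg1, hg2]; ring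
    have h2 : Dv F vu b0 = eval u Qu := by
      rw [hvu, Dv_line hF, eA, eC, show Dv F (w1 + w2) b0 - qA - qC = qB by rw [← eB, eA, eC]]
      simp [Qu]; ring
    have h3 : aeval vu F = eval u cu := by
      rw [hvu, aeval_line hF, e0, e1, e2, e3]
      simp [cu]; ring
    rw [aeval_line hF, hFb0, h1, h2, h3]; ring
  · intro h
    refine hu m (Finset.mem_univ _) ?_
    rw [hvu] at h
    simp only [map_add, map_smul, smul_eq_mul] at h
    simp only [map_add, map_mul, map_neg, eval_C, eval_X]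
    linear_combination h

end Points

end Groth.Agent.CubicPts
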