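import Mathlib

/-! A real polynomial of odd degree has a root. -/

namespace Groth.Agent.CubicPts

open Polynomial

theorem exists_real_root (p : Polynomial ℝ) (hp : Odd p.natDegree) : ∃ x : ℝ, p.eval x = 0 := by
  by_contra! h
  have hirr : ∀ q : Polynomial ℝ, Irreducible q → q.natDegree ≤ 2 := fun q hq => Irreducible.natDegree_le_two hq
  have key : ∀ q : Polynomial ℝ, q ∣ p → q ≠ 0 → Even q.natDegree := by
    intro q
    induction q using UniqueFactorizationMonoid.induction_on_prime with
    | h₁ => exact fun _ h => absurd rfl h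
    | h₂ a ha => intro _ _; rw [Polynomial.natDegree_eq_zero_of_isUnit ha]; exact ⟨0, rfl⟩
    | h₃ a b ha hb ih =>
      intro hd _
      have hb0 : b.natDegree ≤ 2 := hirr b hb.irreducible
      have hb1 : b.natDegree ≠ 1 := fun h1 => by
        obtain ⟨r, hr⟩ := Polynomial.exists_root_of_degree_eq_one (Polynomial.degree_eq_iff_natDegree_eq hb.ne_zero |>.2 h1)
        exact h r (Polynomial.eval_eq_zero_of_dvd_of_eval_eq_zero ((dvd_mul_right b a).trans hd) hr)
      have hb2 : 0 < b.natDegree := hb.irreducible.natDegree_pos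
      rw [Polynomial.natDegree_mul hb.ne_zero ha, show b.natDegree = 2 by omega]
      exact Even.add even_two (ih ((dvd_mul_left a b).trans hd) ha)
  have hp0 : p ≠ 0 := fun h0 => by rw [h0] at hp; simp at hp
  exact Nat.not_even_iff_odd.2 hp (key p dvd_rfl hp0)

end Groth.Agent.CubicPts
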