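import Groth.Agent.CubicPts.RatPoints

/-! T-points of a cubic surface and the non-T certificate. -/

set_option autoImplicit false

open MvPolynomial

set_option maxHeartbeats 1000000

namespace Groth.Agent.CubicPts

/-- linear form of the tangent plane -/
noncomputable def tform {K : Type*} [CommRing K] (F : MvPolynomial (Fin 4) K) (b : Fin 4 → K) : MvPolynomial (Fin 4) K :=
  ∑ i, C (eval b (pderiv i F)) * X i

/-- `F` agrees modulo the tangent form with a product of three linear forms -/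
def TP {K : Type*} [CommRing K] (F : MvPolynomial (Fin 4) K) (b : Fin 4 → K) : Prop :=
  ∃ L₁ L₂ L₃ : MvPolynomial (Fin 4) K, L₁.IsHomogeneous 1 ∧ L₂.IsHomogeneous 1 ∧ L₃.IsHomogeneous 1 ∧
    F - L₁ * L₂ * L₃ ∈ Ideal.span {tform F b}

section Minors

variable {k : Type*} [CommRing k] {R : Type*} [CommRing R] [Algebra k R]

/-- the four minors -/
def mnr (A B C c0 c1 c2 c3 : R) : Fin 4 → R :=
  ![A * A * c2 - A * B * c1 + (B * B - A * C) * c0, A * A * c3 - A * C * c1 + B * C * c0,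
    B * B * c3 - B * C * c2 + C * C * c1 - A * C * c3, A * (B * c3 - C * c2) + C * C * c0]

theorem NDiv_iff_mnr {A B C c0 c1 c2 c3 : R} : NDiv A B C c0 c1 c2 c3 ↔ ∃ i, mnr A B C c0 c1 c2 c3 i ≠ 0 := by
  simp [NDiv, mnr, Fin.exists_fin_succ]

variable (F : MvPolynomial (Fin 4) k)

/-- the minors of the plane section through `b` in directions `v`, `w` -/
noncomputable def ndv (b v w : Fin 4 → R) : Fin 4 → R :=
  mnr (Dv F v b) (Dv F (v + w) b - Dv F v b - Dv F w b) (Dv F w b) (aeval v F) (Dv F v w) (Dv F w v) (aeval w F)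

theorem map_ndv {S : Type*} [CommRing S] [Algebra k S] (φ : R →ₐ[k] S) (b v w : Fin 4 → R) (i : Fin 4) :
    φ (ndv F b v w i) = ndv F (fun j => φ (b j)) (fun j => φ (v j)) (fun j => φ (w j)) i := by
  have e : (fun j => φ (v j)) + (fun j => φ (w j)) = fun j => φ ((v + w) j) := funext fun j => (map_add φ _ _).symm
  fin_cases i <;> simp [ndv, mnr, e, map_Dv, map_ev]

theorem ndv_smul (hF : F.IsHomogeneous 3) (d e : R) (b v w : Fin 4 → R) (i : Fin 4) :
    ndv F (d • b) (e • v) (e • w) i = d ^ 2 * e ^ 7 * ndv F b v w i := by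
  have hs : ∀ (s t : R) (x y : Fin 4 → R), Dv F (s • x) (t • y) = s ^ 2 * t * Dv F x y := fun s t x y => by
    rw [show t • y = t • y + (0 : R) • y by simp, Dv_comb, Dv_smul hF]; ring
  have he : ∀ (s : R) (x : Fin 4 → R), aeval (s • x) F = s ^ 3 * aeval x F := fun s x => by
    simpa using aeval_line hF s 0 x x
  fin_cases i <;> simp [ndv, mnr, ← smul_add, hs, he] <;> ring

theorem algebraMap_ndv (b v w : Fin 4 → k) (i : Fin 4) :
    ndv F (fun j => algebraMap k R (b j)) (fun j => algebraMap k R (v j)) (fun j => algebraMap k R (w j)) i =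
      algebraMap k R (ndv F b v w i) :=
  (map_ndv F (Algebra.ofId k R) b v w i).symm

end Minors

variable {K : Type*} [Field K] [CharZero K]

theorem eval_comb_of_deg_one {σ : Type*} [Fintype σ] {k : Type*} [CommRing k] {L : MvPolynomial σ k} (hL : L.IsHomogeneous 1)
    (x y : σ → k) (a b : k) : eval (a • x + b • y) L = a * eval x L + b * eval y L := by
  classical
  rw [L.as_sum, map_sum, map_sum, map_sum, Finset.mul_sum, Finset.mul_sum, ← Finset.sum_add_distrib]
  refine Finset.sum_congr rfl fun d hd => ?_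
  have hcard : Multiset.card (Finsupp.toMultiset d) = 1 := by
    have h := hL (mem_support_iff.1 hd)
    rw [Finsupp.card_toMultiset]
    simp [Finsupp.weight_apply] at h
    exact h
  obtain ⟨i, hi⟩ := Multiset.card_eq_one.1 hcard
  have hd' : d = Finsupp.single i 1 := by
    rw [← Finsupp.toMultiset_toFinsupp d, hi]; simp
  subst hd'
  simp [eval_monomial]; ring

theorem aeval_plane {k : Type*} [CommRing k] {R : Type*} [CommRing R] [Algebra k R] {F : MvPolynomial (Fin 4) k}
    (hF : F.IsHomogeneous 3) {b v w : Fin 4 → R}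
    (hFb : aeval b F = 0) (hv : Dv F b v = 0) (hw : Dv F b w = 0) (x y z : R) :
    aeval (x • b + (1 : R) • (y • v + z • w)) F =
      x * (Dv F v b * y ^ 2 + (Dv F (v + w) b - Dv F v b - Dv F w b) * y * z + Dv F w b * z ^ 2) +
      (aeval v F * y ^ 3 + Dv F v w * y ^ 2 * z + Dv F w v * y * z ^ 2 + aeval w F * z ^ 3) := by
  rw [aeval_line hF, Dv_comb, hv, hw, hFb, Dv_line hF, aeval_line hF]; ring

/-- the certificate excludes a T-point -/
theorem not_TP_of_ndv {F : MvPolynomial (Fin 4) K} (hF : F.IsHomogeneous 3) {b v w : Fin 4 → K}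
    (hFb : eval b F = 0) (hv : Dv F b v = 0) (hw : Dv F b w = 0) {i : Fin 4} (hi : ndv F b v w i ≠ 0) :
    ¬ TP F b := by
  have hnd : NDiv (Dv F v b) (Dv F (v + w) b - Dv F v b - Dv F w b) (Dv F w b) (aeval v F) (Dv F v w) (Dv F w v) (aeval w F) :=
    NDiv_iff_mnr.2 ⟨i, hi⟩
  rintro ⟨L₁, L₂, L₃, h1, h2, h3, hmem⟩
  obtain ⟨r, hr⟩ := Ideal.mem_span_singleton'.1 hmem
  have hFb' : aeval b F = 0 := by rw [aeval_eq_eval]; exact hFb
  set A := Dv F v b
  set B := Dv F (v + w) b - Dv F v b - Dv F w b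
  set C' := Dv F w b
  set c0 := aeval v F
  set c1 := Dv F v w
  set c2 := Dv F w v
  set c3 := aeval w F
  have htf : ∀ p, eval p (tform F b) = Dv F b p := fun p => by
    simp [tform, Dv, aeval_eq_eval, mul_comm]
  set α₁ := eval b L₁; set α₂ := eval b L₂; set α₃ := eval b L₃
  let l₁ : K → K → K := fun y z => y * eval v L₁ + z * eval w L₁
  let l₂ : K → K → K := fun y z => y * eval v L₂ + z * eval w L₂
  let l₃ : K → K → K := fun y z => y * eval v L₃ + z * eval w L₃
  have key : ∀ x y z : K, x * (A * y ^ 2 + B * y * z + C' * z ^ 2) + (c0 * y ^ 3 + c1 * y ^ 2 * z + c2 * y * z ^ 2 + c3 * z ^ 3) =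
      (x * α₁ + l₁ y z) * ((x * α₂ + l₂ y z) * (x * α₃ + l₃ y z)) := by
    intro x y z
    have h0 : eval (x • b + (1 : K) • (y • v + z • w)) (tform F b) = 0 := by
      rw [htf, Dv_comb, Dv_comb, hv, hw, Dv_self hF, hFb']; ring
    have := congrArg (eval (x • b + (1 : K) • (y • v + z • w))) hr
    rw [map_mul, h0, mul_zero, map_sub, map_mul, map_mul] at this
    rw [← aeval_plane hF hFb' hv hw x y z, aeval_eq_eval, eq_comm, ← sub_eq_zero]
    simp only [eval_comb_of_deg_one h1, eval_comb_of_deg_one h2, eval_comb_of_deg_one h3, one_mul] at this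
    simp only [l₁, l₂, l₃]
    linear_combination this
  have hQ : ∀ y z, A * y ^ 2 + B * y * z + C' * z ^ 2 = α₁ * l₂ y z * l₃ y z + α₂ * l₁ y z * l₃ y z + α₃ * l₁ y z * l₂ y z := by
    intro y z
    have e1 := key 1 y z; have e2 := key (-1) y z; have e3 := key 2 y z; have e0 := key 0 y z
    linear_combination e1 - (1 / 3) * e2 - (1 / 6) * e3 - (1 / 2) * e0
  have h12 : ∀ y z, α₁ * α₂ * l₃ y z + α₁ * α₃ * l₂ y z + α₂ * α₃ * l₁ y z = 0 := by
    intro y z
    have e1 := key 1 y z; have e2 := key (-1) y z; have e0 := key 0 y z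
    linear_combination (-1 / 2 : K) * (e1 + e2) + e0
  have h123 : α₁ * α₂ * α₃ = 0 := by
    have e1 := key 1 0 0
    simp [l₁, l₂, l₃] at e1
    rw [mul_assoc]
    rcases e1 with h | h | h <;> simp [h]
  have hc : ∀ y z, c0 * y ^ 3 + c1 * y ^ 2 * z + c2 * y * z ^ 2 + c3 * z ^ 3 = l₁ y z * (l₂ y z * l₃ y z) := by
    intro y z
    have e0 := key 0 y z
    linear_combination e0
  -- reduce to one nonvanishing coefficient
  have final : ∀ (α : K) (u v' w' : K × K),
      (∀ y z : K, A * y ^ 2 + B * y * z + C' * z ^ 2 = α * ((y * v'.1 + z * v'.2) * (y * w'.1 + z * w'.2))) →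
      (∀ y z : K, c0 * y ^ 3 + c1 * y ^ 2 * z + c2 * y * z ^ 2 + c3 * z ^ 3 =
        (y * u.1 + z * u.2) * ((y * v'.1 + z * v'.2) * (y * w'.1 + z * w'.2))) → False := by
    intro α u v' w' hq hc
    have q0 := hq 1 0; have q1 := hq 0 1; have q2 := hq 1 1
    simp at q0 q1 q2
    have qB : B = α * (v'.1 * w'.2 + v'.2 * w'.1) := by linear_combination q2 - q0 - q1
    by_cases hα : α = 0
    · exact ne_zero_of_NDiv hnd ⟨by rw [q0, hα, zero_mul], by rw [qB, hα, zero_mul], by rw [q1, hα, zero_mul]⟩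
    have d0 := hc 1 0; have d3 := hc 0 1; have d1 := hc 1 1; have d2 := hc 1 (-1)
    simp at d0 d3 d1 d2
    have dd1 : c1 = u.1 * (v'.1 * w'.2 + v'.2 * w'.1) + u.2 * (v'.1 * w'.1) := by
      linear_combination (1 / 2 : K) * d1 - (1 / 2 : K) * d2 - d3
    have dd2 : c2 = u.1 * (v'.2 * w'.2) + u.2 * (v'.1 * w'.2 + v'.2 * w'.1) := by
      linear_combination (1 / 2 : K) * d1 + (1 / 2 : K) * d2 - d0
    refine not_dvd_of_NDiv hnd (u.1 / α) (u.2 / α) ⟨?_, ?_, ?_, ?_⟩
    · rw [d0, q0]; field_simp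
    · rw [dd1, qB, q0]; field_simp
    · rw [dd2, qB, q1]; field_simp
    · rw [d3, q1]; field_simp
  have hzero : ∀ (α β : K) (u v' w' : K × K),
      (∀ y z : K, α * β * (y * u.1 + z * u.2) = 0) →
      (∀ y z : K, A * y ^ 2 + B * y * z + C' * z ^ 2 = α * ((y * u.1 + z * u.2) * (y * w'.1 + z * w'.2)) + β * ((y * u.1 + z * u.2) * (y * v'.1 + z * v'.2))) →
      (∀ y z : K, c0 * y ^ 3 + c1 * y ^ 2 * z + c2 * y * z ^ 2 + c3 * z ^ 3 =
        (y * u.1 + z * u.2) * ((y * v'.1 + z * v'.2) * (y * w'.1 + z * w'.2))) → False := by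
    intro α β u v' w' h hq hc
    rcases eq_or_ne α 0 with hα | hα
    · exact final β w' u v' (fun y z => by rw [hq, hα]; ring) (fun y z => by rw [hc]; ring)
    rcases eq_or_ne β 0 with hβ | hβ
    · exact final α v' u w' (fun y z => by rw [hq, hβ]; ring) (fun y z => by rw [hc]; ring)
    have hu : ∀ y z : K, y * u.1 + z * u.2 = 0 := fun y z => (mul_eq_zero.1 (h y z)).resolve_left (mul_ne_zero hα hβ)
    exact final 0 0 u v' (fun y z => by rw [hq, hu]; ring) (fun y z => by rw [hc, hu]; ring)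
  rcases mul_eq_zero.1 h123 with h | h
  · rcases mul_eq_zero.1 h with h | h
    · exact hzero α₂ α₃ (eval v L₁, eval w L₁) (eval v L₂, eval w L₂) (eval v L₃, eval w L₃)
        (fun y z => by simpa [h, l₁] using h12 y z) (fun y z => by rw [hQ, h]; simp [l₁, l₂, l₃]; ring) hc
    · exact hzero α₁ α₃ (eval v L₂, eval w L₂) (eval v L₁, eval w L₁) (eval v L₃, eval w L₃)
        (fun y z => by simpa [h, l₂] using h12 y z) (fun y z => by rw [hQ, h]; simp [l₁, l₂, l₃]; ring)
        (fun y z => by rw [hc]; simp [l₁, l₂, l₃]; ring)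
  · exact hzero α₁ α₂ (eval v L₃, eval w L₃) (eval v L₁, eval w L₁) (eval v L₂, eval w L₂)
        (fun y z => by simpa [h, l₃] using h12 y z) (fun y z => by rw [hQ, h]; simp [l₁, l₂, l₃]; ring)
        (fun y z => by rw [hc]; simp [l₁, l₂, l₃]; ring)

end Groth.Agent.CubicPts
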