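import Groth.Agent.CubicPts.Singular
import Groth.Agent.CubicPts.TPoint

/-! Hyperplane sections of a smooth cubic surface are reduced. -/

set_option autoImplicit false

open MvPolynomial

set_option maxHeartbeats 1000000

namespace Groth.Agent.CubicPts

variable {K : Type*} [Field K] [CharZero K] [IsAlgClosed K] {F : MvPolynomial (Fin 4) K}

omit [CharZero K] [IsAlgClosed K] in
theorem eval_comb_of_deg_one' {n : ℕ} {L : MvPolynomial (Fin n) K} (hL : L.IsHomogeneous 1) (t : K) (y : Fin n → K) :
    eval (t • y) L = t * eval y L := by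
  simpa using eval_comb_of_deg_one hL y y t 0

omit [CharZero K] [IsAlgClosed K] in
theorem eval_smul_hom {n : ℕ} {G : MvPolynomial (Fin n) K} {d : ℕ} (hG : G.IsHomogeneous d) (t : K) (y : Fin n → K) :
    eval (fun i => t * y i) G = t ^ d * eval y G := by
  rw [eval_eq, eval_eq, Finset.mul_sum]
  refine Finset.sum_congr rfl fun m hm => ?_
  have := hG (mem_support_iff.1 hm)
  simp [Finsupp.weight_apply, Finsupp.sum] at this
  simp only [mul_pow, Finset.prod_mul_distrib, Finset.prod_pow_eq_pow_sum, this]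
  ring

omit [CharZero K] [IsAlgClosed K] in
theorem pi3_eq_basis (x : Fin 3 → K) : x = x 0 • Pi.single 0 1 + x 1 • Pi.single 1 1 + x 2 • Pi.single 2 1 := by
  funext i; fin_cases i <;> simp

/-- a smooth cubic contains no plane -/
theorem no_plane_smooth (hF : F.IsHomogeneous 3)
    (hsm : ∀ b : Fin 4 → K, b ≠ 0 → eval b F = 0 → ∃ i, eval b (pderiv i F) ≠ 0)
    {L : (Fin 4 → K) →ₗ[K] K} (hL : L ≠ 0) (h : ∀ x, L x = 0 → eval x F = 0) : False := by
  classical
  obtain ⟨w, hw⟩ : ∃ w, L w = 1 := by
    obtain ⟨v, hv⟩ : ∃ v, L v ≠ 0 := by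
      by_contra! h0
      exact hL (LinearMap.ext h0)
    exact ⟨(L v)⁻¹ • v, by rw [map_smul, smul_eq_mul, inv_mul_cancel₀ hv]⟩
  have hd : ∀ x y, L x = 0 → L y = 0 → Dv F x y = 0 := by
    intro x y hx hy
    have hh : ∀ r : K, aeval ((1 : K) • x + r • y) F = 0 := fun r => by
      rw [aeval_eq_eval]; exact h _ (by rw [map_add, map_smul, map_smul, hx, hy, smul_zero, smul_zero, add_zero])
    have h1 := hh 1; have h2 := hh (-1); have h3 := hh 0; have h4 := hh 2
    rw [aeval_line hF] at h1 h2 h3 h4
    linear_combination h1 - (1 / 3 : K) * h2 - (1 / 2 : K) * h3 - (1 / 6 : K) * h4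
  obtain ⟨a, b, hab⟩ : ∃ a b : Fin 4 → K, L a = 0 ∧ L b = 0 ∧ LinearIndependent K ![a, b] := by
    have h3 : 2 ≤ Module.finrank K (LinearMap.ker L) := by
      have := LinearMap.finrank_range_add_finrank_ker L
      have h4 : Module.finrank K (LinearMap.range L) ≤ 1 := (Submodule.finrank_le _).trans (by simp)
      simp at this; omega
    obtain ⟨f, hf⟩ := (exists_linearIndependent_of_le_finrank (R := K) (M := LinearMap.ker L) h3)
    have hf' := hf.map' _ (Submodule.ker_subtype _)
    refine ⟨_, _, (f 0).2, (f 1).2, ?_⟩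
    rw [show ![(f 0 : Fin 4 → K), (f 1 : Fin 4 → K)] = (LinearMap.ker L).subtype ∘ f from by funext i; fin_cases i <;> rfl]
    exact hf'
  obtain ⟨ha, hb, hli⟩ := hab
  obtain ⟨s, t, hst, hq⟩ : ∃ s t : K, ¬ (s = 0 ∧ t = 0) ∧ Dv F (s • a + t • b) w = 0 := by
    rcases eq_or_ne (Dv F a w) 0 with h0 | h0
    · exact ⟨1, 0, by simp, by simp [Dv_line hF, h0]⟩
    · obtain ⟨s, hs⟩ := IsAlgClosed.exists_root (Polynomial.C (Dv F a w) * Polynomial.X ^ 2 +
        Polynomial.C (Dv F (a + b) w - Dv F a w - Dv F b w) * Polynomial.X + Polynomial.C (Dv F b w))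
        (by rw [Polynomial.degree_quadratic h0]; decide)
      simp [Polynomial.IsRoot] at hs
      exact ⟨s, 1, by simp, by rw [Dv_line hF]; linear_combination hs⟩
  set p := s • a + t • b
  have hp : p ≠ 0 := fun h0 => hst (by
    have := Fintype.linearIndependent_iff.1 hli ![s, t] (by simpa [Fin.sum_univ_two] using h0)
    exact ⟨by simpa using this 0, by simpa using this 1⟩)
  have hLp : L p = 0 := by simp [p, ha, hb]
  obtain ⟨i, hi⟩ := hsm p hp (h p hLp)
  apply hi
  have e : Dv F p (Pi.single i 1) = 0 := by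
    set u : Fin 4 → K := Pi.single i 1
    have hu : u = (1 : K) • (u - L u • w) + L u • w := by module
    rw [hu, Dv_comb, hd p _ hLp (by rw [map_sub, map_smul, hw, smul_eq_mul, mul_one, sub_self]), hq]
    ring
  simpa [Dv, Pi.single_apply, aeval_eq_eval] using e

theorem squarefree_section (hF : F.IsHomogeneous 3)
    (hsm : ∀ b : Fin 4 → K, b ≠ 0 → eval b F = 0 → ∃ i, eval b (pderiv i F) ≠ 0)
    (φ : (Fin 3 → K) →ₗ[K] (Fin 4 → K)) (hφ : Function.Injective φ) :
    Squarefree (aeval (fun i : Fin 4 => ∑ j : Fin 3, C (φ (Pi.single j 1) i) * (X j : MvPolynomial (Fin 3) K)) F) := by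
  classical
  set g := aeval (fun i : Fin 4 => ∑ j : Fin 3, C (φ (Pi.single j 1) i) * (X j : MvPolynomial (Fin 3) K)) F with hg
  have hge : ∀ x, eval x g = eval (φ x) F := fun x => by
    rw [hg, ← aeval_eq_eval, map_ev (MvPolynomial.aeval x), aeval_eq_eval]
    congr 2
    funext i
    conv_rhs => rw [pi3_eq_basis x]
    simp [Fin.sum_univ_three]
    ring
  have hgh : g.IsHomogeneous 3 := by
    have := hF.aeval (fun i : Fin 4 => ∑ j : Fin 3, C (φ (Pi.single j 1) i) * (X j : MvPolynomial (Fin 3) K))
      fun i => IsHomogeneous.sum _ _ _ fun j _ => (isHomogeneous_X K j).C_mul _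
    rwa [one_mul] at this
  obtain ⟨L, hL, hLker⟩ : ∃ L : (Fin 4 → K) →ₗ[K] K, L ≠ 0 ∧ LinearMap.ker L = LinearMap.range φ := by
    have h3 : Module.finrank K (LinearMap.range φ) = 3 := by rw [LinearMap.finrank_range_of_inj hφ]; simp
    obtain ⟨L, hL, hle⟩ := Submodule.exists_le_ker_of_lt_top (LinearMap.range φ) (lt_top_iff_ne_top.2 fun h => by
      rw [h, finrank_top] at h3; simp at h3)
    refine ⟨L, hL, (Submodule.eq_of_le_of_finrank_le hle ?_).symm⟩
    have h4 : LinearMap.ker L < ⊤ := lt_top_iff_ne_top.2 fun h => hL (LinearMap.ker_eq_top.1 h)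
    have := Submodule.finrank_lt h4.ne
    simp at this
    omega
  have hg0 : g ≠ 0 := by
    intro h0
    refine no_plane_smooth hF hsm hL fun x hx => ?_
    have : x ∈ LinearMap.range φ := hLker ▸ hx
    obtain ⟨y, rfl⟩ := this
    rw [← hge, h0, map_zero]
  intro q hq
  by_contra hu
  obtain ⟨r, hr⟩ := hq
  have hq0 : q ≠ 0 := fun h => hg0 (by rw [hr, h, zero_mul, zero_mul])
  have hr0 : r ≠ 0 := fun h => hg0 (by rw [hr, h, mul_zero])
  -- a zero line of `q`
  have hdeg : q.totalDegree ≤ 1 := by
    have h1 : g.totalDegree = 3 := hgh.totalDegree hg0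
    rw [hr, totalDegree_mul_of_isDomain (mul_ne_zero hq0 hq0) hr0, totalDegree_mul_of_isDomain hq0 hq0] at h1
    omega
  set c0 := constantCoeff q
  have hqe : ∀ (t : K) (y : Fin 3 → K), eval (t • y) q = c0 + t * (eval y q - c0) := by
    intro t y
    have key : ∀ p : MvPolynomial (Fin 3) K, p.totalDegree ≤ 1 → p = homogeneousComponent 0 p + homogeneousComponent 1 p := by
      intro p hp
      conv_lhs => rw [← sum_homogeneousComponent p]
      rcases Nat.le_one_iff_eq_zero_or_eq_one.1 hp with h | h
      · simp [h, homogeneousComponent_eq_zero 1 p (by omega)]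
      · simp [h, Finset.sum_range_succ]
    have h1 : ∀ (t : K) y, eval (t • y) (homogeneousComponent 1 q) = t * eval y (homogeneousComponent 1 q) := fun t y => by
      have := eval_comb_of_deg_one' (homogeneousComponent_isHomogeneous 1 q) t y
      exact this
    rw [key q hdeg, map_add, map_add, homogeneousComponent_zero, eval_C, eval_C, h1]
    show coeff 0 q + _ = c0 + _
    rw [show c0 = coeff 0 q from rfl]; ring
  by_cases hc : c0 = 0
  swap
  · refine hg0 (MvPolynomial.funext fun y => ?_)
    rw [map_zero]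
    by_cases hl : eval y q - c0 = 0
    · -- perturb
      have hy : eval y g * eval y q = eval y g * c0 := by rw [sub_eq_zero.1 hl]
      by_contra hgy
      obtain ⟨z, hz⟩ := exists_eval_ne_zero (mul_ne_zero hg0 (show q - C c0 ≠ 0 from fun h => hu (by
        rw [sub_eq_zero.1 h]; exact (isUnit_iff_ne_zero.2 hc).map C)))
      rw [map_mul, map_sub, eval_C, mul_ne_zero_iff] at hz
      have e : eval ((-c0 / (eval z q - c0)) • z) q = 0 := by rw [hqe, div_mul_cancel₀ _ hz.2]; ring
      have := congrArg (eval ((-c0 / (eval z q - c0)) • z)) hr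
      rw [map_mul, map_mul, e, zero_mul, zero_mul, ← aeval_eq_eval, show ((-c0 / (eval z q - c0)) • z : Fin 3 → K) =
        fun i => (-c0 / (eval z q - c0)) * z i from rfl] at this
      rw [aeval_eq_eval, eval_smul_hom hgh] at this
      exact hz.1 ((mul_eq_zero.1 this).resolve_left (pow_ne_zero _ (div_ne_zero (neg_ne_zero.2 hc) hz.2)))
    · have e : eval ((-c0 / (eval y q - c0)) • y) q = 0 := by rw [hqe, div_mul_cancel₀ _ hl]; ring
      have := congrArg (eval ((-c0 / (eval y q - c0)) • y)) hr
      rw [map_mul, map_mul, e, zero_mul, zero_mul, show ((-c0 / (eval y q - c0)) • y : Fin 3 → K) =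
        fun i => (-c0 / (eval y q - c0)) * y i from rfl, eval_smul_hom hgh] at this
      exact (mul_eq_zero.1 this).resolve_left (pow_ne_zero _ (div_ne_zero (neg_ne_zero.2 hc) hl))
  -- the linear case
  let ql : (Fin 3 → K) →ₗ[K] K :=
    { toFun := fun y => eval y q
      map_add' := fun x y => by
        have key : q = homogeneousComponent 0 q + homogeneousComponent 1 q := by
          conv_lhs => rw [← sum_homogeneousComponent q]
          rcases Nat.le_one_iff_eq_zero_or_eq_one.1 hdeg with h | h
          · simp [h, homogeneousComponent_eq_zero 1 q (by omega)]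
          · simp [h, Finset.sum_range_succ]
        rw [key, homogeneousComponent_zero, show coeff 0 q = (0 : K) from hc, map_zero, zero_add]
        have := eval_comb_of_deg_one (homogeneousComponent_isHomogeneous 1 q) x y 1 1
        simpa using this
      map_smul' := fun t y => by simp [hqe, hc] }
  have hql : ∀ y, eval y q = ql y := fun _ => rfl
  have hker : 2 ≤ Module.finrank K (LinearMap.ker ql) := by
    have := LinearMap.finrank_range_add_finrank_ker ql
    have h4 : Module.finrank K (LinearMap.range ql) ≤ 1 := (Submodule.finrank_le _).trans (by simp)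
    simp at this; omega
  obtain ⟨f, hf⟩ := exists_linearIndependent_of_le_finrank (R := K) (M := LinearMap.ker ql) hker
  set y1 : Fin 3 → K := (f 0 : Fin 3 → K)
  set y2 : Fin 3 → K := (f 1 : Fin 3 → K)
  have hD : ∀ y z, ql y = 0 → Dv F (φ y) (φ z) = 0 := by
    intro y z hy
    let P : Fin 3 → Polynomial K := fun i => Polynomial.C (y i) + Polynomial.C (z i) * Polynomial.X
    have hq1 : (Polynomial.X : Polynomial K) ∣ aeval P q := by
      rw [Polynomial.X_dvd_iff, Polynomial.coeff_zero_eq_eval_zero, ← Polynomial.coe_aeval_eq_eval,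
        map_ev (Polynomial.aeval (0 : K)), show (fun i => Polynomial.aeval (0 : K) (P i)) = y from funext fun i => by simp [P],
        aeval_eq_eval]
      exact hy
    obtain ⟨c, hc'⟩ := hq1
    have h0 := congrArg (aeval P) hr
    rw [map_mul, map_mul, hc', hg, map_ev (MvPolynomial.aeval P)] at h0
    have e : (fun i => aeval P (∑ j : Fin 3, C (φ (Pi.single j 1) i) * (X j : MvPolynomial (Fin 3) K))) =
        (1 : Polynomial K) • (fun i => algebraMap K (Polynomial K) (φ y i)) +
          (Polynomial.X : Polynomial K) • fun i => algebraMap K (Polynomial K) (φ z i) := by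
      funext i
      conv_rhs => rw [pi3_eq_basis y, pi3_eq_basis z]
      simp [P, Fin.sum_univ_three]
      ring
    rw [e, aeval_line hF, algebraMap_Dv, algebraMap_Dv, algebraMap_ev, algebraMap_ev] at h0
    have := congrArg (fun p => Polynomial.coeff p 1) h0
    rw [show (Polynomial.X * c * (Polynomial.X * c) * aeval P r : Polynomial K) = Polynomial.X ^ 2 * (c * c * aeval P r) by ring] at this
    simpa [Polynomial.coeff_C, Polynomial.coeff_X_pow, Polynomial.coeff_X_pow_mul'] using this
  have hfz : ∀ y, ql y = 0 → eval (φ y) F = 0 := fun y hy => by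
    have := Dv_self hF (φ y)
    rw [hD y y hy] at this
    rw [← aeval_eq_eval]; linear_combination (-1 / 3 : K) * this
  obtain ⟨w, hw⟩ : ∃ w, L w = 1 := by
    obtain ⟨v, hv⟩ : ∃ v, L v ≠ 0 := by
      by_contra! h0
      exact hL (LinearMap.ext h0)
    exact ⟨(L v)⁻¹ • v, by rw [map_smul, smul_eq_mul, inv_mul_cancel₀ hv]⟩
  set a := φ y1
  set b := φ y2
  obtain ⟨s, t, hst, hz⟩ : ∃ s t : K, ¬ (s = 0 ∧ t = 0) ∧ Dv F (s • a + t • b) w = 0 := by
    rcases eq_or_ne (Dv F a w) 0 with h0 | h0
    · exact ⟨1, 0, by simp, by simp [Dv_line hF, h0]⟩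
    · obtain ⟨s, hs⟩ := IsAlgClosed.exists_root (Polynomial.C (Dv F a w) * Polynomial.X ^ 2 +
        Polynomial.C (Dv F (a + b) w - Dv F a w - Dv F b w) * Polynomial.X + Polynomial.C (Dv F b w))
        (by rw [Polynomial.degree_quadratic h0]; decide)
      simp [Polynomial.IsRoot] at hs
      exact ⟨s, 1, by simp, by rw [Dv_line hF]; linear_combination hs⟩
  set y := s • y1 + t • y2 with hy
  have hqy : ql y = 0 := by
    rw [hy, map_add, map_smul, map_smul, show ql y1 = 0 from (f 0).2, show ql y2 = 0 from (f 1).2, smul_zero, smul_zero, add_zero]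
  have hy0 : y ≠ 0 := fun h0 => hst (by
    have := Fintype.linearIndependent_iff.1 hf ![s, t] (by
      apply Subtype.ext
      simpa [Fin.sum_univ_two, y, y1, y2] using h0)
    exact ⟨by simpa using this 0, by simpa using this 1⟩)
  have hφy : φ y = s • a + t • b := by simp [y, a, b]
  obtain ⟨i, hi⟩ := hsm (φ y) (fun h0 => hy0 (hφ (by rw [h0, map_zero]))) (hfz y hqy)
  apply hi
  have e : Dv F (φ y) (Pi.single i 1) = 0 := by
    set u : Fin 4 → K := Pi.single i 1
    have hu' : u = (1 : K) • (u - L u • w) + L u • w := by module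
    obtain ⟨z, hzz⟩ : u - L u • w ∈ LinearMap.range φ := hLker ▸ (LinearMap.mem_ker.2 (by
      rw [map_sub, map_smul, hw, smul_eq_mul, mul_one, sub_self]))
    rw [hu', Dv_comb, ← hzz, hD y z hqy, hφy, hz]
    ring
  simpa [Dv, Pi.single_apply, aeval_eq_eval] using e

end Groth.Agent.CubicPts
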