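import Groth.Agent.CubicPts.Squarefree
import Groth.Agent.CubicPts.RatPoints

/-! The five tritangent planes through a line of a smooth cubic surface. -/

set_option autoImplicit false

open MvPolynomial

set_option maxHeartbeats 2000000

namespace Groth.Agent.CubicPts

section Defs

variable {k : Type*} [CommRing k] {R : Type*} [CommRing R] [Algebra k R] (F : MvPolynomial (Fin 4) k)

/-- symmetric matrix of the residual conic -/
noncomputable def cM (a b e : Fin 4 → R) : Matrix (Fin 3) (Fin 3) R :=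
  !![2 * Dv F a e, Dv F (a + b) e - Dv F a e - Dv F b e, Dv F e a;
     Dv F (a + b) e - Dv F a e - Dv F b e, 2 * Dv F b e, Dv F e b;
     Dv F e a, Dv F e b, 2 * aeval e F]

/-- residual conic -/
noncomputable def Qf (a b e : Fin 4 → R) (x : Fin 3 → R) : R :=
  x 0 ^ 2 * Dv F a e + x 0 * x 1 * (Dv F (a + b) e - Dv F a e - Dv F b e) + x 1 ^ 2 * Dv F b e +
    x 2 * (x 0 * Dv F e a + x 1 * Dv F e b) + x 2 ^ 2 * aeval e F

/-- polar form of the residual conic -/
noncomputable def Bc (a b e : Fin 4 → R) (x y : Fin 3 → R) : R := ∑ i, ∑ j, x i * cM F a b e i j * y j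

theorem map_cM {S : Type*} [CommRing S] [Algebra k S] (φ : R →ₐ[k] S) (a b e : Fin 4 → R) (i j : Fin 3) :
    φ (cM F a b e i j) = cM F (fun m => φ (a m)) (fun m => φ (b m)) (fun m => φ (e m)) i j := by
  have e1 : (fun m => φ ((a + b) m)) = (fun m => φ (a m)) + fun m => φ (b m) := funext fun m => map_add φ _ _
  fin_cases i <;> fin_cases j <;> simp [cM, map_Dv, map_ev, map_ofNat, Pi.add_def]

theorem Bc_self (a b e : Fin 4 → R) (x : Fin 3 → R) : Bc F a b e x x = 2 * Qf F a b e x := by
  simp [Bc, cM, Qf, Fin.sum_univ_three]; ring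

theorem Qf_add (a b e : Fin 4 → R) (x y : Fin 3 → R) (r : R) :
    Qf F a b e (x + r • y) = Qf F a b e x + r * Bc F a b e x y + r ^ 2 * Qf F a b e y := by
  simp [Bc, cM, Qf, Fin.sum_univ_three]; ring

theorem Bc_comm (a b e : Fin 4 → R) (x y : Fin 3 → R) : Bc F a b e x y = Bc F a b e y x := by
  simp [Bc, cM, Fin.sum_univ_three]; ring

end Defs

variable {K : Type*} [Field K] [CharZero K] [IsAlgClosed K] {F : MvPolynomial (Fin 4) K}

omit [IsAlgClosed K] in
theorem aeval_plane_line (hF : F.IsHomogeneous 3) {l0 l1 : Fin 4 → K} (hL : ∀ s t : K, eval (s • l0 + t • l1) F = 0)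
    (e : Fin 4 → K) (x : Fin 3 → K) :
    eval (x 0 • l0 + x 1 • l1 + x 2 • e) F = x 2 * Qf F l0 l1 e x := by
  have hL' : ∀ s t : K, aeval (s • l0 + t • l1) F = 0 := fun s t => by rw [aeval_eq_eval]; exact hL s t
  have h10 := hL' 1 0; have h01 := hL' 0 1; have h11 := hL' 1 1; have h1m := hL' 1 (-1)
  rw [aeval_line hF] at h10 h01 h11 h1m
  have hs : Dv F (x 0 • l0 + x 1 • l1) e = x 0 ^ 2 * Dv F l0 e + x 0 * x 1 * (Dv F (l0 + l1) e - Dv F l0 e - Dv F l1 e) + x 1 ^ 2 * Dv F l1 e :=
    Dv_line hF _ _ _ _ _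
  rw [← aeval_eq_eval, show x 0 • l0 + x 1 • l1 + x 2 • e = (1 : K) • (x 0 • l0 + x 1 • l1) + x 2 • e by module,
    aeval_line hF, hs, Dv_comb, hL']
  simp only [Qf]
  ring

/-- the plane map -/
noncomputable def planeMap (l0 l1 e : Fin 4 → K) : (Fin 3 → K) →ₗ[K] (Fin 4 → K) where
  toFun x := x 0 • l0 + x 1 • l1 + x 2 • e
  map_add' x y := by simp only [Pi.add_apply]; module
  map_smul' c x := by simp only [Pi.smul_apply, smul_eq_mul, RingHom.id_apply]; module

omit [CharZero K] [IsAlgClosed K] in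
theorem planeMap_apply (l0 l1 e : Fin 4 → K) (x : Fin 3 → K) : planeMap l0 l1 e x = x 0 • l0 + x 1 • l1 + x 2 • e := rfl

omit [CharZero K] [IsAlgClosed K] in
theorem planeMap_injective {l0 l1 e e' : Fin 4 → K} (h : LinearIndependent K ![l0, l1, e, e']) :
    Function.Injective (planeMap l0 l1 e) := by
  rw [← LinearMap.ker_eq_bot, LinearMap.ker_eq_bot']
  intro x hx
  have := Fintype.linearIndependent_iff.1 h ![x 0, x 1, x 2, 0] (by
    simpa [Fin.sum_univ_four, planeMap_apply] using hx)
  funext i; fin_cases i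
  · simpa using this 0
  · simpa using this 1
  · simpa using this 2

omit [CharZero K] [IsAlgClosed K] in
theorem det_fin3_coeff_one (N : Matrix (Fin 3) (Fin 3) (Polynomial K)) (h01 : Polynomial.X ∣ N 0 1) (h02 : Polynomial.X ∣ N 0 2)
    (h10 : Polynomial.X ∣ N 1 0) (h20 : Polynomial.X ∣ N 2 0) (h00 : Polynomial.X ∣ N 0 0) :
    N.det.coeff 1 = (N 0 0).coeff 1 * ((N 1 1).coeff 0 * (N 2 2).coeff 0 - (N 1 2).coeff 0 * (N 2 1).coeff 0) := by
  obtain ⟨a, ha⟩ := h00; obtain ⟨b, hb⟩ := h01; obtain ⟨c, hc⟩ := h02; obtain ⟨d, hd⟩ := h10; obtain ⟨e, he⟩ := h20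
  have key : N.det = Polynomial.X * (a * (N 1 1 * N 2 2 - N 1 2 * N 2 1)) +
      Polynomial.X ^ 2 * (-(b * d * N 2 2) + b * N 1 2 * e + c * d * N 2 1 - c * N 1 1 * e) := by
    rw [Matrix.det_fin_three, ha, hb, hc, hd, he]; ring
  rw [key, ha, Polynomial.coeff_add, Polynomial.coeff_X_mul, Polynomial.coeff_X_mul, Polynomial.coeff_X_pow_mul']
  simp [Polynomial.mul_coeff_zero, Polynomial.coeff_sub]

/-- a degenerate plane is a simple root of the discriminant and contains two further lines -/
theorem degenerate_plane (hF : F.IsHomogeneous 3)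
    (hsm : ∀ b : Fin 4 → K, b ≠ 0 → eval b F = 0 → ∃ i, eval b (pderiv i F) ≠ 0)
    {l0 l1 e e3 : Fin 4 → K} (hli : LinearIndependent K ![l0, l1, e, e3]) (hL : ∀ s t : K, eval (s • l0 + t • l1) F = 0)
    (hdet : (cM F l0 l1 e).det = 0) :
    (cM F (fun m => algebraMap K (Polynomial K) (l0 m)) (fun m => algebraMap K (Polynomial K) (l1 m))
      ((1 : Polynomial K) • (fun m => algebraMap K (Polynomial K) (e m)) + (Polynomial.X : Polynomial K) • fun m => algebraMap K (Polynomial K) (e3 m))).det.coeff 1 ≠ 0 ∧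
    ∃ m₁ m₂ : (Fin 3 → K) →ₗ[K] K, m₁ ≠ 0 ∧ m₂ ≠ 0 ∧ LinearMap.ker m₁ ≠ LinearMap.ker m₂ ∧
      (∀ x, Qf F l0 l1 e x = m₁ x * m₂ x) ∧
      LinearMap.ker m₁ ≠ LinearMap.ker (LinearMap.proj 2) ∧ LinearMap.ker m₂ ≠ LinearMap.ker (LinearMap.proj 2) := by
  classical
  obtain ⟨v, hv, hMv⟩ := Matrix.exists_mulVec_eq_zero_iff.2 hdet
  have hBv : ∀ x, Bc F l0 l1 e x v = 0 := by
    intro x
    simp only [Bc, mul_assoc, ← Finset.mul_sum]
    refine Finset.sum_eq_zero fun i _ => ?_
    have := congrFun hMv i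
    simp only [Matrix.mulVec, dotProduct, Pi.zero_apply] at this
    rw [this, mul_zero]
  have hQv : Qf F l0 l1 e v = 0 := by
    have := Bc_self F l0 l1 e v
    rw [hBv] at this
    linear_combination (-1 / 2 : K) * this
  obtain ⟨u1, hu1⟩ : ∃ u, u ∉ Submodule.span K {v} := by
    by_contra! h
    have : (⊤ : Submodule K (Fin 3 → K)) ≤ Submodule.span K {v} := fun x _ => h x
    have := Submodule.finrank_mono this
    rw [finrank_span_singleton hv] at this
    simp at this
  obtain ⟨u2, hu2⟩ : ∃ u, u ∉ Submodule.span K (Set.range ![u1, v]) := by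
    by_contra! h
    have h2 := finrank_range_le_card (R := K) ![u1, v]
    rw [Set.finrank, Submodule.eq_top_iff'.2 h, finrank_top] at h2
    simp at h2
  have hliS : LinearIndependent K ![u2, u1, v] :=
    linearIndependent_fin_cons.2 ⟨linearIndependent_fin_cons.2 ⟨linearIndependent_unique_iff.2 (by simpa using hv), by simpa using hu1⟩, hu2⟩
  let bs := basisOfLinearIndependentOfCardEqFinrank hliS (by simp)
  have hbs : ⇑bs = ![u2, u1, v] := coe_basisOfLinearIndependentOfCardEqFinrank hliS _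
  set B11 := Bc F l0 l1 e u1 u1 with hB11
  set B12 := Bc F l0 l1 e u1 u2 with hB12
  set B22 := Bc F l0 l1 e u2 u2 with hB22
  have hrep : ∀ x, x = (bs.coord 2 x • v + (bs.coord 1 x) • u1) + bs.coord 0 x • u2 := fun x => by
    conv_lhs => rw [← bs.sum_repr x]
    simp [Fin.sum_univ_three, hbs]; abel
  have hQ : ∀ x, Qf F l0 l1 e x = bs.coord 1 x ^ 2 * (B11 / 2) + bs.coord 1 x * bs.coord 0 x * B12 + bs.coord 0 x ^ 2 * (B22 / 2) := by
    intro x
    conv_lhs => rw [hrep x]
    have hs : ∀ (r : K) (y : Fin 3 → K), Qf F l0 l1 e (r • y) = r ^ 2 * Qf F l0 l1 e y := fun r y => by simp [Qf]; ring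
    have hb : Bc F l0 l1 e (bs.coord 2 x • v + bs.coord 1 x • u1) u2 = bs.coord 1 x * B12 := by
      have hlin : Bc F l0 l1 e (bs.coord 2 x • v + bs.coord 1 x • u1) u2 =
          bs.coord 2 x * Bc F l0 l1 e v u2 + bs.coord 1 x * Bc F l0 l1 e u1 u2 := by
        simp [Bc, Fin.sum_univ_three]; ring
      rw [hlin, Bc_comm F l0 l1 e v u2, hBv, hB12]; ring
    rw [Qf_add, hb, Qf_add, hs, hQv, hB11, hB22, Bc_self, Bc_self,
      show Bc F l0 l1 e (bs.coord 2 x • v) u1 = bs.coord 2 x * Bc F l0 l1 e u1 v by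
        simp [Bc, cM, Fin.sum_univ_three]; ring, hBv]
    ring
  have hinj := planeMap_injective hli
  have hsq := squarefree_section hF hsm (planeMap l0 l1 e) hinj
  set g := aeval (fun i : Fin 4 => ∑ j : Fin 3, C (planeMap l0 l1 e (Pi.single j 1) i) * (X j : MvPolynomial (Fin 3) K)) F with hg
  have hge : ∀ x, eval x g = x 2 * Qf F l0 l1 e x := fun x => by
    rw [hg, ← aeval_eq_eval, map_ev (MvPolynomial.aeval x), aeval_eq_eval, ← aeval_plane_line hF hL e x]
    congr 2
    funext i
    simp [Fin.sum_univ_three, planeMap_apply]; ring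
  let lp : ((Fin 3 → K) →ₗ[K] K) → MvPolynomial (Fin 3) K := fun m => ∑ i, C (m (Pi.single i 1)) * X i
  have hlp : ∀ m x, eval x (lp m) = m x := fun m x => by
    conv_rhs => rw [pi3_eq_basis x]
    simp [lp, Fin.sum_univ_three]; ring
  have hlpu : ∀ m, ¬ IsUnit (lp m) := fun m hu => not_isUnit_zero ((show constantCoeff (lp m) = 0 by simp [lp]) ▸ hu.map constantCoeff)
  have hg0 : g ≠ 0 := fun h => not_squarefree_zero (h ▸ hsq)
  have nosq : ∀ (κ : K) (m : (Fin 3 → K) →ₗ[K] K), ¬ ∀ x, x 2 * Qf F l0 l1 e x = x 2 * (κ * m x * m x) := by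
    intro κ m hall
    refine hlpu m (hsq (lp m) ⟨C κ * X 2, MvPolynomial.funext fun x => ?_⟩)
    rw [map_mul, map_mul, map_mul, hlp, eval_C, eval_X, hge, hall]; ring
  have hblock : B11 * B22 - B12 * B12 ≠ 0 := by
    intro h0
    rcases eq_or_ne B11 0 with h1 | h1
    · have h2 : B12 = 0 := by rw [h1] at h0; simpa using h0
      exact nosq (B22 / 2) (bs.coord 0) fun x => by rw [hQ, h1, h2]; ring
    · refine nosq (1 / (2 * B11)) (B11 • bs.coord 1 + B12 • bs.coord 0) fun x => ?_
      rw [hQ]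
      simp only [LinearMap.add_apply, LinearMap.smul_apply, smul_eq_mul]
      field_simp
      linear_combination (x 2 * bs.coord 0 x ^ 2) * h0
  refine ⟨?_, ?_⟩
  · -- simple root
    let ι : (Fin 4 → K) → (Fin 4 → Polynomial K) := fun y m => algebraMap K (Polynomial K) (y m)
    set et : Fin 4 → Polynomial K := (1 : Polynomial K) • ι e + (Polynomial.X : Polynomial K) • ι e3
    let S : Matrix (Fin 3) (Fin 3) K := Matrix.of fun i j => (![v, u1, u2] j) i
    have hS : S.det ≠ 0 := by
      intro hd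
      obtain ⟨c, hc, hc'⟩ := Matrix.exists_mulVec_eq_zero_iff.2 hd
      have : ∑ j, c j • (![v, u1, u2] : Fin 3 → Fin 3 → K) j = 0 := funext fun i => by
        have := congrFun hc' i
        simp [Matrix.mulVec, dotProduct, S, Fin.sum_univ_three] at this
        simp [Fin.sum_univ_three]; linear_combination this
      have h3 := Fintype.linearIndependent_iff.1 hliS ![c 2, c 1, c 0] (by
        simp [Fin.sum_univ_three] at this ⊢; linear_combination (norm := module) this)
      apply hc
      funext i; fin_cases i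
      · simpa using h3 2
      · simpa using h3 1
      · simpa using h3 0
    let Sp : Matrix (Fin 3) (Fin 3) (Polynomial K) := S.map Polynomial.C
    let N := Sp.transpose * cM F (ι l0) (ι l1) et * Sp
    have h0 : ∀ i j, (N i j).coeff 0 = Bc F l0 l1 e (![v, u1, u2] i) (![v, u1, u2] j) := by
      intro i j
      rw [Polynomial.coeff_zero_eq_eval_zero, ← Polynomial.coe_aeval_eq_eval]
      have het : (fun m => Polynomial.aeval (0 : K) (et m)) = e := funext fun m => by simp [et, ι]
      have hl : ∀ y, (fun m => Polynomial.aeval (0 : K) (ι y m)) = y := fun y => funext fun m => by simp [ι]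
      simp only [N, Bc, Matrix.mul_apply, Matrix.transpose_apply, Sp, Matrix.map_apply, map_sum, map_mul, map_cM, het, hl,
        Polynomial.aeval_C, Algebra.algebraMap_self, RingHom.id_apply, S, Matrix.of_apply, Finset.sum_mul]
      rw [Finset.sum_comm]
    have hdetN : N.det = Polynomial.C (S.det * S.det) * (cM F (ι l0) (ι l1) et).det := by
      simp only [N, Matrix.det_mul, Matrix.det_transpose, Sp]
      rw [← RingHom.mapMatrix_apply, ← RingHom.map_det, map_mul]
      ring
    have hdiv : ∀ i j, i = 0 ∨ j = 0 → Polynomial.X ∣ N i j := by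
      intro i j hij
      rw [Polynomial.X_dvd_iff, h0]
      rcases hij with rfl | rfl
      · rw [Bc_comm]; simpa using hBv _
      · simpa using hBv _
    have h1 := det_fin3_coeff_one N (hdiv 0 1 (Or.inl rfl)) (hdiv 0 2 (Or.inl rfl)) (hdiv 1 0 (Or.inr rfl)) (hdiv 2 0 (Or.inr rfl)) (hdiv 0 0 (Or.inl rfl))
    rw [h0, h0, h0, h0, hdetN, Polynomial.coeff_C_mul] at h1
    simp only [Matrix.cons_val_zero, Matrix.cons_val_one, Matrix.cons_val, ← hB11, ← hB12, ← hB22, Bc_comm F l0 l1 e u2 u1] at h1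
    intro hd
    rw [hd, mul_zero, eq_comm] at h1
    have h00 := (mul_eq_zero.1 h1).resolve_right hblock
    -- value of the first derivative at the vertex
    set p := planeMap l0 l1 e v with hp
    have hval : (N 0 0).coeff 1 = 2 * Dv F p e3 := by
      have hN : N 0 0 = 2 * Qf F (ι l0) (ι l1) et (fun i => Polynomial.C (v i)) := by
        rw [← Bc_self]
        simp [N, Bc, Matrix.mul_apply, Sp, S, Fin.sum_univ_three]
        ring
      have eab : ι l0 + ι l1 = ι (l0 + l1) := funext fun m => (map_add (algebraMap K (Polynomial K)) (l0 m) (l1 m)).symm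
      have eee : ι e + ι e3 = ι (e + e3) := funext fun m => (map_add (algebraMap K (Polynomial K)) (e m) (e3 m)).symm
      have hιD : ∀ x y, Dv F (ι x) (ι y) = Polynomial.C (Dv F x y) := fun x y => algebraMap_Dv F x y
      have hιF : ∀ x, aeval (ι x) F = Polynomial.C (aeval x F) := fun x => algebraMap_ev F x
      have key : Qf F (ι l0) (ι l1) et (fun i => Polynomial.C (v i)) =
          Polynomial.C (Qf F l0 l1 e v) + Polynomial.X * Polynomial.C (Dv F p e3) +
          Polynomial.X ^ 2 * (Polynomial.C (v 2) * (Polynomial.C (v 0) * Polynomial.C (Dv F e3 l0) + Polynomial.C (v 1) * Polynomial.C (Dv F e3 l1)) +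
            Polynomial.C (v 2) ^ 2 * (Polynomial.C (Dv F e3 e) + Polynomial.X * Polynomial.C (aeval e3 F))) := by
        have hsym : Dv F (v 0 • l0 + v 1 • l1 + e) e3 - Dv F (v 0 • l0 + v 1 • l1) e3 - Dv F e e3 =
            v 0 * (Dv F (e + e3) l0 - Dv F e l0 - Dv F e3 l0) + v 1 * (Dv F (e + e3) l1 - Dv F e l1 - Dv F e3 l1) := by
          refine cubic_induction (P := fun F => Dv F (v 0 • l0 + v 1 • l1 + e) e3 - Dv F (v 0 • l0 + v 1 • l1) e3 - Dv F e e3 =
            v 0 * (Dv F (e + e3) l0 - Dv F e l0 - Dv F e3 l0) + v 1 * (Dv F (e + e3) l1 - Dv F e l1 - Dv F e3 l1)) ?_ ?_ ?_ hF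
          · simp [Dv_zero_left]
          · intro f g hf hg; simp only [Dv_add_left]; linear_combination hf + hg
          · intro c i j l; simp only [Dv_monomial, Pi.add_apply, Pi.smul_apply, smul_eq_mul]; ring
        rw [hp, planeMap_apply, show v 0 • l0 + v 1 • l1 + v 2 • e = (1 : K) • (v 0 • l0 + v 1 • l1) + v 2 • e by module,
          Dv_line hF, hsym, Dv_line hF (v 0) (v 1)]
        simp only [Qf, et, eab, Dv_comb, Dv_line hF (1 : Polynomial K) Polynomial.X, aeval_line hF (1 : Polynomial K) Polynomial.X, eee]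
        simp only [hιD, hιF, map_add, map_sub, map_mul, map_pow, map_one]
        ring
      rw [hN, key, hQv, map_zero, zero_add, ← Polynomial.C_ofNat 2, Polynomial.coeff_C_mul, Polynomial.coeff_add,
        Polynomial.coeff_X_mul, Polynomial.coeff_C_zero, Polynomial.coeff_X_pow_mul', if_neg (by norm_num), add_zero]
    rw [hval] at h00
    have hDe3 : Dv F p e3 = 0 := (mul_eq_zero.1 h00).resolve_left two_ne_zero
    -- all partial derivatives vanish at the vertex
    have hfp : ∀ y r, eval ((1 : K) • p + r • planeMap l0 l1 e y) F = (v 2 + r * y 2) * (r ^ 2 * Qf F l0 l1 e y) := by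
      intro y r
      rw [hp, show (1 : K) • planeMap l0 l1 e v + r • planeMap l0 l1 e y = planeMap l0 l1 e (v + r • y) by
        rw [map_add, map_smul, one_smul], planeMap_apply, aeval_plane_line hF hL, Qf_add, hQv,
        Bc_comm, hBv]
      simp
    have hDp : ∀ y, Dv F p (planeMap l0 l1 e y) = 0 := fun y => by
      have e1 := hfp y 1; have e2 := hfp y (-1); have e3' := hfp y 0; have e4 := hfp y 2
      rw [← aeval_eq_eval, aeval_line hF] at e1 e2 e3' e4
      linear_combination e1 - (1 / 3 : K) * e2 - (1 / 2 : K) * e3' - (1 / 6 : K) * e4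
    have hFp : eval p F = 0 := by rw [hp, planeMap_apply, aeval_plane_line hF hL, hQv, mul_zero]
    obtain ⟨i, hi⟩ := hsm p (fun h => hv (hinj (by rw [← hp, h, map_zero]))) hFp
    apply hi
    have hb : Submodule.span K (Set.range ![l0, l1, e, e3]) = ⊤ := hli.span_eq_top_of_card_eq_finrank (by simp)
    obtain ⟨c, hc⟩ := (Submodule.mem_span_range_iff_exists_fun K).1 (hb.symm ▸ Submodule.mem_top : (Pi.single i 1 : Fin 4 → K) ∈ Submodule.span K (Set.range ![l0, l1, e, e3]))
    have hz : Dv F p (Pi.single i 1) = 0 := by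
      rw [← hc, show ∑ j, c j • (![l0, l1, e, e3] : Fin 4 → Fin 4 → K) j = (1 : K) • planeMap l0 l1 e ![c 0, c 1, c 2] + c 3 • e3 by
        simp [Fin.sum_univ_four, planeMap_apply], Dv_comb, hDp, hDe3]
      ring
    simpa [Dv, Pi.single_apply, aeval_eq_eval] using hz
  · obtain ⟨p, q, r, s, hp, hq, hr⟩ := quad_split (B11 / 2) B12 (B22 / 2)
    set m₁ : (Fin 3 → K) →ₗ[K] K := p • bs.coord 1 + q • bs.coord 0 with hm₁
    set m₂ : (Fin 3 → K) →ₗ[K] K := r • bs.coord 1 + s • bs.coord 0 with hm₂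
    have hQm : ∀ x, Qf F l0 l1 e x = m₁ x * m₂ x := fun x => by
      rw [hQ, hp, hq, hr]; simp [m₁, m₂]; ring
    have hm1 : m₁ ≠ 0 := fun h => nosq 0 m₂ fun x => by rw [hQm, h]; simp
    have hm2 : m₂ ≠ 0 := fun h => nosq 0 m₁ fun x => by rw [hQm, h]; simp
    have prop : ∀ a b : (Fin 3 → K) →ₗ[K] K, b ≠ 0 → LinearMap.ker b ≤ LinearMap.ker a → ∃ c : K, ∀ x, a x = c * b x := by
      intro a b hb hle
      obtain ⟨w, hw⟩ : ∃ w, b w ≠ 0 := by
        by_contra! h; exact hb (LinearMap.ext h)
      refine ⟨a w / b w, fun x => ?_⟩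
      have : x - (b x / b w) • w ∈ LinearMap.ker b := by
        rw [LinearMap.mem_ker, map_sub, map_smul, smul_eq_mul, div_mul_cancel₀ _ hw, sub_self]
      have h2 := hle this
      rw [LinearMap.mem_ker, map_sub, map_smul, smul_eq_mul, sub_eq_zero] at h2
      rw [h2]; field_simp
    have hproj : (LinearMap.proj 2 : (Fin 3 → K) →ₗ[K] K) ≠ 0 := fun h => by
      simpa using LinearMap.congr_fun h (Pi.single 2 1)
    refine ⟨m₁, m₂, hm1, hm2, fun h => ?_, hQm, fun h => ?_, fun h => ?_⟩
    · obtain ⟨c, hc⟩ := prop m₁ m₂ hm2 h.ge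
      exact nosq c m₂ fun x => by rw [hQm, hc]
    · obtain ⟨c, hc⟩ := prop m₁ (LinearMap.proj 2) hproj h.ge
      refine hlpu (LinearMap.proj 2) (hsq (lp (LinearMap.proj 2)) ⟨C c * lp m₂, MvPolynomial.funext fun x => ?_⟩)
      rw [map_mul, map_mul, map_mul, hlp, hlp, eval_C, hge, hQm, hc]
      simp; ring
    · obtain ⟨c, hc⟩ := prop m₂ (LinearMap.proj 2) hproj h.ge
      refine hlpu (LinearMap.proj 2) (hsq (lp (LinearMap.proj 2)) ⟨C c * lp m₁, MvPolynomial.funext fun x => ?_⟩)
      rw [map_mul, map_mul, map_mul, hlp, hlp, eval_C, hge, hQm, hc]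
      simp; ring

/-- the discriminant of the planes through the line -/
noncomputable def discPoly (F : MvPolynomial (Fin 4) K) (l0 l1 e2 e3 : Fin 4 → K) : Polynomial K :=
  (cM F (fun m => algebraMap K (Polynomial K) (l0 m)) (fun m => algebraMap K (Polynomial K) (l1 m))
    ((1 : Polynomial K) • (fun m => algebraMap K (Polynomial K) (e2 m)) + (Polynomial.X : Polynomial K) • fun m => algebraMap K (Polynomial K) (e3 m))).det

omit [CharZero K] [IsAlgClosed K] in
theorem discPoly_eval (l0 l1 e2 e3 : Fin 4 → K) (t : K) :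
    (discPoly F l0 l1 e2 e3).eval t = (cM F l0 l1 (e2 + t • e3)).det := by
  rw [discPoly, ← Polynomial.coe_aeval_eq_eval, AlgHom.map_det]
  congr 1
  ext i j
  simp only [AlgHom.mapMatrix_apply, Matrix.map_apply, map_cM]
  congr 1 <;> funext m <;> simp <;> ring

omit [CharZero K] [IsAlgClosed K] in
theorem discPoly_shift (l0 l1 e2 e3 : Fin 4 → K) (t : K) :
    (discPoly F l0 l1 e2 e3).comp (Polynomial.X + Polynomial.C t) = discPoly F l0 l1 (e2 + t • e3) e3 := by
  rw [discPoly, discPoly, Polynomial.comp_eq_aeval, AlgHom.map_det]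
  congr 1
  ext1 i j
  simp only [AlgHom.mapMatrix_apply, Matrix.map_apply]
  rw [show Polynomial.aeval (Polynomial.X + Polynomial.C t) = (Polynomial.aeval (Polynomial.X + Polynomial.C t) : Polynomial K →ₐ[K] Polynomial K) from rfl, map_cM]
  congr 1 <;> funext m <;> simp <;> ring

theorem simple_root (hF : F.IsHomogeneous 3)
    (hsm : ∀ b : Fin 4 → K, b ≠ 0 → eval b F = 0 → ∃ i, eval b (pderiv i F) ≠ 0)
    {l0 l1 e2 e3 : Fin 4 → K} (hli : LinearIndependent K ![l0, l1, e2, e3]) (hL : ∀ s t : K, eval (s • l0 + t • l1) F = 0)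
    (t : K) (ht : (cM F l0 l1 (e2 + t • e3)).det = 0) : (discPoly F l0 l1 e2 e3).derivative.eval t ≠ 0 := by
  have hli' : LinearIndependent K ![l0, l1, e2 + t • e3, e3] := by
    rw [Fintype.linearIndependent_iff]
    intro g hg
    simp [Fin.sum_univ_four] at hg
    have := Fintype.linearIndependent_iff.1 hli ![g 0, g 1, g 2, g 3 + g 2 * t]
      (by simp [Fin.sum_univ_four]; linear_combination (norm := module) hg)
    have a0 := this 0; have a1 := this 1; have a2 := this 2; have a3 := this 3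
    simp at a0 a1 a2 a3
    rw [a2, zero_mul, add_zero] at a3
    intro i; fin_cases i <;> assumption
  have h1 := (degenerate_plane hF hsm hli' hL ht).1
  rw [← Polynomial.taylor_coeff_one, Polynomial.taylor_apply, discPoly_shift]
  exact h1

theorem count_planes (hF : F.IsHomogeneous 3)
    (hsm : ∀ b : Fin 4 → K, b ≠ 0 → eval b F = 0 → ∃ i, eval b (pderiv i F) ≠ 0)
    (L : Submodule K (Fin 4 → K)) (hL2 : Module.finrank K ↥L = 2) (hLS : ∀ u ∈ L, eval u F = 0) :
    {H : Submodule K (Fin 4 → K) | Module.finrank K ↥H = 3 ∧ L ≤ H ∧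
      ∃ L' L'' : Submodule K (Fin 4 → K), Module.finrank K ↥L' = 2 ∧ Module.finrank K ↥L'' = 2 ∧
        L' ≠ L ∧ L'' ≠ L ∧ L' ≠ L'' ∧ L' ≤ H ∧ L'' ≤ H ∧
        (∀ u ∈ L', eval u F = 0) ∧ (∀ u ∈ L'', eval u F = 0)}.ncard = 5 := by
  classical
  let bL := Module.finBasisOfFinrankEq K L hL2
  set l0 : Fin 4 → K := (bL 0 : Fin 4 → K) with hl0
  set l1 : Fin 4 → K := (bL 1 : Fin 4 → K) with hl1
  have hL : ∀ s t : K, eval (s • l0 + t • l1) F = 0 := fun s t =>
    hLS _ (L.add_mem (L.smul_mem _ (bL 0).2) (L.smul_mem _ (bL 1).2))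
  have hli2 : LinearIndependent K ![l0, l1] := by
    have := bL.linearIndependent.map' L.subtype (Submodule.ker_subtype L)
    rw [show ![l0, l1] = L.subtype ∘ bL from by funext i; fin_cases i <;> rfl]
    exact this
  have hLspan : L = Submodule.span K (Set.range ![l0, l1]) := by
    refine (Submodule.eq_of_le_of_finrank_eq ?_ ?_).symm
    · rw [Submodule.span_le]; rintro _ ⟨i, rfl⟩
      fin_cases i
      · exact (bL 0).2
      · exact (bL 1).2
    · rw [finrank_span_eq_card hli2, hL2]; simp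
  have pick : ∀ {n : ℕ}, n < 4 → ∀ v : Fin n → (Fin 4 → K), ∃ x, x ∉ Submodule.span K (Set.range v) := by
    intro n hn v
    by_contra! h
    have h2 := finrank_range_le_card (R := K) v
    rw [Set.finrank, Submodule.eq_top_iff'.2 h, finrank_top] at h2
    simp at h2
    omega
  obtain ⟨f2, hf2⟩ := pick (by norm_num) ![l0, l1]
  obtain ⟨f3, hf3⟩ := pick (by norm_num) ![f2, l0, l1]
  have hlf : LinearIndependent K ![f3, f2, l0, l1] :=
    linearIndependent_fin_cons.2 ⟨linearIndependent_fin_cons.2 ⟨hli2, hf2⟩, hf3⟩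
  have mkli : ∀ e2 e3 : Fin 4 → K, LinearIndependent K ![e3, e2, l0, l1] → LinearIndependent K ![l0, l1, e2, e3] := by
    intro e2 e3 h
    rw [Fintype.linearIndependent_iff]
    intro g hg
    simp [Fin.sum_univ_four] at hg
    have := Fintype.linearIndependent_iff.1 h ![g 3, g 2, g 0, g 1]
      (by simp [Fin.sum_univ_four]; linear_combination (norm := module) hg)
    intro i; fin_cases i
    · simpa using this 2
    · simpa using this 3
    · simpa using this 1
    · simpa using this 0
  obtain ⟨e2, e3, hli, he3⟩ : ∃ e2 e3 : Fin 4 → K, LinearIndependent K ![l0, l1, e2, e3] ∧ (cM F l0 l1 e3).det ≠ 0 := by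
    by_cases hd : (cM F l0 l1 f3).det = 0
    · have hswap : LinearIndependent K ![l0, l1, f3, f2] := by
        have h := mkli f2 f3 hlf
        rw [Fintype.linearIndependent_iff] at h ⊢
        intro g hg
        simp [Fin.sum_univ_four] at hg
        have := h ![g 0, g 1, g 3, g 2] (by simp [Fin.sum_univ_four]; linear_combination (norm := module) hg)
        intro i; fin_cases i
        · simpa using this 0
        · simpa using this 1
        · simpa using this 3
        · simpa using this 2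
      have h0 := simple_root hF hsm hswap hL 0 (by rw [zero_smul, add_zero]; exact hd)
      have hne : discPoly F l0 l1 f3 f2 ≠ 0 := fun h => h0 (by rw [h]; simp)
      obtain ⟨t, ht⟩ := Infinite.exists_notMem_finset (discPoly F l0 l1 f3 f2).roots.toFinset
      rw [Multiset.mem_toFinset, Polynomial.mem_roots hne, Polynomial.IsRoot, discPoly_eval] at ht
      refine ⟨f2, f3 + t • f2, ?_, ht⟩
      refine mkli f2 _ ?_
      rw [Fintype.linearIndependent_iff] at hlf ⊢
      intro g hg
      simp [Fin.sum_univ_four] at hg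
      have := hlf ![g 0, g 1 + g 0 * t, g 2, g 3] (by simp [Fin.sum_univ_four]; linear_combination (norm := module) hg)
      have a0 := this 0; have a1 := this 1; have a2 := this 2; have a3 := this 3
      simp at a0 a1 a2 a3
      rw [a0, zero_mul, add_zero] at a1
      intro i; fin_cases i <;> assumption
    · exact ⟨f2, f3, mkli f2 f3 hlf, hd⟩
  set Δ := discPoly F l0 l1 e2 e3 with hΔ
  -- degree five
  have hdeg : Δ.natDegree ≤ 5 ∧ Δ.coeff 5 = (cM F l0 l1 e3).det := by
    let ι : (Fin 4 → K) → (Fin 4 → Polynomial K) := fun y m => algebraMap K (Polynomial K) (y m)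
    have eab : ι l0 + ι l1 = ι (l0 + l1) := funext fun m => (map_add (algebraMap K (Polynomial K)) (l0 m) (l1 m)).symm
    have eee : ι e2 + ι e3 = ι (e2 + e3) := funext fun m => (map_add (algebraMap K (Polynomial K)) (e2 m) (e3 m)).symm
    set et : Fin 4 → Polynomial K := (1 : Polynomial K) • ι e2 + (Polynomial.X : Polynomial K) • ι e3
    set M := cM F (ι l0) (ι l1) et with hM
    have hΔM : Δ = M.det := rfl
    have hιD : ∀ x y, Dv F (ι x) (ι y) = Polynomial.C (Dv F x y) := fun x y => algebraMap_Dv F x y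
    have hιF : ∀ x, aeval (ι x) F = Polynomial.C (aeval x F) := fun x => algebraMap_ev F x
    let dg : Fin 3 → Fin 3 → ℕ := fun i j => !![1, 1, 2; 1, 1, 2; 2, 2, 3] i j
    have hM' : ∀ i j, (M i j).natDegree ≤ dg i j ∧ (M i j).coeff (dg i j) = cM F l0 l1 e3 i j := by
      have lin : ∀ a : Fin 4 → K, (Dv F (ι a) et).natDegree ≤ 1 ∧ (Dv F (ι a) et).coeff 1 = Dv F a e3 := by
        intro a
        simp only [et, Dv_comb, hιD]
        exact ⟨by compute_degree, by simp [Polynomial.coeff_C]⟩
      have qd : ∀ a : Fin 4 → K, (Dv F et (ι a)).natDegree ≤ 2 ∧ (Dv F et (ι a)).coeff 2 = Dv F e3 a := by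
        intro a
        simp only [et, Dv_line hF, eee]
        simp only [hιD, one_pow, one_mul, ← map_sub]
        exact ⟨by compute_degree, by simp [Polynomial.coeff_C]⟩
      have cu : (aeval et F).natDegree ≤ 3 ∧ (aeval et F).coeff 3 = aeval e3 F := by
        simp only [et, aeval_line hF]
        simp only [hιD, hιF, one_pow, one_mul]
        exact ⟨by compute_degree, by simp [Polynomial.coeff_C, Polynomial.coeff_X_pow]⟩
      intro i j
      have two : ∀ (p : Polynomial K) n, p.natDegree ≤ n → (2 * p).natDegree ≤ n ∧ (2 * p).coeff n = 2 * p.coeff n := fun p n hp => by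
        rw [← Polynomial.C_ofNat 2, Polynomial.coeff_C_mul]
        exact ⟨(Polynomial.natDegree_C_mul_le _ _).trans hp, rfl⟩
      have mixed : (Dv F (ι l0 + ι l1) et - Dv F (ι l0) et - Dv F (ι l1) et).natDegree ≤ 1 ∧
          (Dv F (ι l0 + ι l1) et - Dv F (ι l0) et - Dv F (ι l1) et).coeff 1 = Dv F (l0 + l1) e3 - Dv F l0 e3 - Dv F l1 e3 := by
        rw [eab]
        exact ⟨(Polynomial.natDegree_sub_le _ _).trans (max_le ((Polynomial.natDegree_sub_le _ _).trans (max_le (lin _).1 (lin _).1)) (lin _).1),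
          by rw [Polynomial.coeff_sub, Polynomial.coeff_sub, (lin _).2, (lin _).2, (lin _).2]⟩
      fin_cases i <;> fin_cases j <;> simp [hM, dg, cM]
      · exact ⟨(two _ _ (lin l0).1).1, by rw [(lin l0).2]⟩
      · exact ⟨mixed.1, by simpa using mixed.2⟩
      · exact qd l0
      · exact ⟨mixed.1, by simpa using mixed.2⟩
      · exact ⟨(two _ _ (lin l1).1).1, by rw [(lin l1).2]⟩
      · exact qd l1
      · exact qd l0
      · exact qd l1
      · exact ⟨(two _ _ cu.1).1, by rw [cu.2, aeval_eq_eval]⟩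
    have tri : ∀ (i j i' j' i'' j'' : Fin 3), dg i j + dg i' j' + dg i'' j'' = 5 →
        (M i j * M i' j' * M i'' j'').natDegree ≤ 5 ∧ (M i j * M i' j' * M i'' j'').coeff 5 =
          cM F l0 l1 e3 i j * cM F l0 l1 e3 i' j' * cM F l0 l1 e3 i'' j'' := by
      intro i j i' j' i'' j'' h
      have h2 : (M i j * M i' j').natDegree ≤ dg i j + dg i' j' :=
        Polynomial.natDegree_mul_le_of_le (hM' i j).1 (hM' i' j').1
      refine ⟨h ▸ Polynomial.natDegree_mul_le_of_le h2 (hM' i'' j'').1, ?_⟩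
      rw [← h, Polynomial.coeff_mul_add_eq_of_natDegree_le h2 (hM' i'' j'').1,
        Polynomial.coeff_mul_add_eq_of_natDegree_le (hM' i j).1 (hM' i' j').1, (hM' i j).2, (hM' i' j').2, (hM' i'' j'').2]
    have t1 := tri 0 0 1 1 2 2 rfl; have t2 := tri 0 0 1 2 2 1 rfl; have t3 := tri 0 1 1 0 2 2 rfl
    have t4 := tri 0 1 1 2 2 0 rfl; have t5 := tri 0 2 1 0 2 1 rfl; have t6 := tri 0 2 1 1 2 0 rfl
    rw [hΔM, Matrix.det_fin_three, Matrix.det_fin_three]
    refine ⟨?_, ?_⟩
    · refine (Polynomial.natDegree_sub_le _ _).trans (max_le ?_ t6.1)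
      refine (Polynomial.natDegree_add_le _ _).trans (max_le ?_ t5.1)
      refine (Polynomial.natDegree_add_le _ _).trans (max_le ?_ t4.1)
      refine (Polynomial.natDegree_sub_le _ _).trans (max_le ?_ t3.1)
      exact (Polynomial.natDegree_sub_le _ _).trans (max_le t1.1 t2.1)
    · rw [Polynomial.coeff_sub, Polynomial.coeff_add, Polynomial.coeff_add, Polynomial.coeff_sub, Polynomial.coeff_sub,
        t1.2, t2.2, t3.2, t4.2, t5.2, t6.2]
  have hnd : Δ.natDegree = 5 := le_antisymm hdeg.1 (Polynomial.le_natDegree_of_ne_zero (by rw [hdeg.2]; exact he3))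
  have hΔ0 : Δ ≠ 0 := fun h => by rw [h] at hnd; simp at hnd
  have hnodup : Δ.roots.Nodup := by
    rw [Multiset.nodup_iff_count_le_one]
    intro t
    rw [Polynomial.count_roots]
    by_contra! h
    obtain ⟨h1, h2⟩ := (Polynomial.one_lt_rootMultiplicity_iff_isRoot hΔ0).1 h
    exact simple_root hF hsm hli hL t (by rw [← discPoly_eval]; exact h1) h2
  have hcard : Δ.roots.toFinset.card = 5 := by
    rw [Multiset.toFinset_card_of_nodup hnodup, ← hnd]
    exact IsAlgClosed.card_roots_eq_natDegree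
  -- planes and parameters
  let Hp : K → Submodule K (Fin 4 → K) := fun t => LinearMap.range (planeMap l0 l1 (e2 + t • e3))
  have hindep : ∀ t : K, LinearIndependent K ![l0, l1, e2 + t • e3, e3] := by
    intro t
    rw [Fintype.linearIndependent_iff]
    intro g hg
    simp [Fin.sum_univ_four] at hg
    have := Fintype.linearIndependent_iff.1 hli ![g 0, g 1, g 2, g 3 + g 2 * t]
      (by simp [Fin.sum_univ_four]; linear_combination (norm := module) hg)
    have a0 := this 0; have a1 := this 1; have a2 := this 2; have a3 := this 3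
    simp at a0 a1 a2 a3
    rw [a2, zero_mul, add_zero] at a3
    intro i; fin_cases i <;> assumption
  have hHinj : Function.Injective Hp := by
    intro t t' h
    obtain ⟨x, hx⟩ : e2 + t • e3 ∈ Hp t' := h ▸ ⟨![0, 0, 1], by simp [planeMap_apply]⟩
    rw [planeMap_apply] at hx
    have := Fintype.linearIndependent_iff.1 hli ![x 0, x 1, x 2 - 1, x 2 * t' - t]
      (by simp [Fin.sum_univ_four]; linear_combination (norm := module) hx)
    have a2 := this 2; have a3 := this 3
    simp [sub_eq_zero] at a2 a3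
    rw [a2, one_mul] at a3
    exact a3.symm
  have hLle : ∀ (e : Fin 4 → K), L ≤ LinearMap.range (planeMap l0 l1 e) := by
    intro e
    rw [hLspan, Submodule.span_le]
    rintro _ ⟨i, rfl⟩
    fin_cases i
    · exact ⟨![1, 0, 0], by simp [planeMap_apply]⟩
    · exact ⟨![0, 1, 0], by simp [planeMap_apply]⟩
  have hgood : ∀ (e e' : Fin 4 → K), LinearIndependent K ![l0, l1, e, e'] → ∀ L' L'' : Submodule K (Fin 4 → K),
      Module.finrank K ↥L' = 2 → Module.finrank K ↥L'' = 2 → L' ≠ L → L'' ≠ L → L' ≠ L'' →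
      L' ≤ LinearMap.range (planeMap l0 l1 e) → L'' ≤ LinearMap.range (planeMap l0 l1 e) →
      (∀ u ∈ L', eval u F = 0) → (∀ u ∈ L'', eval u F = 0) → (cM F l0 l1 e).det = 0 := by
    intro e e' hi L' L'' r1 r2 n1 n2 n12 s1 s2 v1 v2
    have hj := planeMap_injective hi
    have pull : ∀ U : Submodule K (Fin 4 → K), Module.finrank K ↥U = 2 → U ≠ L → U ≤ LinearMap.range (planeMap l0 l1 e) →
        (∀ u ∈ U, eval u F = 0) →
        (∀ x, planeMap l0 l1 e x ∈ U → Qf F l0 l1 e x = 0) ∧ Module.finrank K ↥(U.comap (planeMap l0 l1 e)) = 2 := by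
      intro U r nU sU vU
      have hmap : (U.comap (planeMap l0 l1 e)).map (planeMap l0 l1 e) = U := Submodule.map_comap_eq_of_le sU
      have hr : Module.finrank K ↥(U.comap (planeMap l0 l1 e)) = 2 := by
        rw [← r]; conv_rhs => rw [← hmap]
        exact (Submodule.equivMapOfInjective _ hj _).finrank_eq
      obtain ⟨n, hn, hn2⟩ : ∃ n, planeMap l0 l1 e n ∈ U ∧ n 2 ≠ 0 := by
        by_contra! h
        refine nU (Submodule.eq_of_le_of_finrank_eq (fun u hu => ?_) (r.trans hL2.symm))
        obtain ⟨x, rfl⟩ := sU hu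
        rw [planeMap_apply, h x hu, zero_smul, add_zero]
        exact L.add_mem (L.smul_mem _ (bL 0).2) (L.smul_mem _ (bL 1).2)
      refine ⟨fun x hx => ?_, hr⟩
      have hz : ∀ y, planeMap l0 l1 e y ∈ U → y 2 * Qf F l0 l1 e y = 0 := fun y hy => by
        rw [← aeval_plane_line hF hL]; exact vU _ hy
      rcases eq_or_ne (x 2) 0 with hx2 | hx2
      · have hqn := (mul_eq_zero.1 (hz n hn)).resolve_left hn2
        have hr : ∀ r : K, r ≠ 0 → Qf F l0 l1 e x + r * Bc F l0 l1 e x n = 0 := fun r hr => by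
          have := hz (x + r • n) (by rw [map_add, map_smul]; exact U.add_mem hx (U.smul_mem _ hn))
          rw [Qf_add, hqn, mul_zero, add_zero] at this
          refine (mul_eq_zero.1 this).resolve_left ?_
          simp [hx2, hr, hn2]
        have a := hr 1 one_ne_zero; have b := hr (-1) (by norm_num)
        linear_combination (1 / 2 : K) * a + (1 / 2 : K) * b
      · exact (mul_eq_zero.1 (hz x hx)).resolve_left hx2
    obtain ⟨q1, f1⟩ := pull L' r1 n1 s1 v1
    obtain ⟨q2, f2⟩ := pull L'' r2 n2 s2 v2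
    set N1 := L'.comap (planeMap l0 l1 e)
    set N2 := L''.comap (planeMap l0 l1 e)
    have hne : N1 ≠ N2 := fun h => n12 (by
      rw [← Submodule.map_comap_eq_of_le s1, ← Submodule.map_comap_eq_of_le s2]; exact congrArg _ h)
    have hinf : 1 ≤ Module.finrank K ↥(N1 ⊓ N2) := by
      have := Submodule.finrank_sup_add_finrank_inf_eq N1 N2
      have h3 := Submodule.finrank_le (N1 ⊔ N2)
      simp at h3
      omega
    have hsup : N1 ⊔ N2 = ⊤ := by
      have hlt : N1 < N1 ⊔ N2 := lt_of_le_of_ne le_sup_left fun h =>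
        hne (Submodule.eq_of_le_of_finrank_eq (h ▸ le_sup_right : N2 ≤ N1) (f2.trans f1.symm)).symm
      have h1 := Submodule.finrank_lt_finrank_of_lt hlt
      have h3 := Submodule.finrank_le (N1 ⊔ N2)
      simp at h3
      exact Submodule.eq_top_of_finrank_eq (by simp; omega)
    obtain ⟨v, hv, hv0⟩ : ∃ v ∈ N1 ⊓ N2, v ≠ 0 := Submodule.exists_mem_ne_zero_of_ne_bot fun h => by
      rw [h] at hinf; simp at hinf
    rw [← Matrix.exists_mulVec_eq_zero_iff]
    refine ⟨v, hv0, funext fun i => ?_⟩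
    have polar : ∀ (N : Submodule K (Fin 3 → K)), (∀ x ∈ N, Qf F l0 l1 e x = 0) → ∀ x ∈ N, ∀ y ∈ N, Bc F l0 l1 e x y = 0 := by
      intro N hN x hx y hy
      have := hN _ (N.add_mem hx (N.smul_mem (1 : K) hy))
      rw [Qf_add, hN x hx, hN y hy] at this
      linear_combination this
    obtain ⟨a, ha, b, hb, hab⟩ := Submodule.mem_sup.1 (hsup ▸ Submodule.mem_top : (Pi.single i 1 : Fin 3 → K) ∈ N1 ⊔ N2)
    have e0 : Bc F l0 l1 e (Pi.single i 1) v = 0 := by
      rw [← hab]
      have hadd : Bc F l0 l1 e (a + b) v = Bc F l0 l1 e a v + Bc F l0 l1 e b v := by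
        simp [Bc, add_mul, Finset.sum_add_distrib]
      rw [hadd, polar N1 q1 a ha v hv.1, polar N2 q2 b hb v hv.2, add_zero]
    simpa [Bc, Matrix.mulVec, dotProduct, Pi.single_apply] using e0
  rw [show {H : Submodule K (Fin 4 → K) | _} = Hp '' (Δ.roots.toFinset : Set K) from ?_]
  · rw [Set.ncard_image_of_injective _ hHinj, Set.ncard_coe_finset, hcard]
  ext H
  simp only [Set.mem_setOf_eq, Set.mem_image, Finset.mem_coe, Multiset.mem_toFinset, Polynomial.mem_roots hΔ0, Polynomial.IsRoot]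
  simp only [hΔ, discPoly_eval]
  constructor
  · rintro ⟨h3, hLH, L', L'', r1, r2, n1, n2, n12, s1, s2, v1, v2⟩
    obtain ⟨h, hh, hhL⟩ : ∃ h ∈ H, h ∉ L := by
      by_contra! hc
      have := Submodule.finrank_mono (hc : H ≤ L)
      omega
    have hspan : Submodule.span K (Set.range ![l0, l1, e2, e3]) = ⊤ := hli.span_eq_top_of_card_eq_finrank (by simp)
    obtain ⟨c, hc⟩ := (Submodule.mem_span_range_iff_exists_fun K).1 (hspan.symm ▸ Submodule.mem_top : h ∈ Submodule.span K (Set.range ![l0, l1, e2, e3]))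
    simp [Fin.sum_univ_four] at hc
    have hc23 : ¬ (c 2 = 0 ∧ c 3 = 0) := fun h' => hhL (by
      rw [← hc, h'.1, h'.2, zero_smul, zero_smul, add_zero, add_zero]
      exact L.add_mem (L.smul_mem _ (bL 0).2) (L.smul_mem _ (bL 1).2))
    have heH : c 2 • e2 + c 3 • e3 ∈ H := by
      have : c 2 • e2 + c 3 • e3 = h - (c 0 • l0 + c 1 • l1) := by rw [← hc]; abel
      rw [this]
      exact H.sub_mem hh (hLH (L.add_mem (L.smul_mem _ (bL 0).2) (L.smul_mem _ (bL 1).2)))
    have range_eq : ∀ e e', LinearIndependent K ![l0, l1, e, e'] → e ∈ H → H = LinearMap.range (planeMap l0 l1 e) := by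
      intro e e' hi he
      refine (Submodule.eq_of_le_of_finrank_eq ?_ ?_).symm
      · rintro _ ⟨x, rfl⟩
        rw [planeMap_apply]
        exact H.add_mem (hLH (L.add_mem (L.smul_mem _ (bL 0).2) (L.smul_mem _ (bL 1).2))) (H.smul_mem _ he)
      · rw [LinearMap.finrank_range_of_inj (planeMap_injective hi), h3]; simp
    rcases eq_or_ne (c 2) 0 with h20 | h20
    · exfalso
      have h30 : c 3 ≠ 0 := fun h' => hc23 ⟨h20, h'⟩
      have he : e3 ∈ H := by
        have := H.smul_mem (c 3)⁻¹ heH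
        rwa [h20, zero_smul, zero_add, smul_smul, inv_mul_cancel₀ h30, one_smul] at this
      have hi : LinearIndependent K ![l0, l1, e3, e2] := by
        rw [Fintype.linearIndependent_iff] at hli ⊢
        intro g hg
        simp [Fin.sum_univ_four] at hg
        have := hli ![g 0, g 1, g 3, g 2] (by simp [Fin.sum_univ_four]; linear_combination (norm := module) hg)
        intro i; fin_cases i
        · simpa using this 0
        · simpa using this 1
        · simpa using this 3
        · simpa using this 2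
      have hH := range_eq e3 e2 hi he
      exact he3 (hgood e3 e2 hi L' L'' r1 r2 n1 n2 n12 (hH ▸ s1) (hH ▸ s2) v1 v2)
    · have he : e2 + (c 3 / c 2) • e3 ∈ H := by
        have := H.smul_mem (c 2)⁻¹ heH
        rwa [smul_add, smul_smul, inv_mul_cancel₀ h20, one_smul, smul_smul, inv_mul_eq_div] at this
      have hH := range_eq _ e3 (hindep _) he
      exact ⟨c 3 / c 2, hgood _ e3 (hindep _) L' L'' r1 r2 n1 n2 n12 (hH ▸ s1) (hH ▸ s2) v1 v2, hH.symm⟩
  · rintro ⟨t, ht, rfl⟩
    obtain ⟨-, m₁, m₂, hm1, hm2, h12, hQm, hp1, hp2⟩ := degenerate_plane hF hsm (hindep t) hL ht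
    have hj := planeMap_injective (hindep t)
    set φ := planeMap l0 l1 (e2 + t • e3)
    have hkr : ∀ m : (Fin 3 → K) →ₗ[K] K, m ≠ 0 → Module.finrank K ↥((LinearMap.ker m).map φ) = 2 := by
      intro m hm
      rw [← (Submodule.equivMapOfInjective φ hj (LinearMap.ker m)).finrank_eq]
      have h1 := LinearMap.finrank_range_add_finrank_ker m
      have h2 : Module.finrank K (LinearMap.range m) = 1 := by
        refine le_antisymm ((Submodule.finrank_le _).trans (by simp)) (Nat.one_le_iff_ne_zero.2 fun h => hm ?_)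
        exact LinearMap.range_eq_bot.1 (Submodule.finrank_eq_zero.1 h)
      simp [h2] at h1
      omega
    have hLeq : L = (LinearMap.ker (LinearMap.proj 2 : (Fin 3 → K) →ₗ[K] K)).map φ := by
      refine Submodule.eq_of_le_of_finrank_eq ?_ ?_
      · rw [hLspan, Submodule.span_le]
        rintro _ ⟨i, rfl⟩
        fin_cases i
        · exact ⟨![1, 0, 0], by simp, by simp [φ, planeMap_apply]⟩
        · exact ⟨![0, 1, 0], by simp, by simp [φ, planeMap_apply]⟩
      · rw [hL2, hkr _ fun h => by simpa using LinearMap.congr_fun h (Pi.single 2 1)]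
    have hminj : ∀ a b : Submodule K (Fin 3 → K), a.map φ = b.map φ → a = b := fun a b h => Submodule.map_injective_of_injective hj h
    refine ⟨?_, hLle _, (LinearMap.ker m₁).map φ, (LinearMap.ker m₂).map φ, hkr _ hm1, hkr _ hm2, ?_, ?_, ?_,
      LinearMap.map_le_range, LinearMap.map_le_range, ?_, ?_⟩
    · rw [LinearMap.finrank_range_of_inj hj]; simp
    · rw [hLeq]; exact fun h => hp1 (hminj _ _ h)
    · rw [hLeq]; exact fun h => hp2 (hminj _ _ h)
    · exact fun h => h12 (hminj _ _ h)
    · rintro _ ⟨x, hx, rfl⟩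
      rw [planeMap_apply, aeval_plane_line hF hL, hQm, LinearMap.mem_ker.1 hx]; ring
    · rintro _ ⟨x, hx, rfl⟩
      rw [planeMap_apply, aeval_plane_line hF hL, hQm, LinearMap.mem_ker.1 hx]; ring

end Groth.Agent.CubicPts
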